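import Cfsg.Agent.Lib.LocalEven.Baumann.Inclusion

/-!
A block moving `W_E` of a subnormal block lies in it.
-/

set_option autoImplicit false
set_option linter.unusedSectionVars false

namespace CfsgLib.LocalEven.Baumann

open Subgroup CfsgLib.LocalEven CfsgLib.PLocal
open scoped commutatorElement

variable {G : Type*} [Group G] [Finite G] {p : ℕ} [Fact p.Prime]
variable {T₀ : Sylow p G} {E : Subgroup G} {T : Sylow p G} {K : Subgroup G}
variable (hG : centralizer (Cfsg.pCore p G : Set G) ≤ Cfsg.pCore p G)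
  (hE : Cfsg.IsBaumannBlock p (T₀ : Subgroup G) E) (hEs : E.IsSubnormal)
  (hK : Cfsg.IsBaumannBlock p (T : Subgroup G) K) (hmove : ¬ K ≤ centralizer (WE p E : Set G))
include hG hE hEs hK hmove

theorem inf_ww_le_zz : QE p K ⊓ centralizer (E : Set G) ⊓ WW p K ≤ ZZ p K := by
  have hKN := block_le_normalizer hG hE hEs hK
  set Y := QE p K ⊓ centralizer (E : Set G) ⊓ WW p K with hY
  have hKY : K ≤ normalizer (Y : Set G) := fun f hf => mem_normalizer_inf
    (mem_normalizer_inf (mem_normalizer_pCoreOf (le_normalizer hf))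
      (normalizer_le_normalizer_centralizer _ (hKN hf))) (mem_normalizer_WW (le_normalizer hf))
  obtain ⟨hirr, -, -⟩ := BlockModule.irred_and_faithful hK
  rcases hirr (ZZ p K ⊔ Y) le_sup_left (sup_le inf_le_left inf_le_right) (fun f hf =>
    mem_normalizer_sup (mem_normalizer_ZZ (le_normalizer hf)) (hKY hf)) with h | h
  · exact le_sup_right.trans h.le
  exfalso
  have hWC : WE p K ≤ centralizer (E : Set G) := by
    conv_lhs => rw [← we_commutator hG hK]
    rw [commutator_le]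
    intro u hu f hf
    have hu' : u ∈ ZZ p K ⊔ Y := h.ge (we_le_ww K hu)
    rw [sup_comm, ← SetLike.mem_coe, coe_mul_of_left_le_normalizer_right Y (ZZ p K)
      (fun y hy => mem_normalizer_ZZ (le_normalizer (ww_le_self K hy.2)))] at hu'
    obtain ⟨y, hy, z, hz, rfl⟩ := Set.mem_mul.1 hu'
    rw [show ⁅y * z, f⁆ = y * (f * y⁻¹ * f⁻¹) by
      simp only [commutatorElement_def]
      calc y * z * f * (y * z)⁻¹ * f⁻¹ = y * (z * f * z⁻¹) * y⁻¹ * f⁻¹ := by group
        _ = _ := by rw [zz_commute hz hf, mul_inv_cancel_right]; group]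
    exact (mul_mem hy ((mem_normalizer_iff.1 (hKY hf) _).1 (inv_mem hy))).1.2
  refine hmove fun f hf => mem_centralizer_we_of_we hG hE (hKN hf) fun v hv => ?_
  have h1 : f * v * f⁻¹ * v⁻¹ ∈ WE p E :=
    mul_mem ((mem_normalizer_iff.1 (mem_normalizer_WE (hKN hf)) v).1 hv) (inv_mem hv)
  refine Subgroup.mem_inf.2 ⟨we_le_ww E h1, ?_⟩
  have h2 := hWC (vv_commutator_mem hG hK (we_le_vv hG hE hv) hf)
  have h3 := inv_mem h2
  rw [show (v * f * v⁻¹ * f⁻¹)⁻¹ = f * v * f⁻¹ * v⁻¹ by group] at h3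
  exact h3

/-- The part of `O_p(K)` centralized by `E` is central in `K`. -/
theorem core_inf_le_zz : QE p K ⊓ centralizer (E : Set G) ≤ ZZ p K := by
  have hA := inf_ww_le_zz hG hE hEs hK hmove
  have hKN := block_le_normalizer hG hE hEs hK
  set K₁ := QE p K ⊓ centralizer (E : Set G) with hK₁
  suffices h : K₁ ≤ WW p K from fun x hx => hA ⟨hx, h hx⟩
  rcases shape hG hK with ⟨F, fF, fin, n, hn, hcard, ⟨D⟩, hQ | ⟨hp, ⟨Dt⟩, hcomm, hcen, hquad⟩⟩ | ⟨-, m, -, -, hQ⟩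
  · exact inf_le_left.trans hQ.le
  swap
  · exact inf_le_left.trans hQ.le
  haveI := CfsgLib.LocalEven.Natural.charP_of_card (p := p) hcard
  have h2F : (2 : F) ≠ 0 := CfsgLib.Classical.two_ne_zero_of_odd_card (by
    rw [Nat.card_eq_fintype_card, hcard, hp]; exact Odd.pow (by decide))
  rcases Dt.irred K₁ inf_le_left (fun f hf => mem_normalizer_inf (mem_normalizer_pCoreOf (le_normalizer hf))
    (normalizer_le_normalizer_centralizer _ (hKN hf))) with h | h
  · exact h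
  exfalso
  obtain ⟨b, hbJ, hbW⟩ := exists_jElt hG hK
  have hb : b ∈ Cfsg.baumannSubgroupOf p (T : Subgroup G) := thompson_le_baumann _ hbJ
  obtain ⟨k, hk⟩ := T.2 ⟨b, hb.1⟩
  have hbk : b ^ p ^ k = 1 := by simpa using congrArg Subtype.val hk
  have hbK := baumann_le_normalizer hK hb
  have hbE := baumannOf_le_normalizer hG hE hEs T hb
  -- `W_E ∩ W_K` covers `W / Z` of `K`
  set X := WE p E ⊓ WE p K with hX
  have hXW : X ≤ WW p K := inf_le_right.trans (we_le_ww K)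
  have hcov : WW p K ≤ X ⊔ ZZ p K := by
    refine (D.irred X hXW fun f hf => mem_normalizer_inf (mem_normalizer_WE (hKN hf))
      (mem_normalizer_WE (le_normalizer hf))).resolve_left fun hle => hmove ?_
    refine le_of_coprime_mem hK fun f hf hco => mem_centralizer_iff.2 fun v hv => ?_
    have h1 : f * v * f⁻¹ * v⁻¹ ∈ X := by
      refine Subgroup.mem_inf.2 ⟨mul_mem ((mem_normalizer_iff.1 (mem_normalizer_WE (hKN hf)) v).1 hv) (inv_mem hv), ?_⟩
      have := inv_mem (vv_commutator_mem hG hK (we_le_vv hG hE hv) hf)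
      rwa [show (v * f * v⁻¹ * f⁻¹)⁻¹ = f * v * f⁻¹ * v⁻¹ by group] at this
    exact (comm_eq_of_coprime hco (z := f * v * f⁻¹ * v⁻¹) (by group) (zz_commute (hle h1) hf).symm
      (isPGroup_QE E) (ww_le E (we_le_ww E h1.1))).symm
  -- `b` is quadratic on `W / Z` of `E`
  have hquadE : ∀ v ∈ WE p E, b * (b * v * b⁻¹ * v⁻¹) * b⁻¹ * (b * v * b⁻¹ * v⁻¹)⁻¹ ∈ ZZ p E := by
    rcases shape hG hE with ⟨F', fF', fin', n', hn', hcard', ⟨D'⟩, -⟩ | ⟨hp', -⟩
    swap
    · omega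
    haveI := CfsgLib.LocalEven.Natural.charP_of_card (p := p) hcard'
    have hbn := mem_bot_nrm D' hbE
    obtain ⟨M, hM, hM2⟩ := exists_SL_of_isLin D'.S hbn (baumann_isLin hG hE hEs hn' hcard' D' T hb) hbk
    intro v hv
    have hvW := we_le_ww E hv
    have h1 : b * v * b⁻¹ * v⁻¹ ∈ WW p E := mul_mem (D'.S.conj_mem hbn hvW) (inv_mem hvW)
    rw [← D'.S.f_eq_iff (D'.S.conj_mem hbn h1) h1, ← D'.S.act_f hbn h1,
      D'.S.map_mul _ (D'.S.conj_mem hbn hvW) _ (inv_mem hvW), ← D'.S.act_f hbn hvW, D'.S.f_inv hvW, hM,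
      mv_apply, mv_apply, ← sub_eq_add_neg]
    have h0 : ((M.1 - 1) * (M.1 - 1)).mulVec (D'.S.f v) = 0 := by rw [hM2, Matrix.zero_mulVec]
    rw [← Matrix.mulVec_mulVec, Matrix.sub_mulVec, Matrix.one_mulVec, Matrix.sub_mulVec, Matrix.one_mulVec] at h0
    exact sub_eq_zero.1 h0
  let θ : G → G := fun q => b * (b * q * b⁻¹ * q⁻¹) * b⁻¹ * (b * q * b⁻¹ * q⁻¹)⁻¹
  have hbQ : ∀ q ∈ QE p K, b * q * b⁻¹ ∈ QE p K := fun q hq =>
    (mem_normalizer_iff.1 (mem_normalizer_pCoreOf hbK) q).1 hq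
  have hθmem : ∀ (X : Subgroup G), b ∈ normalizer (X : Set G) → ∀ q ∈ X, θ q ∈ X := fun X hbX q hq => by
    have h1 : b * q * b⁻¹ * q⁻¹ ∈ X := mul_mem ((mem_normalizer_iff.1 hbX q).1 hq) (inv_mem hq)
    exact mul_mem ((mem_normalizer_iff.1 hbX _).1 h1) (inv_mem h1)
  have hθmul : ∀ x ∈ QE p K, ∀ w ∈ WW p K, θ (x * w) = θ x * θ w := by
    intro x hx w hw
    set Xc := b * x * b⁻¹ * x⁻¹ with hXc
    have hXQ : Xc ∈ QE p K := mul_mem (hbQ x hx) (inv_mem hx)
    have hY : b * w * b⁻¹ * w⁻¹ ∈ WW p K :=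
      mul_mem ((mem_normalizer_iff.1 (mem_normalizer_WW hbK) w).1 hw) (inv_mem hw)
    have e1 : b * (x * w) * b⁻¹ * (x * w)⁻¹ = Xc * (b * w * b⁻¹ * w⁻¹) := by
      calc b * (x * w) * b⁻¹ * (x * w)⁻¹ = Xc * (x * (b * w * b⁻¹ * w⁻¹) * x⁻¹) := by rw [hXc]; group
        _ = _ := by rw [← ww_commute hY hx, mul_inv_cancel_right]
    have hθw : θ w ∈ WW p K := hθmem _ (mem_normalizer_WW hbK) w hw
    show b * (b * (x * w) * b⁻¹ * (x * w)⁻¹) * b⁻¹ * (b * (x * w) * b⁻¹ * (x * w)⁻¹)⁻¹ = _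
    rw [e1]
    calc b * (Xc * (b * w * b⁻¹ * w⁻¹)) * b⁻¹ * (Xc * (b * w * b⁻¹ * w⁻¹))⁻¹
        = b * Xc * b⁻¹ * (θ w * Xc⁻¹) := by show _ = _ * (_ * _); simp only [θ]; group
      _ = (b * Xc * b⁻¹ * Xc⁻¹) * θ w := by rw [ww_commute hθw (inv_mem hXQ)]; group
      _ = _ := rfl
  -- on `W`
  have hθW : ∀ w ∈ WW p K, θ w ∈ ZZ p K := by
    intro w hw
    have hw' := hcov hw
    rw [← SetLike.mem_coe, coe_mul_of_left_le_normalizer_right X (ZZ p K)
      (fun x hx => mem_normalizer_ZZ (le_normalizer (we_le_self K hx.2)))] at hw'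
    obtain ⟨u, hu, z, hz, rfl⟩ := Set.mem_mul.1 hw'
    rw [hθmul u (ww_le K (hXW hu)) z (zz_le_ww K hz)]
    refine mul_mem ?_ (hθmem _ (mem_normalizer_ZZ hbK) z hz)
    have hθu : θ u ∈ WW p K := hθmem _ (mem_normalizer_WW hbK) u (hXW hu)
    exact hA ⟨⟨ww_le K hθu, (hquadE u hu.1).2⟩, hθu⟩
  -- `b` is linear on `W / Z` of `K`
  have hbn := mem_bot_nrm D hbK
  obtain ⟨σ, hσ⟩ := D.exists_semilinear (four_le_or_prime hn hcard) hbK hbn
  have hlin : IsLin (D.S.act b) := by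
    refine isLin_of_quad h2F (D.S.act_injective_apply hbn) σ hσ fun v => ?_
    obtain ⟨w, hw, rfl⟩ := D.S.surj v
    have h1 : b * w * b⁻¹ * w⁻¹ ∈ WW p K := mul_mem (D.S.conj_mem hbn hw) (inv_mem hw)
    rw [D.S.act_f hbn hw, sub_eq_add_neg, ← D.S.f_inv hw, ← D.S.map_mul _ (D.S.conj_mem hbn hw) _ (inv_mem hw),
      D.S.act_f hbn h1, D.S.f_eq_iff (D.S.conj_mem hbn h1) h1]
    exact hθW w hw
  obtain ⟨M, hM, hM2⟩ := exists_SL_of_isLin Dt.S (mem_top_nrm Dt hbK) (top_isLin hG hK hn hcard D Dt hbK hlin hbk) hbk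
  have hθQ : ∀ q ∈ QE p K, θ q ∈ WW p K := by
    intro q hq
    have hbn' := mem_top_nrm Dt hbK
    have h1 : b * q * b⁻¹ * q⁻¹ ∈ QE p K := mul_mem (hbQ q hq) (inv_mem hq)
    show b * (b * q * b⁻¹ * q⁻¹) * b⁻¹ * (b * q * b⁻¹ * q⁻¹)⁻¹ ∈ _
    rw [← Dt.S.f_eq_iff (Dt.S.conj_mem hbn' h1) h1, ← Dt.S.act_f hbn' h1,
      Dt.S.map_mul _ (Dt.S.conj_mem hbn' hq) _ (inv_mem hq), ← Dt.S.act_f hbn' hq, Dt.S.f_inv hq, hM,
      mv_apply, mv_apply, ← sub_eq_add_neg]
    have h0 : ((M.1 - 1) * (M.1 - 1)).mulVec (Dt.S.f q) = 0 := by rw [hM2, Matrix.zero_mulVec]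
    rw [← Matrix.mulVec_mulVec, Matrix.sub_mulVec, Matrix.one_mulVec, Matrix.sub_mulVec, Matrix.one_mulVec] at h0
    exact sub_eq_zero.1 h0
  refine hquad b hb (fun hc => hbW (centralizer_le (we_le_ww K) hc)) ?_
  rw [hcen]
  refine commutator_commutator_le_of_quad (mem_normalizer_pCoreOf hbK) (mem_normalizer_ZZ hbK)
    (fun x hx => mem_normalizer_ZZ (le_normalizer (pCoreOf_le p K hx))) (fun x hx y hy => ?_) fun q hq => ?_
  · refine hcomm.le ?_
    rw [← commutatorElement_def]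
    exact commutator_mem_commutator hx hy
  · have hq' := h hq
    rw [← SetLike.mem_coe, coe_mul_of_left_le_normalizer_right K₁ (WW p K)
      (fun x hx => mem_normalizer_WW (le_normalizer (pCoreOf_le p K hx.1)))] at hq'
    obtain ⟨x, hx, w, hw, rfl⟩ := Set.mem_mul.1 hq'
    show θ (x * w) ∈ _
    rw [hθmul x hx.1 w hw]
    have hbK1 : b ∈ normalizer (K₁ : Set G) :=
      mem_normalizer_inf (mem_normalizer_pCoreOf hbK) (normalizer_le_normalizer_centralizer _ hbE)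
    exact mul_mem (hA ⟨hθmem _ hbK1 x hx, hθQ x hx.1⟩) (hθW w hw)

/-- A block moving `W_E` lies in `E`. -/
theorem le_of_moves : K ≤ E := by
  have hKN := block_le_normalizer hG hE hEs hK
  have hZ := core_inf_le_zz hG hE hEs hK hmove
  haveI : (OO p G).Normal := inferInstance
  have hcen : ∀ d ∈ E ⊔ K, d ∈ centralizer (E : Set G) → (orderOf d).Coprime p → d = 1 := by
    intro d hd hdE hco
    rw [← SetLike.mem_coe, sup_comm, coe_mul_of_left_le_normalizer_right K E hKN] at hd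
    obtain ⟨f, hf, e, he, rfl⟩ := Set.mem_mul.1 hd
    -- it fixes the part of `O_p(G)` centralized by `E`
    have hfix : ∀ c ∈ OO p G, c ∈ centralizer (E : Set G) → f * e * c = c * (f * e) := by
      intro c hc hcE
      have hec : e * c = c * e := mem_centralizer_iff.1 hcE e he
      have hz1 : f * e * c * (f * e)⁻¹ * c⁻¹ ∈ QE p K := by
        rw [show f * e * c * (f * e)⁻¹ * c⁻¹ = f * (e * c * e⁻¹) * f⁻¹ * c⁻¹ by group, hec, mul_inv_cancel_right]
        have := inv_mem (oo_commutator_le hG hK hc hf)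
        rwa [show (c * f * c⁻¹ * f⁻¹)⁻¹ = f * c * f⁻¹ * c⁻¹ by group] at this
      have hz2 : f * e * c * (f * e)⁻¹ * c⁻¹ ∈ centralizer (E : Set G) :=
        mul_mem (mul_mem (mul_mem hdE hcE) (inv_mem hdE)) (inv_mem hcE)
      set z := f * e * c * (f * e)⁻¹ * c⁻¹ with hz
      refine comm_eq_of_coprime hco (z := z) (by rw [hz]; group) ?_ (isPGroup_QE K) hz1
      have h1 := zz_commute (hZ ⟨hz1, hz2⟩) hf
      have h2 : e * z = z * e := mem_centralizer_iff.1 hz2 e he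
      rw [mul_assoc, h2, ← mul_assoc, ← h1, mul_assoc]
    have hall : ∀ o ∈ OO p G, f * e * o = o * (f * e) := by
      intro o ho
      have hoN := oo_le_normalizer hG hE ho
      have hzO : f * e * o * (f * e)⁻¹ * o⁻¹ ∈ OO p G :=
        mul_mem ((inferInstance : (OO p G).Normal).conj_mem o ho _) (inv_mem ho)
      have hzE : f * e * o * (f * e)⁻¹ * o⁻¹ ∈ centralizer (E : Set G) := by
        rw [show f * e * o * (f * e)⁻¹ * o⁻¹ = (f * e) * (o * (f * e)⁻¹ * o⁻¹) by group]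
        exact mul_mem hdE ((mem_normalizer_iff.1 (normalizer_le_normalizer_centralizer _ hoN) _).1 (inv_mem hdE))
      exact comm_eq_of_coprime hco (z := f * e * o * (f * e)⁻¹ * o⁻¹) (by group) (hfix _ hzO hzE) isPGroup_OO hzO
    obtain ⟨k, hk⟩ := isPGroup_OO ⟨_, mem_OO_of_centralizes hG hall⟩
    exact orderOf_eq_one_iff.1 (Nat.eq_one_of_dvd_coprimes (hco.pow_right k) dvd_rfl
      (orderOf_dvd_of_pow_eq_one (by simpa using congrArg Subtype.val hk)))
  refine le_of_coprime_mem hK fun x hx hco => ?_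
  obtain ⟨e, he, c, hc, rfl⟩ := (mem_sup_of_normal inf_le_left).1 (coprime_mem_sup hG hE hEs hK hx hco)
  have hcd : c ∈ E ⊔ K := by
    have := mul_mem (mem_sup_left (inv_mem he) : e⁻¹ ∈ E ⊔ K) (mem_sup_right hx : e * c ∈ E ⊔ K)
    rwa [inv_mul_cancel_left] at this
  set a := (orderOf c).factorization p with ha
  have hco' : (orderOf (c ^ p ^ a)).Coprime p := by
    rw [orderOf_pow' _ (pow_ne_zero _ (Fact.out : p.Prime).ne_zero), Nat.gcd_eq_right (Nat.ordProj_dvd _ _)]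
    exact ((Nat.Prime.coprime_iff_not_dvd Fact.out).2
      (Nat.not_dvd_ordCompl Fact.out (orderOf_pos _).ne')).symm
  have h1 := hcen _ (pow_mem hcd _) (pow_mem hc.2 _) hco'
  refine mem_of_pow_mem (hco.pow_right a) ?_
  rw [(show Commute e c from mem_centralizer_iff.1 hc.2 e he).mul_pow, h1, mul_one]
  exact pow_mem he _

omit hmove

/-- Every block lies in a subnormal block or centralizes it. -/
theorem le_or_commute : K ≤ E ∨ ⁅K, E⁆ = ⊥ := by
  by_cases h : K ≤ centralizer (WE p E : Set G)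
  · right
    rw [commutator_eq_bot_iff_le_centralizer]
    exact commutes_of_centralizes hG hE hEs hK h
  · exact Or.inl (le_of_moves hG hE hEs hK h)

end CfsgLib.LocalEven.Baumann
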