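import Cfsg.Agent.Lib.KnownA.AutAlt
import Mathlib.Data.ZMod.Basic
import Mathlib.NumberTheory.Padics.PadicVal.Basic

/-!
The even-weight module of the alternating group of odd degree.
-/

set_option autoImplicit false

namespace CfsgLib.LocalEven.Baumann

open Equiv Equiv.Perm

/-- The vectors of even weight. -/
def evn (n : ℕ) : AddSubgroup (Fin n → ZMod 2) where
  carrier := {v | ∑ i, v i = 0}
  zero_mem' := by simp
  add_mem' {a b} ha hb := by
    show ∑ i, (a + b) i = 0
    simp only [Pi.add_apply, Finset.sum_add_distrib]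
    rw [show ∑ i, a i = 0 from ha, show ∑ i, b i = 0 from hb, add_zero]
  neg_mem' {a} ha := by
    show ∑ i, (-a) i = 0
    simp only [Pi.neg_apply, Finset.sum_neg_distrib]
    rw [show ∑ i, a i = 0 from ha, neg_zero]

/-- A permutation acting on the even-weight vectors. -/
def pa {n : ℕ} (σ : Perm (Fin n)) : AddMonoid.End (evn n) where
  toFun v := ⟨fun i => (v : Fin n → ZMod 2) (σ⁻¹ i), by
    show ∑ i, (v : Fin n → ZMod 2) (σ⁻¹ i) = 0
    rw [Equiv.sum_comp σ⁻¹ (v : Fin n → ZMod 2)]; exact v.2⟩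
  map_zero' := rfl
  map_add' _ _ := rfl

theorem pa_apply {n : ℕ} (σ : Perm (Fin n)) (v : evn n) (i : Fin n) :
    ((pa σ v : evn n) : Fin n → ZMod 2) i = (v : Fin n → ZMod 2) (σ⁻¹ i) := rfl

theorem pa_mul {n : ℕ} (σ τ : Perm (Fin n)) : pa (σ * τ) = pa σ * pa τ := rfl

theorem pa_one {n : ℕ} : pa (1 : Perm (Fin n)) = 1 := rfl

variable {m : ℕ}

/-- The vector of weight `2 m` missing the point `i`. -/
def fPt (i : Fin (2 * m + 1)) : evn (2 * m + 1) :=
  ⟨fun j => if j = i then 0 else 1, by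
    show ∑ j, (if j = i then (0 : ZMod 2) else 1) = 0
    rw [Finset.sum_ite, Finset.sum_const_zero, zero_add, Finset.sum_const, Finset.filter_ne',
      Finset.card_erase_of_mem (Finset.mem_univ i), Finset.card_univ, Fintype.card_fin, nsmul_one]
    simp [show (2 : ZMod 2) = 0 from rfl]⟩

theorem fPt_apply (i j : Fin (2 * m + 1)) :
    ((fPt i : evn (2 * m + 1)) : Fin (2 * m + 1) → ZMod 2) j = if j = i then 0 else 1 := rfl

theorem pa_fPt (σ : Perm (Fin (2 * m + 1))) (i : Fin (2 * m + 1)) : pa σ (fPt i) = fPt (σ i) := by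
  apply Subtype.ext
  funext j
  rw [pa_apply, fPt_apply, fPt_apply]
  simp only [Perm.inv_def, Equiv.symm_apply_eq]

theorem fPt_ne_zero (hm : 0 < m) (i : Fin (2 * m + 1)) : fPt i ≠ 0 := by
  intro h
  obtain ⟨j, hj⟩ : ∃ j, j ≠ i := by
    have : Nontrivial (Fin (2 * m + 1)) := Fin.nontrivial_iff_two_le.2 (by omega)
    exact exists_ne i
  have := congrArg (fun v : evn (2 * m + 1) => (v : Fin (2 * m + 1) → ZMod 2) j) h
  simp [fPt_apply, hj] at this

theorem sum_fPt : ∑ i : Fin (2 * m + 1), fPt i = 0 := by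
  apply Subtype.ext
  funext j
  rw [AddSubmonoidClass.coe_finsetSum, Finset.sum_apply, ZeroMemClass.coe_zero, Pi.zero_apply]
  simp only [fPt_apply]
  rw [Finset.sum_ite, Finset.sum_const_zero, zero_add, Finset.sum_const, Finset.filter_ne,
    Finset.card_erase_of_mem (Finset.mem_univ j), Finset.card_univ, Fintype.card_fin, nsmul_one]
  simp [show (2 : ZMod 2) = 0 from rfl]

theorem eq_sum_fPt (v : evn (2 * m + 1)) :
    v = ∑ i, ((v : Fin (2 * m + 1) → ZMod 2) i).val • fPt i := by
  apply Subtype.ext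
  funext j
  rw [AddSubmonoidClass.coe_finsetSum, Finset.sum_apply]
  simp only [AddSubmonoidClass.coe_nsmul, Pi.smul_apply, fPt_apply, nsmul_eq_mul, ZMod.natCast_val,
    ZMod.cast_id', id_eq, mul_ite, mul_zero, mul_one]
  rw [Finset.sum_ite, Finset.sum_const_zero, zero_add, Finset.filter_ne]
  have h := Finset.add_sum_erase Finset.univ (fun i => (v : Fin (2 * m + 1) → ZMod 2) i) (Finset.mem_univ j)
  rw [show ∑ i, (v : Fin (2 * m + 1) → ZMod 2) i = 0 from v.2] at h
  exact ((CharTwo.add_eq_zero.1 h) : _)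

/-- The vectors fixed by the alternating group of the other points. -/
theorem fixed_eq (hm : 2 ≤ m) (i : Fin (2 * m + 1)) (v : evn (2 * m + 1))
    (h : ∀ σ ∈ alternatingGroup (Fin (2 * m + 1)), σ i = i → pa σ v = v) : v = 0 ∨ v = fPt i := by
  set f := (v : Fin (2 * m + 1) → ZMod 2) with hf
  have hconst : ∀ a b, a ≠ i → b ≠ i → f a = f b := by
    intro a b ha hb
    rcases eq_or_ne a b with rfl | hab
    · rfl
    obtain ⟨c, -, hc⟩ := Finset.exists_mem_notMem_of_card_lt_card
      (s := ({a, b, i} : Finset (Fin (2 * m + 1)))) (t := Finset.univ)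
      (Finset.card_le_three.trans_lt (by simp; omega))
    simp only [Finset.mem_insert, Finset.mem_singleton, not_or] at hc
    have hmem : swap a b * swap b c ∈ alternatingGroup (Fin (2 * m + 1)) := by
      rw [Perm.mem_alternatingGroup, map_mul, sign_swap hab, sign_swap (Ne.symm hc.2.1)]; rfl
    have := h _ hmem (by
      simp [Equiv.swap_apply_of_ne_of_ne ha.symm hb.symm, Equiv.swap_apply_of_ne_of_ne hb.symm (Ne.symm hc.2.2)])
    have e := congrArg (fun w : evn (2 * m + 1) => (w : Fin (2 * m + 1) → ZMod 2) b) this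
    simp only [pa_apply, mul_inv_rev, swap_inv, Perm.mul_apply, Equiv.swap_apply_right,
      Equiv.swap_apply_of_ne_of_ne hab (Ne.symm hc.1)] at e
    exact e
  obtain ⟨a₀, ha₀⟩ : ∃ a, a ≠ i := by
    have : Nontrivial (Fin (2 * m + 1)) := Fin.nontrivial_iff_two_le.2 (by omega)
    exact exists_ne i
  have hi : f i = 0 := by
    have hsum : ∑ j, f j = 0 := v.2
    rw [← Finset.add_sum_erase _ _ (Finset.mem_univ i),
      Finset.sum_congr rfl (fun j hj => hconst j a₀ (Finset.ne_of_mem_erase hj) ha₀), Finset.sum_const,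
      Finset.card_erase_of_mem (Finset.mem_univ i), Finset.card_univ, Fintype.card_fin] at hsum
    simpa [show (2 : ZMod 2) = 0 from rfl, nsmul_eq_mul] using hsum
  have h01 : ∀ z : ZMod 2, z = 0 ∨ z = 1 := by decide
  rcases h01 (f a₀) with h0 | h1
  · left
    apply Subtype.ext
    funext j
    rcases eq_or_ne j i with rfl | hj
    · exact hi
    · exact (hconst j a₀ hj ha₀).trans h0
  · right
    apply Subtype.ext
    funext j
    rw [fPt_apply]
    rcases eq_or_ne j i with rfl | hj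
    · rw [if_pos rfl]; exact hi
    · rw [if_neg hj]; exact (hconst j a₀ hj ha₀).trans h1

/-- Only `0` and `1` commute with the alternating group. -/
theorem scalar_of_commute (hm : 2 ≤ m) (φ : AddMonoid.End (evn (2 * m + 1)))
    (h : ∀ σ ∈ alternatingGroup (Fin (2 * m + 1)), φ * pa σ = pa σ * φ) : φ = 0 ∨ φ = 1 := by
  have hc : ∀ σ ∈ alternatingGroup (Fin (2 * m + 1)), ∀ v, φ (pa σ v) = pa σ (φ v) :=
    fun σ hσ v => DFunLike.congr_fun (h σ hσ) v
  have hf : ∀ i, φ (fPt i) = 0 ∨ φ (fPt i) = fPt i := fun i =>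
    fixed_eq hm i _ fun σ hσ hi => by rw [← hc σ hσ, pa_fPt, hi]
  haveI := alternatingGroup.isPretransitive_of_three_le_card (Fin (2 * m + 1)) (by simp; omega)
  have hall : ∀ i j, φ (fPt i) = 0 → φ (fPt j) = 0 := fun i j h0 => by
    obtain ⟨⟨σ, hσ⟩, rfl⟩ := MulAction.exists_smul_eq (alternatingGroup (Fin (2 * m + 1))) i j
    show φ (fPt (σ i)) = 0
    rw [← pa_fPt, hc σ hσ, h0, map_zero]
  by_cases h0 : φ (fPt (0 : Fin (2 * m + 1))) = 0
  · left
    refine DFunLike.ext _ _ fun v => ?_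
    rw [eq_sum_fPt v, map_sum]
    exact Finset.sum_eq_zero fun i _ => by rw [map_nsmul, hall 0 i h0, smul_zero]
  · right
    refine DFunLike.ext _ _ fun v => ?_
    rw [eq_sum_fPt v, map_sum]
    refine Finset.sum_congr rfl fun i _ => ?_
    rw [map_nsmul, (hf i).resolve_left fun hi => h0 (hall i 0 hi)]

/-- A `2`-group of permutations of odd degree `2 m + 1`, `m ≥ 1`, has order less than `2 ^ (2 m)`. -/
theorem card_two_perm_lt (hm : 0 < m) (H : Subgroup (Perm (Fin (2 * m + 1)))) (hH : IsPGroup 2 H) :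
    Nat.card H < 2 ^ (2 * m) := by
  obtain ⟨k, hk⟩ := IsPGroup.iff_card.1 hH
  rw [hk]
  refine Nat.pow_lt_pow_right (by norm_num) ?_
  have hd := Subgroup.card_subgroup_dvd_card H
  rw [hk, Nat.card_perm, Nat.card_fin] at hd
  have h1 : k ≤ padicValNat 2 (2 * m + 1).factorial :=
    (padicValNat_dvd_iff_le (Nat.factorial_ne_zero _)).1 hd
  rw [Nat.factorial_succ, padicValNat.mul (by omega) (Nat.factorial_ne_zero _),
    padicValNat.eq_zero_of_not_dvd (by omega), zero_add] at h1
  exact lt_of_le_of_lt h1 (padicValNat_factorial_lt_of_ne_zero 2 (by omega))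

end CfsgLib.LocalEven.Baumann
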