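import Cfsg.Agent.Lib.LocalEven.Baumann.Dichotomy
import Cfsg.Agent.Lib.PLocal.Offender

/-!
The normalizer of a block acts semilinearly, or by permutations, on `W / Z`; elementary abelian subgroups
of that action are smaller than `W / Z`.
-/

set_option autoImplicit false
set_option linter.unusedSectionVars false

namespace CfsgLib.LocalEven.Baumann

open Subgroup CfsgLib.LocalEven
open scoped commutatorElement

variable {G : Type*} [Group G] [Finite G] {p : ℕ} [Fact p.Prime]

theorem pa_injective {m : ℕ} : Function.Injective (pa (n := 2 * m + 1)) := fun σ τ h => Equiv.ext fun i => by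
  have h1 := DFunLike.congr_fun h (fPt i)
  rw [pa_fPt, pa_fPt] at h1
  by_contra hne
  have := congrArg (fun v : evn (2 * m + 1) => (v : Fin (2 * m + 1) → ZMod 2) (σ i)) h1
  simp [fPt_apply, hne] at this

theorem card_evn (m : ℕ) : Nat.card (evn (2 * m + 1)) = 2 ^ (2 * m) := by
  let s : (Fin (2 * m + 1) → ZMod 2) →+ ZMod 2 :=
    { toFun := fun v => ∑ i, v i
      map_zero' := by simp
      map_add' := fun u v => by simp [Finset.sum_add_distrib] }
  have hker : s.ker = evn (2 * m + 1) := AddSubgroup.ext fun v => Iff.rfl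
  have hsurj : Function.Surjective s := fun x => ⟨Pi.single 0 x, by simp [s]⟩
  have h := s.ker.card_mul_index
  rw [AddSubgroup.index_ker, AddMonoidHom.range_eq_top.2 hsurj, AddSubgroup.card_top, hker, Nat.card_fun,
    Nat.card_fin, Nat.card_zmod, pow_succ] at h
  exact Nat.eq_of_mul_eq_mul_right (by norm_num) h

/-- A homomorphism of a group into a monoid, made injective. -/
theorem kerLift_inj {A N : Type*} [Group A] [Monoid N] (f : A →* N) :
    Function.Injective (QuotientGroup.lift f.ker f le_rfl) := fun x y h => by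
  obtain ⟨a, rfl⟩ := QuotientGroup.mk_surjective x
  obtain ⟨b, rfl⟩ := QuotientGroup.mk_surjective y
  rw [QuotientGroup.lift_mk', QuotientGroup.lift_mk'] at h
  rw [QuotientGroup.eq, MonoidHom.mem_ker, map_mul, ← h, ← map_mul, inv_mul_cancel, map_one]

variable {E : Subgroup G}

/-- Conjugation by `g ∈ N(E)` carried through `rho`. -/
theorem NatSec.conj_rho {U U₀ : Subgroup G} {F : Type} [Field F] (D : NatSec p E U U₀ F) {g : G}
    (hg : g ∈ normalizer (E : Set G)) (hgn : g ∈ D.S.nrm) (e : ↥E) :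
    D.S.act g * mv (D.rho e).1 = mv (D.rho ⟨g * e * g⁻¹, (mem_normalizer_iff.1 hg e).1 e.2⟩).1 * D.S.act g := by
  rw [← D.act_rho e, ← D.act_rho ⟨_, _⟩, ← D.S.act_mul hgn (D.norm e.2),
    ← D.S.act_mul (D.norm ((mem_normalizer_iff.1 hg e).1 e.2)) hgn, inv_mul_cancel_right]

/-- The normalizer of `E` is semilinear on a natural section. -/
theorem NatSec.exists_semilinear {U U₀ : Subgroup G} {F : Type} [Field F] [Finite F] (D : NatSec p E U U₀ F)
    (hq : 4 ≤ Nat.card F ∨ (Nat.card F).Prime) {g : G} (hg : g ∈ normalizer (E : Set G)) (hgn : g ∈ D.S.nrm) :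
    ∃ σ : F ≃+* F, ∀ (c : F) (v : Fin 2 → F), D.S.act g (c • v) = σ c • D.S.act g v := by
  refine exists_sigma hq _ (D.S.act_injective_apply hgn) fun r hr => ?_
  obtain ⟨e, rfl⟩ := D.range.symm ▸ hr
  refine ⟨_, ?_, D.conj_rho hg hgn e⟩
  rw [← D.range]
  exact ⟨_, rfl⟩

/-- A field of order `p ^ n` has prime order or at least four elements. -/
theorem four_le_or_prime {F : Type} [Field F] [Fintype F] {n : ℕ} (hn : 0 < n)
    (hcard : Fintype.card F = p ^ n) : 4 ≤ Nat.card F ∨ (Nat.card F).Prime := by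
  rw [Nat.card_eq_fintype_card, hcard]
  rcases eq_or_ne n 1 with rfl | h1
  · rw [pow_one]; exact Or.inr Fact.out
  · refine Or.inl (le_trans ?_ (Nat.pow_le_pow_right (Fact.out : p.Prime).pos (show 2 ≤ n by omega)))
    exact le_trans (by norm_num) (Nat.pow_le_pow_left (Fact.out : p.Prime).two_le 2)

/-- The normalizer of `E` acts on a symmetric section as permutations, compatibly with conjugation. -/
theorem AltSec.exists_perm {U U₀ : Subgroup G} {m : ℕ} (hm : 2 ≤ m) (D : AltSec p E U U₀ m) {g : G}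
    (hg : g ∈ normalizer (E : Set G)) (hgn : g ∈ D.S.nrm) :
    ∃ σ : Equiv.Perm (Fin (2 * m + 1)), D.S.act g = pa σ ∧
      ∀ e : ↥E, D.rho ⟨g * e * g⁻¹, (mem_normalizer_iff.1 hg e).1 e.2⟩ = σ * D.rho e * σ⁻¹ := by
  let r : ↥E →* alternatingGroup (Fin (2 * m + 1)) := D.rho.codRestrict _ fun e => D.range ▸ ⟨e, rfl⟩
  have hr : Function.Surjective r := fun x => by
    obtain ⟨e, he⟩ := (SetLike.ext_iff.1 D.range x.1).2 x.2
    exact ⟨e, Subtype.ext he⟩
  let c : ↥E →* ↥E :=
    { toFun := fun e => ⟨g * e * g⁻¹, (mem_normalizer_iff.1 hg e).1 e.2⟩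
      map_one' := Subtype.ext (by simp)
      map_mul' := fun a b => Subtype.ext (by simp [mul_assoc]) }
  have hQ : ∀ e : ↥E, (e : G) ∈ QE p E ↔ g * e * g⁻¹ ∈ QE p E := fun e =>
    mem_normalizer_iff.1 (mem_normalizer_pCoreOf hg) e
  have hrk : ∀ e : ↥E, r e = 1 ↔ (e : G) ∈ QE p E := fun e =>
    ⟨fun h => D.ker e (congrArg Subtype.val h), fun h => Subtype.ext (D.qe_ker e h)⟩
  have hwell : ∀ a b : ↥E, r a = r b → r (c a) = r (c b) := fun a b h => by
    rw [← mul_inv_eq_one, ← map_inv, ← map_mul, hrk] at h ⊢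
    rw [← map_inv, ← map_mul]
    exact (hQ _).1 h
  let φ : alternatingGroup (Fin (2 * m + 1)) →* alternatingGroup (Fin (2 * m + 1)) :=
    { toFun := fun x => r (c (hr x).choose)
      map_one' := by rw [hwell _ 1 ((hr 1).choose_spec.trans r.map_one.symm)]; simp
      map_mul' := fun x y => by
        rw [hwell _ ((hr x).choose * (hr y).choose) ((hr _).choose_spec.trans (by
          rw [map_mul, (hr x).choose_spec, (hr y).choose_spec])), map_mul, map_mul] }
  have hφ : ∀ e, φ (r e) = r (c e) := fun e => hwell _ _ (hr _).choose_spec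
  have hinj : Function.Injective φ := by
    rw [injective_iff_map_eq_one]
    intro x hx
    obtain ⟨e, rfl⟩ := hr x
    rw [hφ, hrk] at hx
    exact (hrk e).2 ((hQ e).2 hx)
  obtain ⟨σ, hσ⟩ := KnownA.exists_conj_aut (Ω := Fin (2 * m + 1)) (by simp; omega) (by simp; omega)
    (MulEquiv.ofBijective φ ⟨hinj, Finite.injective_iff_surjective.1 hinj⟩)
  have hconj : ∀ e : ↥E, D.rho ⟨g * e * g⁻¹, (mem_normalizer_iff.1 hg e).1 e.2⟩ = σ * D.rho e * σ⁻¹ :=
    fun e => by
    have h1 := congrArg Subtype.val (DFunLike.congr_fun hσ (r e))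
    rw [MulAut.conjNormal_apply] at h1
    exact (congrArg Subtype.val (hφ e)).symm.trans h1.symm
  have hgi : ∀ e : ↥E, D.S.act g * pa (D.rho e) = pa (σ * D.rho e * σ⁻¹) * D.S.act g := fun e => by
    rw [← hconj, ← D.act_rho e, ← D.act_rho ⟨_, _⟩, ← D.S.act_mul hgn (D.norm e.2),
      ← D.S.act_mul (D.norm ((mem_normalizer_iff.1 hg e).1 e.2)) hgn, inv_mul_cancel_right]
  rcases scalar_of_commute hm (pa σ⁻¹ * D.S.act g) fun τ hτ => by
      obtain ⟨e, rfl⟩ := D.range.symm ▸ hτ
      rw [mul_assoc, hgi, ← mul_assoc, ← pa_mul, ← mul_assoc (pa (D.rho e)), ← pa_mul]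
      congr 2; group with h | h
  · exfalso
    refine fPt_ne_zero (by omega) 0 (D.S.act_injective_apply hgn (?_ : _ = D.S.act g 0))
    have h1 : pa σ * (pa σ⁻¹ * D.S.act g) = D.S.act g := by
      rw [← mul_assoc, ← pa_mul, mul_inv_cancel, pa_one, one_mul]
    rw [← h1, h, mul_zero]
    rfl
  · refine ⟨σ, ?_, hconj⟩
    calc D.S.act g = pa σ * (pa σ⁻¹ * D.S.act g) := by rw [← mul_assoc, ← pa_mul, mul_inv_cancel, pa_one, one_mul]
      _ = pa σ := by rw [h, mul_one]

/-- An elementary abelian subgroup of `N(E)` is small on `W / Z`, as a homomorphic image. -/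
theorem card_act_lt {T : Sylow p G} (hG : centralizer (Cfsg.pCore p G : Set G) ≤ Cfsg.pCore p G)
    (hE : Cfsg.IsBaumannBlock p (T : Subgroup G) E) :
    ∃ w : ℕ, 4 ≤ w ∧ Nat.card (WE p E) = w * Nat.card ↥(WE p E ⊓ ZZ p E) ∧
      ∀ A : Subgroup G, A ≤ normalizer (E : Set G) → IsMulCommutative A → (∀ a ∈ A, a ^ p = 1) →
        Nat.card A < Nat.card ↥(A ⊓ centralizer (WE p E : Set G)) * w := by
  have hWcard : ∀ w : ℕ, w * Nat.card (ZZ p E) = Nat.card (WW p E) →
      Nat.card (WE p E) = w * Nat.card ↥(WE p E ⊓ ZZ p E) := fun w hw => by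
    have h := CfsgLib.PLocal.card_sup_mul_card_inf (WE p E) (ZZ p E)
      fun x hx => mem_normalizer_ZZ (le_normalizer (we_le_self E hx))
    rw [← ww_eq_sup hG hE, ← hw] at h
    refine Nat.eq_of_mul_eq_mul_right (Nat.card_pos (α := ZZ p E)) ?_
    rw [← h]; ring
  have main : ∀ {M : Type} [AddCommGroup M] [Finite M] (S : Sec (WW p E) (ZZ p E) M),
      4 ≤ Nat.card M →
      (∀ (A : Subgroup G) (hA : ∀ a ∈ A, a ∈ S.nrm), A ≤ normalizer (E : Set G) → IsMulCommutative A →
        (∀ a ∈ A, a ^ p = 1) → ∀ f : ↥A →* AddMonoid.End M, (∀ a : ↥A, f a = S.act (a : G)) →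
        Nat.card (↥A ⧸ f.ker) < Nat.card M) →
      ∃ w : ℕ, 4 ≤ w ∧ Nat.card (WE p E) = w * Nat.card ↥(WE p E ⊓ ZZ p E) ∧
      ∀ A : Subgroup G, A ≤ normalizer (E : Set G) → IsMulCommutative A → (∀ a ∈ A, a ^ p = 1) →
        Nat.card A < Nat.card ↥(A ⊓ centralizer (WE p E : Set G)) * w := by
    intro M _ _ S h4 hb
    refine ⟨Nat.card M, h4, hWcard _ S.card_eq, fun A hAN hAc hAp => ?_⟩
    have hAn : ∀ a ∈ A, a ∈ S.nrm := fun a ha => ⟨mem_normalizer_WW (hAN ha), mem_normalizer_ZZ (hAN ha)⟩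
    let f : ↥A →* AddMonoid.End M := S.actHom.comp (inclusion hAn)
    have hlt := hb A hAn hAN hAc hAp f fun _ => rfl
    have hk : f.ker.map A.subtype ≤ A ⊓ centralizer (WE p E : Set G) := by
      rintro _ ⟨a, ha, rfl⟩
      refine ⟨a.2, centralizes_we_of_trivial hG hE (hAN a.2) ((S.act_eq_one_iff (hAn _ a.2)).1 ha)⟩
    have h1 := f.ker.card_mul_index
    rw [index_eq_card] at h1
    rw [← h1]
    refine lt_of_lt_of_le (Nat.mul_lt_mul_of_pos_left hlt Nat.card_pos) (Nat.mul_le_mul_right _ ?_)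
    rw [← card_map_of_injective A.subtype_injective]
    exact Subgroup.card_le_of_le hk
  rcases shape hG hE with ⟨F, fF, fin, n, hn, hcard, ⟨D⟩, -⟩ | ⟨hp, m, hm, ⟨D⟩, -⟩
  · haveI := CfsgLib.LocalEven.Natural.charP_of_card (p := p) hcard
    have hM : Nat.card (Fin 2 → F) = Nat.card F ^ 2 := by rw [Nat.card_fun, Nat.card_fin]
    have h2 : 2 ≤ Nat.card F := Finite.one_lt_card
    refine main D.S (hM ▸ le_trans (by norm_num) (Nat.pow_le_pow_left h2 2)) fun A hAn hAN hAc hAp f hf => ?_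
    let act := QuotientGroup.lift f.ker f le_rfl
    have hexp : ∀ a : ↥A ⧸ f.ker, a ^ p = 1 := fun a => by
      obtain ⟨a, rfl⟩ := QuotientGroup.mk_surjective a
      rw [← QuotientGroup.mk_pow, show a ^ p = 1 from Subtype.ext (by simpa using hAp a a.2),
        QuotientGroup.mk_one]
    have hsemi : ∀ a : ↥A ⧸ f.ker, ∃ σ : F ≃+* F, ∀ (c : F) (v : Fin 2 → F), act a (c • v) = σ c • act a v := by
      intro a
      obtain ⟨a, rfl⟩ := QuotientGroup.mk_surjective a
      show ∃ σ : F ≃+* F, ∀ (c : F) (v : Fin 2 → F), f a (c • v) = σ c • f a v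
      rw [hf]
      exact D.exists_semilinear (four_le_or_prime hn hcard) (hAN a.2) (hAn _ a.2)
    have hlin := card_linPart_le act (kerLift_inj f) (fun a => ⟨1, by rw [pow_one]; exact hexp a⟩)
    rw [hM]
    rcases four_le_or_prime hn hcard with h4 | hprime
    · rcases eq_or_ne n 1 with rfl | h1
      · have : linPart act = ⊤ := eq_top_iff.2 fun a _ => isLin_of_prime (by
          rw [Nat.card_eq_fintype_card, hcard, pow_one]; exact Fact.out) _
        rw [this, Subgroup.card_top] at hlin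
        exact lt_of_le_of_lt hlin (lt_self_pow₀ (by omega) (by norm_num))
      · refine lt_of_le_of_lt ((card_le_linPart_mul act hexp hsemi).trans (Nat.mul_le_mul_right _ hlin)) ?_
        rw [sq]
        refine Nat.mul_lt_mul_of_pos_left ?_ (by omega)
        rw [Nat.card_eq_fintype_card, hcard]
        exact lt_self_pow₀ (Fact.out : p.Prime).one_lt (by omega)
    · have : linPart act = ⊤ := eq_top_iff.2 fun a _ => isLin_of_prime hprime _
      rw [this, Subgroup.card_top] at hlin
      exact lt_of_le_of_lt hlin (lt_self_pow₀ (by omega) (by norm_num))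
  · subst hp
    refine main D.S (card_evn m ▸ le_trans (by norm_num) (Nat.pow_le_pow_right (by norm_num) (show 2 ≤ 2 * m by omega)))
      fun A hAn hAN hAc hAp f hf => ?_
    rw [card_evn]
    have hσ : ∀ a : ↥A ⧸ f.ker, ∃ σ, QuotientGroup.lift f.ker f le_rfl a = pa σ := fun a => by
      obtain ⟨a, rfl⟩ := QuotientGroup.mk_surjective a
      obtain ⟨σ, h, -⟩ := D.exists_perm hm (hAN a.2) (hAn _ a.2)
      exact ⟨σ, (hf a).trans h⟩
    choose σ hσ using hσ
    let ι : ↥A ⧸ f.ker →* Equiv.Perm (Fin (2 * m + 1)) :=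
      { toFun := σ
        map_one' := pa_injective (by rw [← hσ, map_one, pa_one])
        map_mul' := fun a b => pa_injective (by rw [← hσ, map_mul, hσ, hσ, pa_mul]) }
    have hι : Function.Injective ι := fun a b e => kerLift_inj f (by
      rw [hσ, hσ, show σ a = σ b from e])
    rw [Nat.card_congr (MonoidHom.ofInjective hι).toEquiv]
    refine card_two_perm_lt (by omega) _ (fun x => ⟨1, ?_⟩)
    obtain ⟨_, a, rfl⟩ := x
    obtain ⟨a, rfl⟩ := QuotientGroup.mk_surjective a
    apply Subtype.ext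
    rw [pow_one, Subgroup.coe_pow, OneMemClass.coe_one, ← map_pow, ← QuotientGroup.mk_pow,
      show a ^ 2 = 1 from Subtype.ext (by simpa using hAp a a.2), QuotientGroup.mk_one, map_one]

end CfsgLib.LocalEven.Baumann
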