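import Cfsg.Agent.Lib.LocalEven.Baumann.Thompson

/-!
Averaging over the cosets of a subgroup of index prime to `p`, and the splitting `W_E ∩ Z = 1`
of a symmetric block.
-/

set_option autoImplicit false
set_option linter.unusedSectionVars false

namespace CfsgLib.LocalEven.Baumann

open Subgroup CfsgLib.LocalEven
open scoped commutatorElement

theorem zmod_two_cases (z : ZMod 2) : z = 0 ∨ z = 1 := by revert z; decide

variable {G : Type*} [Group G] [Finite G] {p : ℕ} [Fact p.Prime]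
variable {T : Sylow p G} {E : Subgroup G}
variable (hG : centralizer (Cfsg.pCore p G : Set G) ≤ Cfsg.pCore p G)
  (hE : Cfsg.IsBaumannBlock p (T : Subgroup G) E)
include hG hE

/-- An element of `V` fixed by a subgroup of index prime to `p` is in `C_V(E) W_E`. -/
theorem exists_mul_centralizer_of_fixed {L : Subgroup G} (hLE : L ≤ E) (hidx : ¬ p ∣ L.relIndex E) {x : G}
    (hx : x ∈ VV p G) (hfix : ∀ l ∈ L, l * x * l⁻¹ = x) :
    ∃ c ∈ VV p G, c ∈ centralizer (E : Set G) ∧ c⁻¹ * x ∈ WE p E := by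
  classical
  haveI := vv_normal (G := G) (p := p)
  letI : CommGroup ↥(VV p G) :=
    { (inferInstance : Group ↥(VV p G)) with
      mul_comm := fun a b => Subtype.ext (vv_commute a.2 (omegaOneCenter_le _ b.2)) }
  set L' := L.subgroupOf E with hL'
  letI : Fintype (↥E ⧸ L') := Fintype.ofFinite _
  let t : ↥E → ↥(VV p G) := fun e =>
    ⟨(e : G) * x * (e : G)⁻¹, ‹(VV p G).Normal›.conj_mem x hx e⟩
  have hwell : ∀ e : ↥E, t (QuotientGroup.mk e : ↥E ⧸ L').out = t e := fun e => by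
    obtain ⟨l, hl⟩ := QuotientGroup.mk_out_eq_mul L' e
    rw [hl]
    apply Subtype.ext
    show ((e : G) * ((l : ↥E) : G)) * x * ((e : G) * ((l : ↥E) : G))⁻¹ = _
    calc _ = (e : G) * (((l : ↥E) : G) * x * ((l : ↥E) : G)⁻¹) * (e : G)⁻¹ := by group
      _ = _ := by rw [hfix _ (mem_subgroupOf.1 l.2)]
  set c₀ : ↥(VV p G) := ∏ q : ↥E ⧸ L', t q.out with hc₀
  have hinv : ∀ e : ↥E, (e : G) * (c₀ : G) * (e : G)⁻¹ = c₀ := fun e => by
    let φ : ↥(VV p G) →* ↥(VV p G) :=
      { toFun := fun v => ⟨(e : G) * v * (e : G)⁻¹, ‹(VV p G).Normal›.conj_mem v v.2 e⟩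
        map_one' := Subtype.ext (by simp)
        map_mul' := fun a b => Subtype.ext (by simp [mul_assoc]) }
    have h : φ c₀ = c₀ := by
      rw [hc₀, map_prod]
      refine Fintype.prod_equiv (MulAction.toPerm e) _ _ fun q => ?_
      have h1 : MulAction.toPerm e q = QuotientGroup.mk (e * q.out) := by
        conv_lhs => rw [← q.out_eq']
        rfl
      rw [h1, hwell]
      exact Subtype.ext (by show _ = ((e : G) * (q.out : G)) * x * ((e : G) * (q.out : G))⁻¹; simp [φ, t, mul_assoc])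
    exact congrArg Subtype.val h
  let π := QuotientGroup.mk' ((WE p E).subgroupOf (VV p G))
  have hπ : ∀ e : ↥E, π (t e) = π ⟨x, hx⟩ := fun e => by
    rw [QuotientGroup.mk'_apply, QuotientGroup.mk'_apply, QuotientGroup.eq, mem_subgroupOf]
    show ((e : G) * x * (e : G)⁻¹)⁻¹ * x ∈ WE p E
    have h := vv_commutator_mem hG hE hx e.2
    rw [show x * e * x⁻¹ * (e : G)⁻¹ = x * ((e : G) * x⁻¹ * (e : G)⁻¹) by group,
      vv_commute hx (omegaOneCenter_le _ (‹(VV p G).Normal›.conj_mem _ (inv_mem hx) e))] at h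
    rw [show ((e : G) * x * (e : G)⁻¹)⁻¹ * x = (e : G) * x⁻¹ * (e : G)⁻¹ * x by group]
    exact h
  have hc : π c₀ = π ⟨x, hx⟩ ^ Nat.card (↥E ⧸ L') := by
    rw [hc₀, map_prod, Finset.prod_congr rfl (fun q _ => hπ q.out), Finset.prod_const, Finset.card_univ,
      Nat.card_eq_fintype_card]
  have hord : orderOf (π ⟨x, hx⟩) ∣ p := orderOf_dvd_of_pow_eq_one (by
    rw [← map_pow, show (⟨x, hx⟩ : ↥(VV p G)) ^ p = 1 from Subtype.ext (by simpa using vv_pow hx), map_one])
  obtain ⟨k, hk⟩ := exists_pow_eq_self_of_coprime (x := π ⟨x, hx⟩) (n := Nat.card (↥E ⧸ L'))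
    (Nat.Coprime.coprime_dvd_right hord ((Nat.Prime.coprime_iff_not_dvd Fact.out).2 (by
      rwa [← index_eq_card])).symm)
  refine ⟨((c₀ ^ k : ↥(VV p G)) : G), (c₀ ^ k).2, mem_centralizer_iff.2 fun e he => ?_, ?_⟩
  · rw [Subgroup.coe_pow]
    exact (Commute.pow_right (show Commute e (c₀ : G) from mul_inv_eq_iff_eq_mul.1 (hinv ⟨e, he⟩)) k)
  · have h1 : π (c₀ ^ k) = π ⟨x, hx⟩ := by rw [map_pow, hc, hk]
    rw [QuotientGroup.mk'_apply, QuotientGroup.mk'_apply, QuotientGroup.eq, mem_subgroupOf] at h1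
    simpa using h1

/-- In a symmetric block `W_E ∩ Z = 1`. -/
theorem alt_split {m : ℕ} (hm : 2 ≤ m) (hp : p = 2) (D : AltSec p E (WW p E) (ZZ p E) m) :
    WE p E ⊓ ZZ p E = ⊥ := by
  classical
  subst hp
  letI : CommGroup ↥(WW 2 E) :=
    { (inferInstance : Group ↥(WW 2 E)) with
      mul_comm := fun a b => Subtype.ext (ww_commute a.2 (ww_le E b.2)) }
  have hsq : ∀ a : ↥(WW 2 E), a * a = 1 := fun a => Subtype.ext (by
    have := exponent_ww E (a : G) a.2
    rw [sq] at this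
    simpa using this)
  -- a lift fixed by the stabilizer of a point
  obtain ⟨u, hu, hu0⟩ := D.S.surj (fPt (0 : Fin (2 * m + 1)))
  have hnorm : ∀ {e : G}, e ∈ E → e ∈ D.S.nrm := fun he => D.norm he
  have hodd : ∀ e : ↥E, D.rho e 0 = 0 → (orderOf (e : G)).Coprime 2 → (e : G) * u = u * e := by
    intro e he hco
    have hz : (e : G) * u * (e : G)⁻¹ * u⁻¹ ∈ ZZ 2 E := by
      rw [← D.S.f_eq_iff (D.S.conj_mem (hnorm e.2) hu) hu, ← D.S.act_f (hnorm e.2) hu, D.act_rho, hu0, pa_fPt, he]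
    exact comm_eq_of_coprime hco (z := (e : G) * u * (e : G)⁻¹ * u⁻¹) (by group)
      (zz_commute hz e.2).symm (isPGroup_QE E) (ww_le E (zz_le_ww E hz))
  let St : Subgroup ↥E := (MulAction.stabilizer (Equiv.Perm (Fin (2 * m + 1))) (0 : Fin (2 * m + 1))).comap D.rho
  let Cu : Subgroup ↥E := (centralizer ({u} : Set G)).subgroupOf E
  have hStCu : St ≤ Cu := by
    have h3 : St.map D.rho ≤ (Cu ⊓ St).map D.rho := by
      rintro _ ⟨e, he, rfl⟩
      have hA : D.rho e ∈ alternatingGroup (Fin (2 * m + 1)) := D.range ▸ ⟨e, rfl⟩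
      have he0 : D.rho e 0 = 0 := he
      -- three-cycles fixing the point
      have hsupp : ∀ σ ∈ alternatingGroup (Fin (2 * m + 1)), σ 0 = 0 →
          σ ∈ closure {τ : Equiv.Perm (Fin (2 * m + 1)) | τ.IsThreeCycle ∧ τ 0 = 0} := by
        intro σ hσ hσ0
        let T' : Equiv.Perm {x : Fin (2 * m + 1) // x ≠ 0} := σ.subtypePerm fun x => by
          constructor
          · intro h h'; exact h (by rw [h', hσ0])
          · intro h h'; exact h (σ.injective (by rw [h', hσ0]))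
        have hT : T' ∈ alternatingGroup _ := by
          rw [Equiv.Perm.mem_alternatingGroup, Equiv.Perm.sign_subtypePerm _ _ _]
          · exact hσ
          · intro x hx h'; exact hx (by rw [h', hσ0])
        rw [← Equiv.Perm.closure_three_cycles_eq_alternating] at hT
        have hmap := mem_map_of_mem (Equiv.Perm.ofSubtype : Equiv.Perm {x : Fin (2 * m + 1) // x ≠ 0} →* _) hT
        rw [Equiv.Perm.ofSubtype_subtypePerm _ (by intro x hx h'; exact hx (by rw [h', hσ0]))] at hmap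
        rw [MonoidHom.map_closure] at hmap
        refine closure_mono ?_ hmap
        rintro _ ⟨τ, hτ, rfl⟩
        refine ⟨?_, Equiv.Perm.ofSubtype_apply_of_not_mem τ (by simp)⟩
        rw [Equiv.Perm.IsThreeCycle, Equiv.Perm.cycleType_ofSubtype]
        exact hτ
      refine (closure_le _).2 ?_ (hsupp _ hA he0)
      rintro τ ⟨hτ, hτ0⟩
      obtain ⟨f, rfl⟩ := D.range.symm ▸ hτ.mem_alternatingGroup
      -- the odd part of a preimage
      set a := (orderOf (f : G)).factorization 2 with ha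
      have hco : (orderOf ((f ^ 2 ^ a : ↥E) : G)).Coprime 2 := by
        rw [Subgroup.coe_pow, orderOf_pow' _ (pow_ne_zero _ (by norm_num)), Nat.gcd_eq_right (Nat.ordProj_dvd _ _)]
        exact ((Nat.Prime.coprime_iff_not_dvd (by norm_num)).2
          (Nat.not_dvd_ordCompl (by norm_num) (orderOf_pos _).ne')).symm
      have h30 : D.rho (f ^ 2 ^ a) 0 = 0 := by
        rw [map_pow]
        exact MulAction.mem_stabilizer_iff.1 (pow_mem (show D.rho f ∈ MulAction.stabilizer
          (Equiv.Perm (Fin (2 * m + 1))) (0 : Fin (2 * m + 1)) from hτ0) _)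
      obtain ⟨k, hk⟩ := exists_pow_eq_self_of_coprime (x := D.rho f) (n := 2 ^ a) (by
        rw [hτ.orderOf]; exact Nat.Coprime.pow_left _ (by norm_num))
      rw [← hk, ← map_pow]
      refine pow_mem (mem_map_of_mem _ (Subgroup.mem_inf.2 ⟨?_, h30⟩)) _
      exact mem_subgroupOf.2 (mem_centralizer_singleton_iff.2 (hodd _ h30 hco))
    intro e he
    obtain ⟨f, hf, hfe⟩ := h3 (mem_map_of_mem _ he)
    have hq : ((f⁻¹ * e : ↥E) : G) ∈ QE 2 E := D.ker _ (by rw [map_mul, map_inv, hfe, inv_mul_cancel])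
    have hqC : f⁻¹ * e ∈ Cu := mem_subgroupOf.2 (mem_centralizer_singleton_iff.2 (ww_commute hu hq).symm)
    have := mul_mem hf.1 hqC
    rwa [mul_inv_cancel_left] at this
  -- the lifts
  haveI := alternatingGroup.isPretransitive_of_three_le_card (Fin (2 * m + 1)) (by simp; omega)
  have hex : ∀ i : Fin (2 * m + 1), ∃ e : ↥E, D.rho e 0 = i := fun i => by
    obtain ⟨⟨σ, hσ⟩, h⟩ := MulAction.exists_smul_eq (alternatingGroup (Fin (2 * m + 1))) (0 : Fin (2 * m + 1)) i
    obtain ⟨e, rfl⟩ := D.range.symm ▸ hσ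
    exact ⟨e, h⟩
  choose r hr using hex
  let cj : ↥E → ↥(WW 2 E) →* ↥(WW 2 E) := fun e =>
    { toFun := fun v => ⟨(e : G) * v * (e : G)⁻¹, D.S.conj_mem (hnorm e.2) v.2⟩
      map_one' := Subtype.ext (by simp)
      map_mul' := fun a b => Subtype.ext (by simp [mul_assoc]) }
  let w₀ : Fin (2 * m + 1) → ↥(WW 2 E) := fun i => cj (r i) ⟨u, hu⟩
  have hw₀ : ∀ (e : ↥E) i, cj e (w₀ i) = w₀ (D.rho e i) := fun e i => by
    set j := D.rho e i with hj
    have hmem : (r j)⁻¹ * (e * r i) ∈ St := by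
      show D.rho _ 0 = 0
      rw [map_mul, map_mul, map_inv, Equiv.Perm.mul_apply, Equiv.Perm.mul_apply, hr, ← hj, Equiv.Perm.inv_def,
        Equiv.symm_apply_eq, hr]
    have h := mem_centralizer_singleton_iff.1 (mem_subgroupOf.1 (hStCu hmem))
    apply Subtype.ext
    show (e : G) * ((r i : G) * u * (r i : G)⁻¹) * (e : G)⁻¹ = (r j : G) * u * (r j : G)⁻¹
    simp only [Subgroup.coe_mul, InvMemClass.coe_inv] at h
    calc (e : G) * ((r i : G) * u * (r i : G)⁻¹) * (e : G)⁻¹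
        = (r j : G) * (((r j : G)⁻¹ * ((e : G) * r i)) * u) * ((r j : G)⁻¹ * ((e : G) * r i))⁻¹ * (r j : G)⁻¹ := by
          group
      _ = _ := by rw [h]; group
  set P₀ := ∏ i, w₀ i with hP₀
  have hP : ∀ e, cj e P₀ = P₀ := fun e => by
    rw [hP₀, map_prod]
    exact Fintype.prod_equiv (D.rho e) _ _ fun i => hw₀ e i
  let w : Fin (2 * m + 1) → ↥(WW 2 E) := fun i => w₀ i * P₀
  have hw : ∀ (e : ↥E) i, cj e (w i) = w (D.rho e i) := fun e i => by
    show cj e (w₀ i * P₀) = w₀ _ * P₀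
    rw [map_mul, hw₀, hP]
  have hprod : ∏ i, w i = 1 := by
    show ∏ i, w₀ i * P₀ = 1
    rw [Finset.prod_mul_distrib, ← hP₀, Finset.prod_const, Finset.card_univ, Fintype.card_fin, pow_succ,
      pow_mul, sq, hsq, one_pow, one_mul, hsq]
  have hfP : D.S.f (P₀ : G) = 0 := by
    refine (?_ : D.S.f (P₀ : G) = ∑ i, fPt i).trans sum_fPt
    let ψ : ↥(WW 2 E) →* Multiplicative (evn (2 * m + 1)) :=
      { toFun := fun v => Multiplicative.ofAdd (D.S.f v)
        map_one' := by simp [D.S.f_one]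
        map_mul' := fun a b => by simp [D.S.map_mul a a.2 b b.2] }
    show Multiplicative.toAdd (ψ P₀) = _
    rw [hP₀, map_prod, toAdd_prod]
    refine Finset.sum_congr rfl fun i _ => ?_
    show D.S.f ((r i : G) * u * (r i : G)⁻¹) = _
    rw [← D.S.act_f (hnorm (r i).2) hu, D.act_rho, hu0, pa_fPt, hr]
  have hfw : ∀ i, D.S.f (w i : G) = fPt i := fun i => by
    show D.S.f ((w₀ i : G) * (P₀ : G)) = _
    rw [D.S.map_mul _ (w₀ i).2 _ P₀.2, hfP, add_zero]
    show D.S.f ((r i : G) * u * (r i : G)⁻¹) = _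
    rw [← D.S.act_f (hnorm (r i).2) hu, D.act_rho, hu0, pa_fPt, hr]
  let φ : (Fin (2 * m + 1) → ZMod 2) → ↥(WW 2 E) := fun v => ∏ i, w i ^ (v i).val
  have hφmul : ∀ v v', φ (v + v') = φ v * φ v' := fun v v' => by
    show ∏ i, w i ^ (v i + v' i).val = _
    rw [← Finset.prod_mul_distrib]
    refine Finset.prod_congr rfl fun i _ => ?_
    rcases zmod_two_cases (v i) with ha | ha <;> rcases zmod_two_cases (v' i) with hb | hb <;>
      simp [ha, hb, show ((1 : ZMod 2) + 1) = 0 from rfl, ZMod.val_one, hsq]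
  have hfφ : ∀ v, D.S.f (φ v : G) = ∑ i, (v i).val • fPt i := fun v => by
    let ψ : ↥(WW 2 E) →* Multiplicative (evn (2 * m + 1)) :=
      { toFun := fun v => Multiplicative.ofAdd (D.S.f v)
        map_one' := by simp [D.S.f_one]
        map_mul' := fun a b => by simp [D.S.map_mul a a.2 b b.2] }
    show Multiplicative.toAdd (ψ (φ v)) = _
    rw [map_prod, toAdd_prod]
    refine Finset.sum_congr rfl fun i _ => ?_
    rw [map_pow, toAdd_pow]
    show (v i).val • D.S.f (w i : G) = _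
    rw [hfw]
  have hφ0 : ∀ v, D.S.f (φ v : G) = 0 → φ v = 1 := fun v hv => by
    rw [hfφ] at hv
    have hc : ∀ j, v j = ∑ i, v i := fun j => by
      have h := congrArg (fun x : evn (2 * m + 1) => (x : Fin (2 * m + 1) → ZMod 2) j) hv
      simp only [AddSubmonoidClass.coe_finsetSum, Finset.sum_apply, AddSubmonoidClass.coe_nsmul,
        ZeroMemClass.coe_zero, Pi.zero_apply] at h
      simp only [Pi.smul_apply, fPt_apply, nsmul_eq_mul, Pi.mul_apply, Pi.natCast_apply, ZMod.natCast_val,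
        ZMod.cast_id', id_eq, mul_ite, mul_zero, mul_one] at h
      rw [Finset.sum_ite, Finset.sum_const_zero, zero_add, Finset.filter_ne] at h
      conv_rhs => rw [← Finset.add_sum_erase Finset.univ v (Finset.mem_univ j), h, add_zero]
    show ∏ i, w i ^ (v i).val = 1
    rw [Finset.prod_congr rfl fun i _ => by rw [hc i]]
    rw [Finset.prod_pow, hprod, one_pow]
  let S₀ : Subgroup G :=
    { carrier := {g | ∃ v, (φ v : G) = g}
      one_mem' := ⟨0, by simp [φ]⟩
      mul_mem' := by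
        rintro _ _ ⟨v, rfl⟩ ⟨v', rfl⟩
        exact ⟨v + v', by rw [hφmul]; rfl⟩
      inv_mem' := by
        rintro _ ⟨v, rfl⟩
        exact ⟨v, by rw [← InvMemClass.coe_inv, inv_eq_of_mul_eq_one_right (hsq _)]⟩ }
  have hnS : ∀ e : ↥E, ∀ g ∈ S₀, (e : G) * g * (e : G)⁻¹ ∈ S₀ := by
    rintro e _ ⟨v, rfl⟩
    refine ⟨fun i => v ((D.rho e).symm i), ?_⟩
    have : φ (fun i => v ((D.rho e).symm i)) = cj e (φ v) := by
      show _ = cj e (∏ i, w i ^ (v i).val)
      rw [map_prod]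
      refine (Fintype.prod_equiv (D.rho e) _ _ fun i => ?_).symm
      rw [map_pow, hw]
      simp only [Equiv.symm_apply_apply]
    rw [this]; rfl
  have hS : WE 2 E ≤ S₀ := by
    show ⁅WW 2 E, E⁆ ≤ S₀
    rw [commutator_le]
    intro x hx e he
    set v := ((D.S.f x : evn (2 * m + 1)) : Fin (2 * m + 1) → ZMod 2)
    have hz : (φ v : G)⁻¹ * x ∈ ZZ 2 E := by
      rw [← D.S.ker _ (mul_mem (inv_mem (φ v).2) hx), D.S.map_mul _ (inv_mem (φ v).2) _ hx,
        D.S.f_inv (φ v).2, hfφ, ← eq_sum_fPt (D.S.f x), neg_add_cancel]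
    have h1 : ⁅x, e⁆ = (φ v : G) * (e * (φ v : G)⁻¹ * e⁻¹) := by
      rw [commutatorElement_def]
      calc x * e * x⁻¹ * e⁻¹
          = (φ v : G) * (((φ v : G)⁻¹ * x) * e * ((φ v : G)⁻¹ * x)⁻¹) * (φ v : G)⁻¹ * e⁻¹ := by group
        _ = _ := by rw [zz_commute hz he, mul_inv_cancel_right]; group
    rw [h1]
    exact mul_mem ⟨v, rfl⟩ (hnS ⟨e, he⟩ _ (inv_mem ⟨v, rfl⟩))
  rw [eq_bot_iff]
  intro x hx
  obtain ⟨v, rfl⟩ := hS hx.1
  have := hφ0 v ((D.S.ker _ (φ v).2).2 hx.2)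
  rw [this]; exact one_mem _

end CfsgLib.LocalEven.Baumann
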