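import Cfsg.Agent.Lib.LocalEven.Baumann.SL2Facts
import Mathlib.FieldTheory.Finite.GaloisField

/-!
Semilinear elements of the normalizer of `SL₂(F)'` on the natural module, and the two bounds on
elementary abelian groups of them that the Baumann block arguments need.
-/

set_option autoImplicit false

namespace CfsgLib.LocalEven.Baumann

open Matrix Matrix.SpecialLinearGroup CfsgLib.Classical

variable {F : Type*} [Field F]

theorem eapp (f g : AddMonoid.End (Fin 2 → F)) (v : Fin 2 → F) : (f * g) v = f (g v) := rfl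

/-- `φ` commutes with scalars. -/
def IsLin (φ : AddMonoid.End (Fin 2 → F)) : Prop := ∀ (c : F) (v : Fin 2 → F), φ (c • v) = c • φ v

theorem isLin_mv (M : Matrix (Fin 2) (Fin 2) F) : IsLin (mv M) :=
  fun c v => Matrix.mulVec_smul M c v

theorem IsLin.mul {φ ψ : AddMonoid.End (Fin 2 → F)} (hφ : IsLin φ) (hψ : IsLin ψ) : IsLin (φ * ψ) :=
  fun c v => by simp [hψ c v, hφ c]

theorem isLin_one : IsLin (1 : AddMonoid.End (Fin 2 → F)) := fun _ _ => rfl

theorem isLin_of_prime [Finite F] (hq : (Nat.card F).Prime) (φ : AddMonoid.End (Fin 2 → F)) : IsLin φ := by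
  haveI : Fintype F := Fintype.ofFinite F
  have hcard : Fintype.card F = Nat.card F := Fintype.card_eq_nat_card
  have : Fact (Nat.card F).Prime := ⟨hq⟩
  haveI : CharP F (Nat.card F) := charP_of_card_eq_prime hcard
  intro c v
  have hι : Function.Bijective (ZMod.castHom (dvd_refl (Nat.card F)) F) := by
    rw [Fintype.bijective_iff_injective_and_card]
    exact ⟨(ZMod.castHom (dvd_refl _) F).injective, by rw [ZMod.card, hcard]⟩
  obtain ⟨a, rfl⟩ := hι.2 c
  rw [ZMod.castHom_apply, ZMod.cast_eq_val, Nat.cast_smul_eq_nsmul, map_nsmul, Nat.cast_smul_eq_nsmul]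

/-- A linear endomorphism is a matrix. -/
theorem IsLin.exists_matrix {φ : AddMonoid.End (Fin 2 → F)} (h : IsLin φ) :
    ∃ M : Matrix (Fin 2) (Fin 2) F, φ = mv M := by
  refine ⟨!![φ ![1, 0] 0, φ ![0, 1] 0; φ ![1, 0] 1, φ ![0, 1] 1], DFunLike.ext _ _ fun v => ?_⟩
  conv_lhs => rw [show v = v 0 • ![1, 0] + v 1 • ![0, 1] by ext i; fin_cases i <;> simp, map_add, h, h]
  ext i
  fin_cases i <;> simp [Matrix.mulVec, dotProduct, Fin.sum_univ_two] <;> ring

/-- An element normalizing the derived group of `SL₂(F)` is semilinear. -/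
theorem exists_sigma [Finite F] (hq : 4 ≤ Nat.card F ∨ (Nat.card F).Prime)
    (φ : AddMonoid.End (Fin 2 → F)) (hinj : Function.Injective φ)
    (h : ∀ g ∈ commutator (Matrix.SpecialLinearGroup (Fin 2) F),
      ∃ g' ∈ commutator (Matrix.SpecialLinearGroup (Fin 2) F), φ * mv g.1 = mv g'.1 * φ) :
    ∃ σ : F ≃+* F, ∀ (c : F) (v : Fin 2 → F), φ (c • v) = σ c • φ v := by
  rcases hq with h4 | hp
  swap
  · exact ⟨RingEquiv.refl F, isLin_of_prime hp φ⟩
  have hR := commutator_eq_top_of_four (F := F) h4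
  rw [hR] at h
  have hbij : Function.Bijective φ := Finite.injective_iff_bijective.1 hinj
  choose f hf using fun g => h g (Subgroup.mem_top g)
  have hfinj : Function.Injective f := fun a b e => Subtype.ext (mv_injective (DFunLike.ext _ _ fun v => hinj (by
    have := DFunLike.congr_fun ((hf a).2.trans (e ▸ (hf b).2.symm)) v
    exact this)))
  have hfs : Function.Surjective f := Finite.injective_iff_surjective.1 hfinj
  have key : ∀ c : F, ∃ d : F, ∀ v, φ (c • v) = d • φ v := fun c => by
    let e : (Fin 2 → F) ≃+ (Fin 2 → F) := AddEquiv.ofBijective φ hbij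
    let ψ : AddMonoid.End (Fin 2 → F) :=
      { toFun := fun v => φ (c • e.symm v)
        map_zero' := by simp
        map_add' := fun x y => by simp }
    obtain ⟨d, hd⟩ := exists_scalar_of_four ψ fun g => DFunLike.ext _ _ fun v => by
      obtain ⟨g₀, rfl⟩ := hfs g
      have h1 : ∀ u, φ (g₀.1.mulVec u) = (f g₀).1.mulVec (φ u) := fun u => DFunLike.congr_fun (hf g₀).2 u
      show φ (c • e.symm ((f g₀).1.mulVec v)) = (f g₀).1.mulVec (φ (c • e.symm v))
      rw [← h1, Matrix.mulVec_smul]
      congr 2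
      apply e.injective
      rw [AddEquiv.apply_symm_apply]
      show _ = φ _
      rw [h1]
      show _ = (f g₀).1.mulVec (e (e.symm v))
      rw [AddEquiv.apply_symm_apply]
    refine ⟨d, fun v => ?_⟩
    have := hd (φ v)
    change φ (c • e.symm (e v)) = d • φ v at this
    rwa [AddEquiv.symm_apply_apply] at this
  choose σ hσ using key
  obtain ⟨v₀, hv₀⟩ := exists_ne (0 : Fin 2 → F)
  have hφv : φ v₀ ≠ 0 := fun e => hv₀ (hinj (e.trans (map_zero φ).symm))
  have hcan : ∀ a b : F, a • φ v₀ = b • φ v₀ → a = b := fun a b e => smul_left_injective F hφv e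
  have hσinj : Function.Injective σ := fun a b e => by
    have := hinj ((hσ a v₀).trans (e ▸ (hσ b v₀).symm))
    exact smul_left_injective F hv₀ this
  let σh : F →+* F :=
    { toFun := σ
      map_one' := hcan _ _ (by rw [← hσ, one_smul, one_smul])
      map_mul' := fun a b => hcan _ _ (by rw [← hσ, mul_smul, hσ, hσ, smul_smul])
      map_zero' := hcan _ _ (by rw [← hσ, zero_smul, zero_smul, map_zero])
      map_add' := fun a b => hcan _ _ (by rw [← hσ, add_smul, map_add, hσ, hσ, add_smul]) }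
  exact ⟨RingEquiv.ofBijective σh (Finite.injective_iff_bijective.1 hσinj), hσ⟩

/-- Semilinear maps conjugate determinant-one linear maps to determinant-one linear maps. -/
theorem conj_det_one {φ : AddMonoid.End (Fin 2 → F)} (σ : F ≃+* F)
    (hσ : ∀ (c : F) (v : Fin 2 → F), φ (c • v) = σ c • φ v) (hinj : Function.Injective φ)
    (M : Matrix (Fin 2) (Fin 2) F) (hM : M.det = 1) :
    ∃ M' : Matrix (Fin 2) (Fin 2) F, M'.det = 1 ∧ φ * mv M = mv M' * φ := by
  set N : Matrix (Fin 2) (Fin 2) F :=
    !![φ ![1, 0] 0, φ ![0, 1] 0; φ ![1, 0] 1, φ ![0, 1] 1] with hN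
  have hφ : ∀ v, φ v = N.mulVec (fun i => σ (v i)) := fun v => by
    conv_lhs => rw [show v = v 0 • ![1, 0] + v 1 • ![0, 1] by ext i; fin_cases i <;> simp, map_add, hσ, hσ]
    ext i
    fin_cases i <;> simp [hN, Matrix.mulVec, dotProduct, Fin.sum_univ_two] <;> ring
  have hdN : N.det ≠ 0 := fun h0 => by
    obtain ⟨w, hw, hNw⟩ := Matrix.exists_mulVec_eq_zero_iff.2 h0
    apply hw
    have e : φ (fun i => σ.symm (w i)) = φ 0 := by
      rw [map_zero, hφ]; simpa using hNw
    ext i
    have := congrFun (hinj e) i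
    simpa using congrArg σ this
  have hu : IsUnit N.det := isUnit_iff_ne_zero.2 hdN
  refine ⟨N * σ.toRingHom.mapMatrix M * N⁻¹, ?_, DFunLike.ext _ _ fun v => ?_⟩
  · rw [Matrix.det_mul, Matrix.det_mul, Matrix.det_nonsing_inv, ← RingHom.map_det, hM, map_one, mul_one,
      Ring.mul_inverse_cancel _ hu]
  · show φ (M.mulVec v) = (N * σ.toRingHom.mapMatrix M * N⁻¹).mulVec (φ v)
    rw [hφ, hφ, Matrix.mulVec_mulVec, Matrix.nonsing_inv_mul_cancel_right _ _ hu, ← Matrix.mulVec_mulVec]
    congr 1
    ext i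
    simp [Matrix.mulVec, dotProduct, RingHom.mapMatrix_apply]

variable {A : Type*} [Group A] [Finite A] {p : ℕ} [Fact p.Prime]

theorem act_injective_apply (act : A →* AddMonoid.End (Fin 2 → F)) (a : A) : Function.Injective (act a) := fun x y e => by
  have := congrArg (act a⁻¹) e
  have h1 : act a⁻¹ * act a = 1 := by rw [← map_mul, inv_mul_cancel, map_one]
  rwa [← eapp, ← eapp, h1] at this

/-- The linear part of a semilinear group. -/
def linPart (act : A →* AddMonoid.End (Fin 2 → F)) : Subgroup A where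
  carrier := {a | IsLin (act a)}
  one_mem' := by show IsLin (act 1); rw [map_one]; exact isLin_one
  mul_mem' {a b} ha hb := by show IsLin (act (a * b)); rw [map_mul]; exact ha.mul hb
  inv_mem' {a} ha := fun c v => by
    apply act_injective_apply act a
    have h1 : ∀ w, act a (act a⁻¹ w) = w := fun w => by
      rw [← eapp, ← map_mul, mul_inv_cancel, map_one]; rfl
    rw [h1, ha, h1]

/-- A faithful linear `p`-group on the plane has order at most `|F|`. -/
theorem card_linPart_le [Finite F] [CharP F p] (act : A →* AddMonoid.End (Fin 2 → F))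
    (hinj : Function.Injective act) (hA : IsPGroup p A) :
    Nat.card (linPart act) ≤ Nat.card F := by
  have hM : ∀ a : linPart act, ∃ g : Matrix.SpecialLinearGroup (Fin 2) F, act (a : A) = mv g.1 := fun a => by
    obtain ⟨M, hM⟩ := IsLin.exists_matrix a.2
    obtain ⟨k, hk⟩ := hA (a : A)
    have : mv (M ^ p ^ k) = mv 1 := by
      have e : ∀ n : ℕ, mv (M ^ n) = act (a : A) ^ n := fun n => by
        induction n with
        | zero => rw [pow_zero, pow_zero, mv_one]
        | succ n ih => rw [pow_succ, pow_succ, mv_mul, ih, hM]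
      rw [e, ← map_pow, hk, map_one, mv_one]
    exact ⟨⟨M, (det_and_sq_of_pow (mv_injective this)).1⟩, hM⟩
  choose g hg using hM
  let ι : linPart act →* Matrix.SpecialLinearGroup (Fin 2) F :=
    { toFun := g
      map_one' := Subtype.ext (mv_injective (by rw [← hg, OneMemClass.coe_one, map_one]; exact mv_one.symm))
      map_mul' := fun a b => Subtype.ext (mv_injective (by
        rw [← hg, Subgroup.coe_mul, map_mul, hg, hg, ← mv_mul]; rfl)) }
  have hι : Function.Injective ι := fun a b e => Subtype.ext (hinj (by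
    rw [hg, hg]; exact congrArg (fun z : Matrix.SpecialLinearGroup (Fin 2) F => mv z.1) e))
  obtain ⟨P, hP⟩ := ((hA.to_subgroup (linPart act)).of_equiv (MonoidHom.ofInjective hι)).exists_le_sylow
  calc Nat.card (linPart act) = Nat.card ι.range := Nat.card_congr (MonoidHom.ofInjective hι).toEquiv
    _ ≤ Nat.card (P : Subgroup (Matrix.SpecialLinearGroup (Fin 2) F)) := Subgroup.card_le_of_le hP
    _ = Nat.card F := by rw [Sylow.card_eq_multiplicity, ← isSylow_uSubgroup p, card_uSubgroup]

omit [Finite A] in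
/-- An elementary abelian group of field automorphisms has order at most `p`. -/
theorem card_ringAut_le [Finite F] [CharP F p] (H : Subgroup (F ≃+* F)) (hH : ∀ σ ∈ H, σ ^ p = 1) :
    Nat.card H ≤ p := by
  letI := ZMod.algebra F p
  haveI : Fintype F := Fintype.ofFinite F
  have hcom : ∀ (σ : F ≃+* F) (z : ZMod p), σ (algebraMap (ZMod p) F z) = algebraMap (ZMod p) F z := fun σ z => by
    have : σ.toRingHom.comp (algebraMap (ZMod p) F) = algebraMap (ZMod p) F := Subsingleton.elim _ _
    exact RingHom.congr_fun this z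
  let e : (F ≃+* F) →* (F ≃ₐ[ZMod p] F) :=
    { toFun := fun σ => AlgEquiv.ofRingEquiv (f := σ) (hcom σ)
      map_one' := AlgEquiv.ext fun _ => rfl
      map_mul' := fun _ _ => AlgEquiv.ext fun _ => rfl }
  have he : Function.Injective e := fun σ τ h => RingEquiv.ext fun x => AlgEquiv.congr_fun h x
  classical
  haveI : Fintype (F ≃ₐ[ZMod p] F) := Fintype.ofFinite _
  have hle := IsCyclic.card_pow_eq_one_le (α := F ≃ₐ[ZMod p] F) (Fact.out : p.Prime).pos
  refine le_trans ?_ hle
  rw [← Fintype.card_coe, Fintype.card_eq_nat_card]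
  refine Nat.card_le_card_of_injective (fun σ => ⟨e σ, ?_⟩) fun σ τ h => ?_
  · rw [Finset.mem_filter]
    exact ⟨Finset.mem_univ _, by rw [← map_pow, hH σ σ.2, map_one]⟩
  · exact Subtype.ext (he (congrArg Subtype.val h))

/-- An elementary abelian semilinear group: at most `p` times its linear part. -/
theorem card_le_linPart_mul [Finite F] [CharP F p] (act : A →* AddMonoid.End (Fin 2 → F))
    (hexp : ∀ a : A, a ^ p = 1)
    (hsemi : ∀ a : A, ∃ σ : F ≃+* F, ∀ (c : F) (v : Fin 2 → F), act a (c • v) = σ c • act a v) :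
    Nat.card A ≤ Nat.card (linPart act) * p := by
  choose σ hσ using hsemi
  obtain ⟨v₀, hv₀⟩ := exists_ne (0 : Fin 2 → F)
  have huniq : ∀ a (τ : F ≃+* F), (∀ c, act a (c • v₀) = τ c • act a v₀) → ∀ c, σ a c = τ c := fun a τ h c => by
    have hne : act a v₀ ≠ 0 := fun e => hv₀ (act_injective_apply act a (e.trans (map_zero _).symm))
    exact smul_left_injective F hne ((hσ a c v₀).symm.trans (h c))
  let s : A →* (F ≃+* F) :=
    { toFun := σ
      map_one' := RingEquiv.ext (huniq 1 _ fun c => by simp)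
      map_mul' := fun a b => RingEquiv.ext (huniq _ _ fun c => by
        rw [map_mul, eapp, hσ, hσ]; rfl) }
  have hker : s.ker ≤ linPart act := fun a ha c v => by
    rw [hσ, show σ a = 1 from ha]; rfl
  rw [← s.ker.card_mul_index, Subgroup.index_ker]
  refine Nat.mul_le_mul (Subgroup.card_le_of_le hker) (card_ringAut_le s.range ?_)
  rintro _ ⟨a, rfl⟩
  rw [← map_pow, hexp, map_one]

/-- An elementary abelian group with a nonlinear element is too small to be an offender. -/
theorem isLin_of_offender [Finite F] [CharP F p] (act : A →* AddMonoid.End (Fin 2 → F))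
    (hinj : Function.Injective act) (hcomm : ∀ a b : A, a * b = b * a) (hexp : ∀ a : A, a ^ p = 1)
    (hsemi : ∀ a : A, ∃ σ : F ≃+* F, ∀ (c : F) (v : Fin 2 → F), act a (c • v) = σ c • act a v)
    (X : Set (Fin 2 → F)) (hX : ∀ x ∈ X, ∀ a, act a x = x)
    (hoff : Nat.card F ^ 2 ≤ Nat.card A * Nat.card X) : ∀ a, IsLin (act a) := by
  by_contra hcon
  push Not at hcon
  obtain ⟨a₀, ha₀⟩ := hcon
  obtain ⟨σ, hσ⟩ := hsemi a₀
  obtain ⟨x₁, hx₁⟩ : ∃ x₁, σ x₁ ≠ x₁ := by
    by_contra h
    push Not at h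
    exact ha₀ fun c v => by rw [hσ, h]
  set F₀ := {c : F // σ c = c} with hF₀
  set q₀ := Nat.card F₀ with hq₀
  have hsq : q₀ * q₀ ≤ Nat.card F := by
    rw [hq₀, ← Nat.card_prod]
    refine Nat.card_le_card_of_injective (fun z => z.1.1 + z.2.1 * x₁) fun z w h => ?_
    simp only at h
    have h2 : z.2.1 = w.2.1 := by
      by_contra hne
      refine hx₁ ?_
      have hx : x₁ = (w.1.1 - z.1.1) / (z.2.1 - w.2.1) := by
        rw [eq_div_iff (sub_ne_zero.2 hne)]; linear_combination h
      rw [hx, map_div₀, map_sub, map_sub, z.1.2, z.2.2, w.1.2, w.2.2]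
    refine Prod.ext (Subtype.ext ?_) (Subtype.ext h2)
    rw [h2] at h; exact add_right_cancel h
  have hp0 : p ≤ q₀ := by
    have : Nat.card (ZMod p) = p := Nat.card_zmod p
    rw [← this]
    refine Nat.card_le_card_of_injective (fun z => ⟨ZMod.castHom (dvd_refl p) F z, by
      rw [ZMod.castHom_apply, ZMod.cast_eq_val, map_natCast]⟩) fun z w h => ?_
    exact (ZMod.castHom (dvd_refl p) F).injective (congrArg Subtype.val h)
  have hp2 := (Fact.out : p.Prime).two_le
  -- the fixed vectors of `a₀` inside a line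
  have hline : ∀ v₀ : Fin 2 → F, act a₀ v₀ = v₀ → v₀ ≠ 0 → ∀ c : F, act a₀ (c • v₀) = c • v₀ → σ c = c :=
    fun v₀ h0 hne c hc => smul_left_injective F hne (by
      show σ c • v₀ = c • v₀
      rw [← hc, hσ, h0])
  have hA := card_le_linPart_mul act hexp hsemi
  -- it is enough to bound `|lin| * |X|` by `q₀ ^ 2`
  suffices hmain : Nat.card (linPart act) * Nat.card X ≤ q₀ * q₀ by
    have h1 : Nat.card F ^ 2 ≤ q₀ * q₀ * p := by
      calc Nat.card F ^ 2 ≤ Nat.card A * Nat.card X := hoff
        _ ≤ Nat.card (linPart act) * p * Nat.card X := Nat.mul_le_mul_right _ hA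
        _ = Nat.card (linPart act) * Nat.card X * p := by ring
        _ ≤ q₀ * q₀ * p := Nat.mul_le_mul_right _ hmain
    have h2 : (q₀ * q₀) * (q₀ * q₀) ≤ q₀ * q₀ * q₀ := by
      calc (q₀ * q₀) * (q₀ * q₀) ≤ Nat.card F * Nat.card F := Nat.mul_le_mul hsq hsq
        _ = Nat.card F ^ 2 := by ring
        _ ≤ q₀ * q₀ * p := h1
        _ ≤ q₀ * q₀ * q₀ := Nat.mul_le_mul_left _ hp0
    have h3 : q₀ * q₀ ≤ q₀ := Nat.le_of_mul_le_mul_left h2 (Nat.mul_pos (by omega) (by omega))
    have : q₀ ≤ 1 := Nat.le_of_mul_le_mul_left (h3.trans (Nat.mul_one q₀).ge) (by omega)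
    omega
  by_cases hX0 : ∀ x ∈ X, x = 0
  · have hXc : Nat.card X ≤ 1 := by
      rw [Finite.card_le_one_iff_subsingleton]
      exact ⟨fun x y => Subtype.ext ((hX0 _ x.2).trans (hX0 _ y.2).symm)⟩
    -- a group of order at most `p q` against `q ^ 2`
    have hl := card_linPart_le act hinj (fun a => ⟨1, by rw [pow_one]; exact hexp a⟩)
    exfalso
    have h1 : Nat.card F ^ 2 ≤ Nat.card F * p := by
      calc Nat.card F ^ 2 ≤ Nat.card A * Nat.card X := hoff
        _ ≤ Nat.card (linPart act) * p * 1 := Nat.mul_le_mul hA hXc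
        _ ≤ Nat.card F * p * 1 := Nat.mul_le_mul_right _ (Nat.mul_le_mul_right _ hl)
        _ = Nat.card F * p := mul_one _
    have h2 : Nat.card F ≤ p := Nat.le_of_mul_le_mul_left (by rwa [← sq]) Nat.card_pos
    have : q₀ * q₀ ≤ q₀ * 1 := by rw [mul_one]; exact hsq.trans (h2.trans hp0)
    have := Nat.le_of_mul_le_mul_left this (by omega)
    omega
  push Not at hX0
  obtain ⟨v₀, hv₀X, hv₀⟩ := hX0
  by_cases hl1 : linPart act = ⊥
  · rw [hl1, Subgroup.card_bot, one_mul]
    -- fixed vectors of a semilinear map are a space over the fixed field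
    obtain ⟨w, hw⟩ : ∃ w : Fin 2 → F, w ∈ {x | ∀ c : F, x ≠ c • v₀} := by
      by_contra h
      simp only [Set.mem_setOf_eq, not_exists, not_forall, not_not] at h
      choose c hc using h
      have hci : Function.Injective c := fun x y e => by rw [hc x, hc y, e]
      have := Nat.card_le_card_of_injective c hci
      rw [Nat.card_fun, Nat.card_fin] at this
      have h4 : 4 ≤ Nat.card F := le_trans (Nat.mul_le_mul (hp2.trans hp0) (hp2.trans hp0)) hsq
      nlinarith
    by_cases hXl : ∀ x ∈ X, ∃ c : F, x = c • v₀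
    · choose c hc using fun x : X => hXl x x.2
      refine le_trans (Nat.card_le_card_of_injective
        (fun x : X => (⟨c x, hline v₀ (hX v₀ hv₀X a₀) hv₀ _ (hc x ▸ hX x x.2 a₀)⟩ : F₀))
        fun x y e => Subtype.ext ?_) (Nat.le_mul_self _)
      rw [hc x, hc y, show c x = c y from congrArg Subtype.val e]
    push Not at hXl
    obtain ⟨w, hwX, hw⟩ := hXl
    let M : Matrix (Fin 2) (Fin 2) F := !![v₀ 0, w 0; v₀ 1, w 1]
    have hM : IsUnit M.det := by
      rw [isUnit_iff_ne_zero]
      intro h0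
      obtain ⟨z, hz, hz0⟩ := Matrix.exists_mulVec_eq_zero_iff.2 h0
      have e0 := congrFun hz0 0
      have e1 := congrFun hz0 1
      simp [M, Matrix.mulVec, dotProduct, Fin.sum_univ_two] at e0 e1
      by_cases h1 : z 1 = 0
      · have h00 : z 0 ≠ 0 := fun e => hz (by ext i; fin_cases i <;> simp [e, h1])
        simp [h1, h00] at e0 e1
        exact hv₀ (by ext i; fin_cases i <;> simp [e0, e1])
      · refine hw (-(z 0) / z 1) ?_
        ext i
        fin_cases i <;> simp <;> field_simp <;> first | linear_combination e0 | linear_combination e1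
    have hco : ∀ x : Fin 2 → F, x = (M⁻¹.mulVec x) 0 • v₀ + (M⁻¹.mulVec x) 1 • w := fun x => by
      conv_lhs => rw [show x = M.mulVec (M⁻¹.mulVec x) by
        rw [Matrix.mulVec_mulVec, Matrix.mul_nonsing_inv _ hM, Matrix.one_mulVec]]
      ext i
      fin_cases i <;> simp [M, Matrix.mulVec, dotProduct, Fin.sum_univ_two] <;> ring
    have huniq : ∀ a b a' b' : F, a • v₀ + b • w = a' • v₀ + b' • w → a = a' ∧ b = b' := by
      intro a b a' b' e
      by_cases hb : b = b'
      · subst hb; exact ⟨smul_left_injective F hv₀ (add_right_cancel e), rfl⟩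
      · refine absurd ?_ (hw ((a - a') / (b' - b)))
        have : (b' - b) • w = (a - a') • v₀ := by
          rw [sub_smul, sub_smul]; linear_combination (norm := abel) -e
        rw [eq_comm, div_eq_inv_mul, mul_smul, ← this, smul_smul,
          inv_mul_cancel₀ (sub_ne_zero.2 (Ne.symm hb)), one_smul]
    have hfix : ∀ x : X, σ ((M⁻¹.mulVec x.1) 0) = (M⁻¹.mulVec x.1) 0 ∧ σ ((M⁻¹.mulVec x.1) 1) = (M⁻¹.mulVec x.1) 1 := by
      intro x
      refine huniq _ _ _ _ ?_
      have h1 := hX x x.2 a₀
      rw [hco x.1, map_add, hσ, hσ, hX v₀ hv₀X, hX w hwX] at h1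
      exact h1
    rw [hq₀, ← Nat.card_prod]
    refine Nat.card_le_card_of_injective (fun x : X => ((⟨_, (hfix x).1⟩, ⟨_, (hfix x).2⟩) : F₀ × F₀))
      fun x y e => Subtype.ext ?_
    simp only [Prod.mk.injEq, Subtype.mk.injEq] at e
    rw [hco x.1, hco y.1, show (M⁻¹.mulVec x.1) 0 = (M⁻¹.mulVec y.1) 0 from congrArg Subtype.val e.1,
      show (M⁻¹.mulVec x.1) 1 = (M⁻¹.mulVec y.1) 1 from congrArg Subtype.val e.2]
  -- a linear element fixes only a line
  obtain ⟨u, hu, hu1⟩ := (Subgroup.ne_bot_iff_exists_ne_one.1 hl1) |> fun ⟨⟨u, hu⟩, h⟩ =>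
    (⟨u, hu, fun e => h (Subtype.ext e)⟩ : ∃ u, u ∈ linPart act ∧ u ≠ 1)
  obtain ⟨w, hw⟩ : ∃ w : Fin 2 → F, ∀ c : F, w ≠ c • v₀ := by
    by_contra h
    push Not at h
    choose c hc using h
    have hci : Function.Injective c := fun x y e => by rw [hc x, hc y, e]
    have := Nat.card_le_card_of_injective c hci
    rw [Nat.card_fun, Nat.card_fin] at this
    have h4 : 4 ≤ Nat.card F := le_trans (Nat.mul_le_mul (hp2.trans hp0) (hp2.trans hp0)) hsq
    nlinarith
  -- every vector is a combination of `v₀` and `w`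
  have hspan : ∀ x : Fin 2 → F, ∃ a b : F, x = a • v₀ + b • w := by
    have hi : Function.Injective (fun z : F × F => z.1 • v₀ + z.2 • w) := by
      rintro ⟨a, b⟩ ⟨a', b'⟩ e
      simp only at e
      by_cases hb : b = b'
      · subst hb; rw [smul_left_injective F hv₀ (add_right_cancel e)]
      · refine absurd ?_ (hw ((a - a') / (b' - b)))
        have : (b' - b) • w = (a - a') • v₀ := by
          rw [sub_smul, sub_smul]; linear_combination (norm := abel) -e
        rw [div_eq_inv_mul, mul_smul, ← this, smul_smul,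
          inv_mul_cancel₀ (sub_ne_zero.2 (Ne.symm hb)), one_smul]
    have hs := hi.bijective_of_nat_card_le (by simp [Nat.card_prod, Nat.card_fun, sq])
    exact fun x => by obtain ⟨⟨a, b⟩, h⟩ := hs.2 x; exact ⟨a, b, h.symm⟩
  have hu2 : ∀ l ∈ linPart act, ∃ t : F, act l w = w + t • v₀ := by
    intro l hl
    obtain ⟨a, b, hab⟩ := hspan (act l w)
    refine ⟨a, ?_⟩
    suffices b = 1 by rw [hab, this, one_smul, add_comm]
    have hit : ∀ n : ℕ, ∃ a' : F, (act l ^ n) w = a' • v₀ + b ^ n • w := fun n => by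
      induction n with
      | zero => exact ⟨0, by simp⟩
      | succ n ih =>
        obtain ⟨a', ha'⟩ := ih
        refine ⟨a' + b ^ n * a, ?_⟩
        rw [pow_succ', eapp, ha', map_add, hl, hl, hX v₀ hv₀X, hab, smul_add, smul_smul,
          smul_smul, add_smul, pow_succ, add_assoc]
    obtain ⟨a', ha'⟩ := hit p
    rw [← map_pow, hexp, map_one] at ha'
    have h1 : b ^ p = 1 := by
      by_contra hb
      refine hw (a' / (1 - b ^ p)) ?_
      have : (1 - b ^ p) • w = a' • v₀ := by
        rw [sub_smul, one_smul]; nth_rewrite 1 [show w = (1 : AddMonoid.End (Fin 2 → F)) w from rfl]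
        rw [ha', add_sub_cancel_right]
      rw [div_eq_inv_mul, mul_smul, ← this, smul_smul,
        inv_mul_cancel₀ (sub_ne_zero.2 (Ne.symm hb)), one_smul]
    have h0 : (b - 1) ^ p = 0 := by rw [sub_pow_char, h1, one_pow, sub_self]
    exact sub_eq_zero.1 (eq_zero_of_pow_eq_zero h0)
  obtain ⟨d, e, hde⟩ : ∃ d e : F, act a₀ w = e • v₀ + d • w := by
    obtain ⟨e, d, h⟩ := hspan (act a₀ w); exact ⟨d, e, h⟩
  have hd0 : d ≠ 0 := by
    intro h0
    rw [h0, zero_smul, add_zero] at hde
    refine hw (σ.symm e) (act_injective_apply act a₀ ?_)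
    rw [hde, hσ, hX v₀ hv₀X, RingEquiv.apply_symm_apply]
  choose t ht using hu2
  have hteig : ∀ l (hl : l ∈ linPart act), σ (t l hl) = d * t l hl := fun l hl => by
    have e1 : act a₀ (act l w) = act l (act a₀ w) := by
      rw [← eapp, ← map_mul, hcomm, map_mul]; rfl
    rw [hde, map_add, hl, hl, hX v₀ hv₀X, ht l hl, map_add, hde, hσ, hX v₀ hv₀X, smul_add, smul_smul,
      add_assoc] at e1
    exact smul_left_injective F hv₀ (add_left_cancel (add_left_cancel e1))
  have htne : t u hu ≠ 0 := by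
    intro h0
    refine hu1 (hinj (DFunLike.ext _ _ fun x => ?_))
    obtain ⟨a, b, rfl⟩ := hspan x
    rw [map_one, map_add, hu, hu, hX v₀ hv₀X, ht u hu, h0, zero_smul, add_zero]; rfl
  have hlin : Nat.card (linPart act) ≤ q₀ := by
    refine Nat.card_le_card_of_injective (fun l : linPart act => (⟨t l l.2 / t u hu, by
      rw [map_div₀, hteig, hteig, mul_div_mul_left _ _ hd0]⟩ : F₀)) fun l l' h => Subtype.ext (hinj ?_)
    have h' : t l l.2 = t l' l'.2 := (div_left_inj' htne).1 (congrArg Subtype.val h)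
    refine DFunLike.ext _ _ fun x => ?_
    obtain ⟨a, b, rfl⟩ := hspan x
    rw [map_add, map_add, l.2, l.2, l'.2, l'.2, hX v₀ hv₀X, hX v₀ hv₀X, ht l l.2, ht l' l'.2, h']
  have hXle : Nat.card X ≤ q₀ := by
    have hc : ∀ x : X, ∃ c : F, (x : Fin 2 → F) = c • v₀ := fun x => by
      obtain ⟨a, b, hab⟩ := hspan x.1
      refine ⟨a, ?_⟩
      have h1 := hX x x.2 u
      rw [hab, map_add, hu, hu, hX v₀ hv₀X, ht u hu, smul_add, smul_smul] at h1
      have hb : b * t u hu = 0 := (smul_eq_zero.1
        (add_left_cancel ((add_left_cancel h1).trans (add_zero (b • w)).symm))).resolve_right hv₀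
      rw [hab, (mul_eq_zero.1 hb).resolve_right htne, zero_smul, add_zero]
    choose c hc using hc
    refine Nat.card_le_card_of_injective
      (fun x : X => (⟨c x, hline v₀ (hX v₀ hv₀X a₀) hv₀ _ (hc x ▸ hX x x.2 a₀)⟩ : F₀)) fun x y h => Subtype.ext ?_
    rw [hc x, hc y, show c x = c y from congrArg Subtype.val h]
  exact Nat.mul_le_mul hlin hXle

end CfsgLib.LocalEven.Baumann
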