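import Cfsg.Agent.Lib.LocalEven.BlockModule
import Cfsg.Agent.Lib.LocalEven.Baumann.Semilinear
import Cfsg.Agent.Lib.LocalEven.Baumann.AltFacts

/-!
A normalized section of a group as an additive group with its conjugation action.
-/

set_option autoImplicit false

namespace CfsgLib.LocalEven.Baumann

open Subgroup

variable {G : Type*} [Group G]

/-- A section `U / U₀` with coordinates in the additive group `M`. -/
structure Sec (U U₀ : Subgroup G) (M : Type*) [AddCommGroup M] where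
  f : G → M
  map_mul : ∀ u ∈ U, ∀ v ∈ U, f (u * v) = f u + f v
  surj : ∀ x : M, ∃ u ∈ U, f u = x
  ker : ∀ u ∈ U, (f u = 0 ↔ u ∈ U₀)
  le : U₀ ≤ U

namespace Sec

variable {U U₀ : Subgroup G} {M : Type*} [AddCommGroup M] (S : Sec U U₀ M)

/-- From a homomorphism onto `M`. -/
noncomputable def ofHom (U U₀ : Subgroup G) (hle : U₀ ≤ U) (ψ : ↥U →* Multiplicative M)
    (hψ : Function.Surjective ψ) (hker : ∀ u : ↥U, ψ u = 1 ↔ (u : G) ∈ U₀) : Sec U U₀ M := by
  classical
  exact {
    f := fun g => if h : g ∈ U then Multiplicative.toAdd (ψ ⟨g, h⟩) else 0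
    map_mul := fun u hu v hv => by
      simp only [dif_pos hu, dif_pos hv, dif_pos (mul_mem hu hv)]
      exact congrArg Multiplicative.toAdd (ψ.map_mul ⟨u, hu⟩ ⟨v, hv⟩)
    surj := fun x => by
      obtain ⟨u, hu⟩ := hψ (Multiplicative.ofAdd x)
      exact ⟨u, u.2, by simp [hu]⟩
    ker := fun u hu => by
      simp only [dif_pos hu]
      exact toAdd_eq_zero.trans (hker ⟨u, hu⟩)
    le := hle }

theorem f_ofHom {U U₀ : Subgroup G} (hle : U₀ ≤ U) (ψ : ↥U →* Multiplicative M)
    (hψ : Function.Surjective ψ) (hker : ∀ u : ↥U, ψ u = 1 ↔ (u : G) ∈ U₀) {g : G} (h : g ∈ U) :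
    (ofHom U U₀ hle ψ hψ hker).f g = Multiplicative.toAdd (ψ ⟨g, h⟩) := by
  simp [ofHom, h]

theorem f_one : S.f 1 = 0 := (S.ker 1 U.one_mem).2 U₀.one_mem

theorem f_inv {u : G} (hu : u ∈ U) : S.f u⁻¹ = -S.f u := by
  have := S.map_mul _ (U.inv_mem hu) _ hu
  rw [inv_mul_cancel, f_one] at this
  exact eq_neg_of_add_eq_zero_left this.symm

theorem f_eq_iff {u v : G} (hu : u ∈ U) (hv : v ∈ U) : S.f u = S.f v ↔ u * v⁻¹ ∈ U₀ := by
  rw [← S.ker _ (U.mul_mem hu (U.inv_mem hv)), S.map_mul _ hu _ (U.inv_mem hv), S.f_inv hv, ← sub_eq_add_neg,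
    sub_eq_zero]

theorem f_mul_left {u z : G} (hu : u ∈ U) (hz : z ∈ U₀) : S.f (z * u) = S.f u := by
  rw [S.map_mul _ (S.le hz) _ hu, (S.ker z (S.le hz)).2 hz, zero_add]

theorem f_pow {u : G} (hu : u ∈ U) (n : ℕ) : S.f (u ^ n) = n • S.f u := by
  induction n with
  | zero => rw [pow_zero, zero_nsmul, f_one]
  | succ n ih => rw [pow_succ, S.map_mul _ (U.pow_mem hu n) _ hu, ih, succ_nsmul]

/-- The image of a subgroup of `U`. -/
def img (X : Subgroup G) (hX : X ≤ U) : AddSubgroup M where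
  carrier := S.f '' (X : Set G)
  zero_mem' := ⟨1, X.one_mem, S.f_one⟩
  add_mem' := by
    rintro _ _ ⟨u, hu, rfl⟩ ⟨v, hv, rfl⟩
    exact ⟨u * v, X.mul_mem hu hv, S.map_mul u (hX hu) v (hX hv)⟩
  neg_mem' := by
    rintro _ ⟨u, hu, rfl⟩
    exact ⟨u⁻¹, X.inv_mem hu, S.f_inv (hX hu)⟩

theorem mem_img {X : Subgroup G} (hX : X ≤ U) {x : M} : x ∈ S.img X hX ↔ ∃ u ∈ X, S.f u = x := Iff.rfl

/-- The elements normalizing the section. -/
def nrm (_ : Sec U U₀ M) : Subgroup G := normalizer (U : Set G) ⊓ normalizer (U₀ : Set G)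

theorem mem_nrm {g : G} : g ∈ S.nrm ↔ g ∈ normalizer (U : Set G) ∧ g ∈ normalizer (U₀ : Set G) := Iff.rfl

theorem conj_mem {g : G} (hg : g ∈ S.nrm) {u : G} (hu : u ∈ U) : g * u * g⁻¹ ∈ U :=
  (mem_normalizer_iff.1 hg.1 u).1 hu

theorem f_conj_congr {g : G} (hg : g ∈ S.nrm) {u v : G} (hu : u ∈ U) (hv : v ∈ U) (h : S.f u = S.f v) :
    S.f (g * u * g⁻¹) = S.f (g * v * g⁻¹) := by
  rw [S.f_eq_iff (S.conj_mem hg hu) (S.conj_mem hg hv)]
  have := (mem_normalizer_iff.1 hg.2 _).1 ((S.f_eq_iff hu hv).1 h)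
  convert this using 1
  group

/-- The conjugation action of an element of `nrm` on coordinates. -/
noncomputable def actAux (g : G) (hg : g ∈ S.nrm) : AddMonoid.End M :=
    { toFun := fun x => S.f (g * (S.surj x).choose * g⁻¹)
      map_zero' := by
        rw [S.f_conj_congr hg (S.surj 0).choose_spec.1 U.one_mem
          ((S.surj 0).choose_spec.2.trans S.f_one.symm), mul_one, mul_inv_cancel, f_one]
      map_add' := fun x y => by
        have hx := (S.surj x).choose_spec
        have hy := (S.surj y).choose_spec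
        rw [← S.map_mul _ (S.conj_mem hg hx.1) _ (S.conj_mem hg hy.1),
          S.f_conj_congr hg (S.surj (x + y)).choose_spec.1 (U.mul_mem hx.1 hy.1)
            ((S.surj (x + y)).choose_spec.2.trans (by rw [S.map_mul _ hx.1 _ hy.1, hx.2, hy.2]))]
        congr 1
        group }

/-- The conjugation action on coordinates (zero outside `nrm`). -/
noncomputable def act (g : G) : AddMonoid.End M := by
  classical exact if hg : g ∈ S.nrm then S.actAux g hg else 0

theorem act_f {g : G} (hg : g ∈ S.nrm) {u : G} (hu : u ∈ U) : S.act g (S.f u) = S.f (g * u * g⁻¹) := by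
  rw [act, dif_pos hg]
  exact S.f_conj_congr hg (S.surj _).choose_spec.1 hu (S.surj _).choose_spec.2

theorem ext_f {φ ψ : AddMonoid.End M} (h : ∀ u ∈ U, φ (S.f u) = ψ (S.f u)) : φ = ψ := by
  refine DFunLike.ext _ _ fun x => ?_
  obtain ⟨u, hu, rfl⟩ := S.surj x
  exact h u hu

theorem act_one : S.act 1 = 1 := S.ext_f fun u hu => by
  rw [S.act_f S.nrm.one_mem hu, one_mul, inv_one, mul_one]; rfl

theorem act_mul {g h : G} (hg : g ∈ S.nrm) (hh : h ∈ S.nrm) : S.act (g * h) = S.act g * S.act h :=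
  S.ext_f fun u hu => by
    show _ = S.act g (S.act h (S.f u))
    rw [S.act_f (mul_mem hg hh) hu, S.act_f hh hu, S.act_f hg (S.conj_mem hh hu)]
    congr 1
    group

/-- The action as a homomorphism. -/
noncomputable def actHom : S.nrm →* AddMonoid.End M where
  toFun g := S.act (g : G)
  map_one' := S.act_one
  map_mul' g h := S.act_mul g.2 h.2

theorem act_mul_inv {g : G} (hg : g ∈ S.nrm) : S.act g * S.act g⁻¹ = 1 := by
  rw [← S.act_mul hg (inv_mem hg), mul_inv_cancel, act_one]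

theorem act_inv_mul {g : G} (hg : g ∈ S.nrm) : S.act g⁻¹ * S.act g = 1 := by
  rw [← S.act_mul (inv_mem hg) hg, inv_mul_cancel, act_one]

theorem act_pow {g : G} (hg : g ∈ S.nrm) (n : ℕ) : S.act (g ^ n) = S.act g ^ n :=
  _root_.map_pow S.actHom ⟨g, hg⟩ n

theorem act_injective_apply {g : G} (hg : g ∈ S.nrm) : Function.Injective (S.act g) := fun x y e => by
  have h := congrArg (S.act g⁻¹) e
  change (S.act g⁻¹ * S.act g) x = (S.act g⁻¹ * S.act g) y at h
  rwa [S.act_inv_mul hg] at h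

theorem act_eq_one_iff {g : G} (hg : g ∈ S.nrm) :
    S.act g = 1 ↔ ∀ u ∈ U, g * u * g⁻¹ * u⁻¹ ∈ U₀ := by
  constructor
  · intro h u hu
    rw [← S.f_eq_iff (S.conj_mem hg hu) hu, ← S.act_f hg hu, h]; rfl
  · intro h
    refine S.ext_f fun u hu => ?_
    rw [S.act_f hg hu, (S.f_eq_iff (S.conj_mem hg hu) hu).2 (h u hu)]; rfl

theorem act_eq_iff {g h : G} (hg : g ∈ S.nrm) (hh : h ∈ S.nrm) :
    S.act g = S.act h ↔ S.act (h⁻¹ * g) = 1 := by
  rw [S.act_mul (inv_mem hh) hg]
  constructor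
  · intro e; rw [e, S.act_inv_mul hh]
  · intro e
    calc S.act g = S.act h * S.act h⁻¹ * S.act g := by rw [S.act_mul_inv hh, one_mul]
      _ = S.act h := by rw [mul_assoc, e, mul_one]

include S in
theorem card_eq [Finite G] : Nat.card M * Nat.card U₀ = Nat.card U := by
  have h1 : U₀.relIndex U = Nat.card M := by
    let ψ : ↥U →* Multiplicative M :=
      { toFun := fun u => Multiplicative.ofAdd (S.f u)
        map_one' := by simp [f_one]
        map_mul' := fun u v => by simp [S.map_mul u u.2 v v.2] }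
    have hs : Function.Surjective ψ := fun x => by
      obtain ⟨u, hu, h⟩ := S.surj (Multiplicative.toAdd x)
      exact ⟨⟨u, hu⟩, by simp [ψ, h]⟩
    have hk : ψ.ker = U₀.subgroupOf U := by
      ext u
      rw [MonoidHom.mem_ker, mem_subgroupOf, ← S.ker u u.2]
      simp [ψ]
    rw [Subgroup.relIndex, ← hk, Subgroup.index_ker, MonoidHom.range_eq_top.2 hs, Subgroup.card_top]
    exact Nat.card_congr Multiplicative.toAdd
  rw [← h1, Subgroup.relIndex, mul_comm, ← Nat.card_congr (Subgroup.subgroupOfEquivOfLe S.le).toEquiv]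
  exact Subgroup.card_mul_index _

end Sec

end CfsgLib.LocalEven.Baumann
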