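import Cfsg.Agent.S2984
import Cfsg.Agent.Lib.Base.Cores
import Cfsg.Agent.Lib.LocalEven.Baumann.Sec

/-!
First facts on a Baumann block `E` of a group of characteristic `p`:
`W_E`, the centralizer of `W_E` in `N(E)`, and the behaviour of elements of order prime to `p`.
-/

set_option autoImplicit false
set_option linter.unusedSectionVars false

namespace CfsgLib.LocalEven.Baumann

open Subgroup CfsgLib.LocalEven
open scoped commutatorElement

variable {G : Type*} [Group G] {p : ℕ}

/-- `O_p(E)`. -/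
abbrev QE (p : ℕ) (E : Subgroup G) : Subgroup G := Cfsg.pCoreOf p E
/-- `W = Ω₁(Z(O_p(E)))`. -/
abbrev WW (p : ℕ) (E : Subgroup G) : Subgroup G := Cfsg.omegaOneCenter p (Cfsg.pCoreOf p E)
/-- `Z = C_W(E)`. -/
abbrev ZZ (p : ℕ) (E : Subgroup G) : Subgroup G :=
  Cfsg.omegaOneCenter p (Cfsg.pCoreOf p E) ⊓ centralizer (E : Set G)
/-- `W_E = [W, E]`. -/
abbrev WE (p : ℕ) (E : Subgroup G) : Subgroup G := ⁅Cfsg.omegaOneCenter p (Cfsg.pCoreOf p E), E⁆
/-- `O_p(G)`. -/
abbrev OO (p : ℕ) (G : Type*) [Group G] : Subgroup G := Cfsg.pCore p G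
/-- `V = Ω₁(Z(O_p(G)))`. -/
abbrev VV (p : ℕ) (G : Type*) [Group G] : Subgroup G := Cfsg.omegaOneCenter p (Cfsg.pCore p G)

theorem mem_omegaOneCenter_iff {X : Subgroup G} {x : G} :
    x ∈ Cfsg.omegaOneCenter p X ↔ x ∈ X ∧ x ∈ centralizer (X : Set G) ∧ x ^ p = 1 := by
  refine ⟨fun hx => ⟨(CfsgLib.PLocal.omegaOne_le p _ hx).1, (CfsgLib.PLocal.omegaOne_le p _ hx).2,
    (CfsgLib.PLocal.isElementaryAbelian_omegaOne (K := X ⊓ centralizer (X : Set G))
      (fun a ha => centralizer_le inf_le_left ha.2)).2 x hx⟩, fun h =>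
    CfsgLib.PLocal.mem_omegaOne ⟨h.1, h.2.1⟩ h.2.2⟩

theorem omegaOneCenter_le (X : Subgroup G) : Cfsg.omegaOneCenter p X ≤ X :=
  fun _ hx => (mem_omegaOneCenter_iff.1 hx).1

theorem commute_omegaOneCenter {X : Subgroup G} {x y : G} (hx : x ∈ Cfsg.omegaOneCenter p X) (hy : y ∈ X) :
    x * y = y * x := (mem_centralizer_iff.1 (mem_omegaOneCenter_iff.1 hx).2.1 y hy).symm

theorem mem_normalizer_omegaOneCenter {X : Subgroup G} {g : G} (hg : g ∈ normalizer (X : Set G)) :
    g ∈ normalizer (Cfsg.omegaOneCenter p X : Set G) := by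
  refine mem_normalizer_of_conj ?_
  rw [Cfsg.omegaOneCenter, CfsgLib.PLocal.map_omegaOne (MulAut.conj g).injective,
    CfsgLib.PLocal.map_inf_centralizer (MulAut.conj g).injective, conj_map_eq_of_mem_normalizer hg]

theorem mem_normalizer_inf {H K : Subgroup G} {g : G} (hH : g ∈ normalizer (H : Set G))
    (hK : g ∈ normalizer (K : Set G)) : g ∈ normalizer ((H ⊓ K : Subgroup G) : Set G) :=
  CfsgLib.PLocal.normalizer_inf_le H K ⟨hH, hK⟩

theorem mem_normalizer_commutator {H K : Subgroup G} {g : G} (hH : g ∈ normalizer (H : Set G))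
    (hK : g ∈ normalizer (K : Set G)) : g ∈ normalizer ((⁅H, K⁆ : Subgroup G) : Set G) := by
  refine mem_normalizer_of_conj ?_
  rw [map_commutator, conj_map_eq_of_mem_normalizer hH, conj_map_eq_of_mem_normalizer hK]

theorem mem_normalizer_sup {H K : Subgroup G} {g : G} (hH : g ∈ normalizer (H : Set G))
    (hK : g ∈ normalizer (K : Set G)) : g ∈ normalizer ((H ⊔ K : Subgroup G) : Set G) := by
  refine mem_normalizer_of_conj ?_
  rw [Subgroup.map_sup, conj_map_eq_of_mem_normalizer hH, conj_map_eq_of_mem_normalizer hK]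

theorem mem_normalizer_WW {E : Subgroup G} {g : G} (hg : g ∈ normalizer (E : Set G)) :
    g ∈ normalizer (WW p E : Set G) := mem_normalizer_omegaOneCenter (mem_normalizer_pCoreOf hg)

theorem mem_normalizer_ZZ {E : Subgroup G} {g : G} (hg : g ∈ normalizer (E : Set G)) :
    g ∈ normalizer (ZZ p E : Set G) :=
  mem_normalizer_inf (mem_normalizer_WW hg) (normalizer_le_normalizer_centralizer _ hg)

theorem mem_normalizer_WE {E : Subgroup G} {g : G} (hg : g ∈ normalizer (E : Set G)) :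
    g ∈ normalizer (WE p E : Set G) := mem_normalizer_commutator (mem_normalizer_WW hg) hg

theorem mem_normalizer_of_normal {N : Subgroup G} [N.Normal] (g : G) : g ∈ normalizer (N : Set G) := by
  rw [normalizer_eq_top_iff.2 ‹N.Normal›]; trivial

theorem ww_le (E : Subgroup G) : WW p E ≤ QE p E := omegaOneCenter_le _

theorem ww_le_self (E : Subgroup G) : WW p E ≤ E := (ww_le E).trans (pCoreOf_le p E)

theorem we_le_ww (E : Subgroup G) : WE p E ≤ WW p E := by
  rw [commutator_le]
  intro w hw e he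
  rw [commutatorElement_def, show w * e * w⁻¹ * e⁻¹ = w * (e * w⁻¹ * e⁻¹) by group]
  exact mul_mem hw ((mem_normalizer_iff.1 (mem_normalizer_WW (le_normalizer he)) _).1 (inv_mem hw))

theorem we_le_self (E : Subgroup G) : WE p E ≤ E := (we_le_ww E).trans (ww_le_self E)

theorem ww_commute {E : Subgroup G} {x y : G} (hx : x ∈ WW p E) (hy : y ∈ QE p E) : x * y = y * x :=
  commute_omegaOneCenter hx hy

theorem zz_le_ww (E : Subgroup G) : ZZ p E ≤ WW p E := inf_le_left

theorem zz_commute {E : Subgroup G} {z e : G} (hz : z ∈ ZZ p E) (he : e ∈ E) : z * e = e * z :=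
  ((mem_centralizer_iff.1 hz.2) e he).symm

variable [Finite G] [Fact p.Prime]

theorem isPGroup_QE (E : Subgroup G) : IsPGroup p (QE p E) := isPGroup_pCoreOf E

theorem isPGroup_OO : IsPGroup p (OO p G) := isPGroup_pCore

theorem isPGroup_VV : IsPGroup p (VV p G) := isPGroup_OO.to_le (omegaOneCenter_le _)

theorem vv_normal : (VV p G).Normal := by
  rw [← normalizer_eq_top_iff, eq_top_iff]
  exact fun g _ => mem_normalizer_omegaOneCenter (mem_normalizer_of_normal g)

theorem pow_eq_one_of_mem_ww {E : Subgroup G} {x : G} (hx : x ∈ WW p E) : x ^ p = 1 :=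
  (mem_omegaOneCenter_iff.1 hx).2.2

/-- An element of order prime to `p` whose commutator with `u` is a central `p`-element centralizes `u`. -/
theorem comm_eq_of_coprime {x u z : G} (hx : (orderOf x).Coprime p) (hz : x * u * x⁻¹ = z * u)
    (hxz : x * z = z * x) {K : Subgroup G} (hK : IsPGroup p K) (hzK : z ∈ K) : x * u = u * x := by
  have h := conj_pow_of_commute hz hxz (orderOf x)
  rw [pow_orderOf_eq_one, one_mul, inv_one, mul_one] at h
  have h1 : z ^ orderOf x = 1 := by
    calc z ^ orderOf x = z ^ orderOf x * u * u⁻¹ := (mul_inv_cancel_right _ _).symm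
      _ = u * u⁻¹ := by rw [← h]
      _ = 1 := mul_inv_cancel u
  obtain ⟨n, hn⟩ := hK ⟨z, hzK⟩
  have h2 : z ^ p ^ n = 1 := by simpa using congrArg Subtype.val hn
  have h3 : z = 1 := orderOf_eq_one_iff.1 (Nat.eq_one_of_dvd_coprimes (hx.pow_right n)
    (orderOf_dvd_of_pow_eq_one h1) (orderOf_dvd_of_pow_eq_one h2))
  rw [h3, one_mul, mul_inv_eq_iff_eq_mul] at hz
  exact hz

/-- An element of a normal `p`-power order extension: if a power prime to the order is in a subgroup, so is it. -/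
theorem mem_of_pow_mem {x : G} {S : Subgroup G} {n : ℕ} (hn : (orderOf x).Coprime n) (h : x ^ n ∈ S) :
    x ∈ S := by
  obtain ⟨m, hm⟩ := exists_pow_eq_self_of_coprime hn.symm
  rw [← hm]
  exact pow_mem h m

variable {T : Sylow p G} {E : Subgroup G}

theorem hres (hE : Cfsg.IsBaumannBlock p (T : Subgroup G) E) : Cfsg.pResidualOf p E = E := hE.1

/-- A block is generated by its elements of order prime to `p`. -/
theorem le_of_coprime_mem (hE : Cfsg.IsBaumannBlock p (T : Subgroup G) E) {S : Subgroup G}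
    (h : ∀ e ∈ E, (orderOf e).Coprime p → e ∈ S) : E ≤ S := by
  rw [← hres hE, Cfsg.pResidualOf, map_le_iff_le_comap, Cfsg.pResidual, closure_le]
  intro x hx
  exact h _ x.2 (by show (orderOf (x : G)).Coprime p; rw [orderOf_coe]; exact hx)

/-- A map into a commutative group of exponent a power of `p` kills a block. -/
theorem qe_commutator (hE : Cfsg.IsBaumannBlock p (T : Subgroup G) E) : ⁅QE p E, E⁆ = QE p E := hE.2.2.1

theorem baumann_le_normalizer (hE : Cfsg.IsBaumannBlock p (T : Subgroup G) E) :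
    Cfsg.baumannSubgroupOf p (T : Subgroup G) ≤ normalizer (E : Set G) := by
  intro b hb
  refine mem_normalizer_iff_map_conj_eq.2 (eq_of_le_of_card_ge ?_
    (Nat.card_congr (equivMapOfInjective E _ (MulAut.conj b).injective).toEquiv).le)
  rintro _ ⟨e, he, rfl⟩
  have h1 : ⁅b, e⁆ ∈ E := by
    rw [← commutatorElement_inv]
    exact inv_mem (hE.2.1.le (commutator_mem_commutator he hb))
  simpa [commutatorElement_def] using mul_mem h1 he

variable (hG : centralizer (Cfsg.pCore p G : Set G) ≤ Cfsg.pCore p G)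
include hG

theorem mem_OO_of_centralizes {x : G} (h : ∀ o ∈ OO p G, x * o = o * x) : x ∈ OO p G :=
  hG (mem_centralizer_iff.2 fun o ho => (h o ho).symm)

theorem oo_le_normalizer (hE : Cfsg.IsBaumannBlock p (T : Subgroup G) E) :
    OO p G ≤ normalizer (E : Set G) :=
  Cfsg.Agent.S2983.result hG T E hE (OO p G) isPGroup_OO (fun g _ => mem_normalizer_of_normal g)
    (fun g _ => mem_normalizer_of_normal g)

theorem oo_inf_le (hE : Cfsg.IsBaumannBlock p (T : Subgroup G) E) : OO p G ⊓ E ≤ QE p E :=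
  le_pCoreOf inf_le_right (fun e he => mem_normalizer_inf (mem_normalizer_of_normal e) (le_normalizer he))
    (isPGroup_OO.to_le inf_le_left)

/-- `[O_p(G), E] ≤ O_p(E)`. -/
theorem oo_commutator_le (hE : Cfsg.IsBaumannBlock p (T : Subgroup G) E) {o e : G} (ho : o ∈ OO p G)
    (he : e ∈ E) : o * e * o⁻¹ * e⁻¹ ∈ QE p E := by
  refine oo_inf_le hG hE (Subgroup.mem_inf.2 ⟨?_, mul_mem ((mem_normalizer_iff.1 (oo_le_normalizer hG hE ho) e).1 he) (inv_mem he)⟩)
  rw [show o * e * o⁻¹ * e⁻¹ = o * (e * o⁻¹ * e⁻¹) by group]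
  exact mul_mem ho ((inferInstance : (OO p G).Normal).conj_mem _ (inv_mem ho) e)

theorem residual_sup (hE : Cfsg.IsBaumannBlock p (T : Subgroup G) E) :
    Cfsg.pResidualOf p (E ⊔ OO p G) = E := (Cfsg.Agent.S2984.result hG T E hE).1

theorem we_le_vv (hE : Cfsg.IsBaumannBlock p (T : Subgroup G) E) : WE p E ≤ VV p G :=
  (Cfsg.Agent.S2984.result hG T E hE).2.1

theorem exists_jElt (hE : Cfsg.IsBaumannBlock p (T : Subgroup G) E) :
    ∃ j ∈ Cfsg.thompsonSubgroupOf p (T : Subgroup G), j ∉ centralizer (WE p E : Set G) := by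
  by_contra h
  push Not at h
  exact (Cfsg.Agent.S2984.result hG T E hE).2.2 (by
    rw [commutator_comm, commutator_eq_bot_iff_le_centralizer]; exact h)

/-- An element of `E` centralizing `W_E` lies in `O_p(E)`. -/
theorem mem_QE_of_centralizes (hE : Cfsg.IsBaumannBlock p (T : Subgroup G) E) {e : G} (he : e ∈ E)
    (h : e ∈ centralizer (WE p E : Set G)) : e ∈ QE p E := by
  obtain ⟨hirr, hfaith, hEW⟩ := BlockModule.irred_and_faithful hE
  -- `W = W_E Z`
  have hU : E ≤ normalizer ((ZZ p E ⊔ WE p E : Subgroup G) : Set G) := fun x hx =>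
    mem_normalizer_sup (mem_normalizer_ZZ (le_normalizer hx)) (mem_normalizer_WE (le_normalizer hx))
  rcases hirr _ le_sup_left (sup_le inf_le_left (we_le_ww E)) hU with h0 | h0
  · exact hfaith e he fun w hw => h0.le (mem_sup_right (by
      have := inv_mem (commutator_mem_commutator hw he)
      rwa [commutatorElement_inv, commutatorElement_def] at this))
  · refine hfaith e he fun w hw => ?_
    have hsup : ZZ p E ⊔ WE p E ≤ centralizer {e} := sup_le
      (fun z hz => mem_centralizer_singleton_iff.2 (zz_commute hz he))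
      (fun z hz => mem_centralizer_singleton_iff.2 ((mem_centralizer_iff.1 h) z hz))
    rw [← mem_centralizer_singleton_iff.1 (hsup (h0.ge hw)), mul_inv_cancel_right, mul_inv_cancel]
    exact one_mem _

theorem exists_not_mem_QE (hE : Cfsg.IsBaumannBlock p (T : Subgroup G) E) : ∃ e ∈ E, e ∉ QE p E := by
  by_contra h
  push Not at h
  refine hE.2.2.2.1 ?_
  have h1 : E ≤ ⊥ := le_of_coprime_mem hE fun e he hco => by
    obtain ⟨n, hn⟩ := isPGroup_QE E ⟨e, h e he⟩
    rw [Subgroup.mem_bot, ← orderOf_eq_one_iff]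
    exact Nat.eq_one_of_dvd_coprimes (hco.pow_right n) dvd_rfl
      (orderOf_dvd_of_pow_eq_one (by simpa using congrArg Subtype.val hn))
  rw [le_bot_iff.1 h1, commutator_bot_left]

/-- `W = W_E Z`. -/
theorem ww_eq_sup (hE : Cfsg.IsBaumannBlock p (T : Subgroup G) E) : WW p E = WE p E ⊔ ZZ p E := by
  obtain ⟨hirr, hfaith, hEW⟩ := BlockModule.irred_and_faithful hE
  have hU : E ≤ normalizer ((ZZ p E ⊔ WE p E : Subgroup G) : Set G) := fun x hx =>
    mem_normalizer_sup (mem_normalizer_ZZ (le_normalizer hx)) (mem_normalizer_WE (le_normalizer hx))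
  rcases hirr _ le_sup_left (sup_le inf_le_left (we_le_ww E)) hU with h0 | h0
  · obtain ⟨e, he, hne⟩ := exists_not_mem_QE hG hE
    refine absurd (hfaith e he fun w hw => h0.le (mem_sup_right ?_)) hne
    have := inv_mem (commutator_mem_commutator hw he)
    rwa [commutatorElement_inv, commutatorElement_def] at this
  · rw [sup_comm]; exact h0.symm

theorem we_not_le_zz (hE : Cfsg.IsBaumannBlock p (T : Subgroup G) E) : ¬ WE p E ≤ ZZ p E := by
  intro h
  obtain ⟨e, he, hne⟩ := exists_not_mem_QE hG hE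
  exact hne (mem_QE_of_centralizes hG hE he (mem_centralizer_iff.2 fun w hw => zz_commute (h hw) he))

/-- `[W_E, E] = W_E`. -/
theorem we_commutator (hE : Cfsg.IsBaumannBlock p (T : Subgroup G) E) : ⁅WE p E, E⁆ = WE p E := by
  refine le_antisymm ?_ ?_
  · rw [commutator_le]
    intro w hw e he
    rw [commutatorElement_def, show w * e * w⁻¹ * e⁻¹ = w * (e * w⁻¹ * e⁻¹) by group]
    exact mul_mem hw ((mem_normalizer_iff.1 (mem_normalizer_WE (le_normalizer he)) _).1 (inv_mem hw))
  · change ⁅WW p E, E⁆ ≤ _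
    rw [commutator_le]
    intro w hw e he
    rw [ww_eq_sup hG hE, sup_comm] at hw
    have hnorm : WE p E ≤ normalizer (ZZ p E : Set G) := fun x hx => mem_normalizer_ZZ (le_normalizer (we_le_self E hx))
    rw [← SetLike.mem_coe, coe_mul_of_right_le_normalizer_left (ZZ p E) (WE p E) hnorm] at hw
    obtain ⟨z, hz, u, hu, rfl⟩ := Set.mem_mul.1 hw
    have h1 := commutator_mem_commutator hu he
    have h2 : ⁅z * u, e⁆ = z * ⁅u, e⁆ * z⁻¹ := by
      have := zz_commute hz he
      simp only [commutatorElement_def]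
      calc z * u * e * (z * u)⁻¹ * e⁻¹ = z * u * e * u⁻¹ * (z⁻¹ * e⁻¹) := by group
        _ = z * u * e * u⁻¹ * (e⁻¹ * z⁻¹) := by rw [← mul_inv_rev, ← mul_inv_rev, this]
        _ = _ := by group
    rw [h2]
    have hc : z * ⁅u, e⁆ = ⁅u, e⁆ * z :=
      ww_commute (zz_le_ww E hz) (ww_le E (we_le_ww E (commutator_mem_commutator
        (we_le_ww E hu) he)))
    rw [hc, mul_inv_cancel_right]
    exact h1

/-- A normalizing element acts trivially on `W / Z` exactly when it centralizes `W_E`. -/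
theorem centralizes_we_of_trivial (hE : Cfsg.IsBaumannBlock p (T : Subgroup G) E) {g : G}
    (hg : g ∈ normalizer (E : Set G)) (h : ∀ w ∈ WW p E, g * w * g⁻¹ * w⁻¹ ∈ ZZ p E) :
    g ∈ centralizer (WE p E : Set G) := by
  obtain ⟨-, hfaith, hEW⟩ := BlockModule.irred_and_faithful hE
  have hgE : ∀ e ∈ E, g * e * g⁻¹ * e⁻¹ ∈ QE p E := fun e he => by
    refine hfaith _ (mul_mem ((mem_normalizer_iff.1 hg e).1 he) (inv_mem he)) fun w hw => ?_
    have hZn : ∀ x ∈ E, ∀ z ∈ ZZ p E, x * z * x⁻¹ = z := fun x hx z hz => by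
      rw [← zz_commute hz hx, mul_inv_cancel_right]
    -- conjugates
    set w₁ := g⁻¹ * (e⁻¹ * w * e) * g with hw₁def
    have hew : e⁻¹ * w * e ∈ WW p E := by
      have := (mem_normalizer_iff.1 (mem_normalizer_WW (le_normalizer (inv_mem he))) w).1 hw
      simpa using this
    have hw₁ : w₁ ∈ WW p E := by
      have := (mem_normalizer_iff.1 (mem_normalizer_WW (inv_mem hg)) _).1 hew
      simpa [hw₁def] using this
    have h1 := h w₁ hw₁
    have hw₂ : e * w₁ * e⁻¹ ∈ WW p E := (mem_normalizer_iff.1 (mem_normalizer_WW (le_normalizer he)) _).1 hw₁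
    have h2 := h _ hw₂
    set z₁ := g * w₁ * g⁻¹ * w₁⁻¹ with hz₁
    set z₂ := g * (e * w₁ * e⁻¹) * g⁻¹ * (e * w₁ * e⁻¹)⁻¹ with hz₂
    have key : g * e * g⁻¹ * e⁻¹ * w * (g * e * g⁻¹ * e⁻¹)⁻¹ = z₂ * (e * w₁ * e⁻¹) := by
      rw [hz₂, hw₁def]; group
    have hw' : w = z₁ * (e * w₁ * e⁻¹) := by
      conv_rhs => rw [← hZn e he z₁ h1]
      rw [hz₁, hw₁def]; group
    rw [key, hw', mul_inv_rev, ← mul_assoc, mul_assoc z₂, mul_inv_cancel, mul_one]
    exact mul_mem h2 (inv_mem h1)
  rw [mem_centralizer_iff]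
  intro x hx
  suffices WE p E ≤ centralizer {g} from mem_centralizer_singleton_iff.1 (this hx)
  change ⁅WW p E, E⁆ ≤ _
  rw [commutator_le]
  intro w hw e he
  rw [mem_centralizer_singleton_iff]
  have hq := hgE e he
  have hz := h w hw
  set q := g * e * g⁻¹ * e⁻¹ with hqdef
  set z := g * w * g⁻¹ * w⁻¹ with hzdef
  have h1 : g * ⁅w, e⁆ * g⁻¹ = ⁅z * w, q * e⁆ := by
    simp only [hqdef, hzdef, commutatorElement_def]; group
  have hz' : ∀ y ∈ E, z * y = y * z := fun y hy => zz_commute hz hy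
  have hwe : ⁅w, e⁆ ∈ WW p E := we_le_ww E (commutator_mem_commutator hw he)
  have h2 : ⁅z * w, q * e⁆ = ⁅w, e⁆ := by
    have a : ∀ y ∈ E, ⁅z * w, y⁆ = ⁅w, y⁆ := fun y hy => by
      have hy' : (w * y * w⁻¹) ∈ E := mul_mem (mul_mem (ww_le_self E hw) hy) (inv_mem (ww_le_self E hw))
      simp only [commutatorElement_def]
      calc z * w * y * (z * w)⁻¹ * y⁻¹ = z * (w * y * w⁻¹) * z⁻¹ * y⁻¹ := by group
        _ = _ := by rw [hz' _ hy', mul_inv_cancel_right]
    rw [a _ (mul_mem (pCoreOf_le p E hq) he)]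
    have b : w * q = q * w := ww_commute hw hq
    calc ⁅w, q * e⁆ = w * q * e * w⁻¹ * e⁻¹ * q⁻¹ := by simp only [commutatorElement_def]; group
      _ = q * ⁅w, e⁆ * q⁻¹ := by rw [b]; simp only [commutatorElement_def]; group
      _ = ⁅w, e⁆ := by rw [← ww_commute hwe hq, mul_inv_cancel_right]
  calc ⁅w, e⁆ * g = g * ⁅w, e⁆ * g⁻¹ * g := by rw [h1, h2]
    _ = g * ⁅w, e⁆ := by group

/-- An element of `N(E)` centralizing `W_E` moves `E` only inside `O_p(E)`. -/
theorem comm_mem_QE (hE : Cfsg.IsBaumannBlock p (T : Subgroup G) E) {g : G}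
    (hg : g ∈ normalizer (E : Set G)) (h : g ∈ centralizer (WE p E : Set G)) {e : G} (he : e ∈ E) :
    g * e * g⁻¹ * e⁻¹ ∈ QE p E := by
  refine mem_QE_of_centralizes hG hE (mul_mem ((mem_normalizer_iff.1 hg e).1 he) (inv_mem he))
    (mem_centralizer_iff.2 fun w hw => ?_)
  have hc : ∀ y ∈ WE p E, g * y * g⁻¹ = y := fun y hy => by
    rw [← mem_centralizer_iff.1 h y hy, mul_inv_cancel_right]
  have hc' : ∀ y ∈ WE p E, g⁻¹ * y * g = y := fun y hy => by
    rw [mul_assoc, mem_centralizer_iff.1 h y hy, inv_mul_cancel_left]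
  have hew : e⁻¹ * w * e ∈ WE p E := by
    have := (mem_normalizer_iff.1 (mem_normalizer_WE (le_normalizer (inv_mem he))) w).1 hw
    simpa using this
  symm
  calc g * e * g⁻¹ * e⁻¹ * w = g * e * (g⁻¹ * (e⁻¹ * w * e) * g) * (g⁻¹ * e⁻¹) := by group
    _ = g * (e * (e⁻¹ * w * e) * e⁻¹) * g⁻¹ * (g * e * g⁻¹ * e⁻¹) := by rw [hc' _ hew]; group
    _ = w * (g * e * g⁻¹ * e⁻¹) := by rw [show e * (e⁻¹ * w * e) * e⁻¹ = w by group, hc w hw]

/-- An element of order prime to `p` normalizing `E` and centralizing `W_E` and `O_p(E)` centralizes `E`. -/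
theorem centralizes_of_coprime (hE : Cfsg.IsBaumannBlock p (T : Subgroup G) E) {x : G}
    (hxE : x ∈ normalizer (E : Set G)) (hx : (orderOf x).Coprime p)
    (hW : x ∈ centralizer (WE p E : Set G)) (hQ : x ∈ centralizer (QE p E : Set G)) :
    x ∈ centralizer (E : Set G) := by
  rw [mem_centralizer_iff]
  intro e he
  refine (comm_eq_of_coprime hx (z := x * e * x⁻¹ * e⁻¹) (by group) ?_ (isPGroup_QE E)
    (comm_mem_QE hG hE hxE hW he)).symm
  exact (mem_centralizer_iff.1 hQ _ (comm_mem_QE hG hE hxE hW he)).symm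

end CfsgLib.LocalEven.Baumann
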