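import Cfsg.Agent.Lib.LocalEven.Baumann.Small

/-!
In an exceptional small block no element inverting `Q / W` and centralizing `W_E` lives in a
normal `2`-subgroup of `G / O_3(G)`: it would split `Q / Z` invariantly and `b` would act quadratically.
-/

set_option autoImplicit false
set_option linter.unusedSectionVars false

namespace CfsgLib.LocalEven.Baumann

open Subgroup CfsgLib.LocalEven
open scoped commutatorElement

section Abstract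

variable {H : Type*} [Group H] {Q W : Subgroup H}

/-- An element moving `Q` inside fixed `W` of exponent three: its cube fixes `Q`. -/
theorem cube_fix (hW3 : ∀ w ∈ W, w ^ 3 = 1) {g : H} (hgW : ∀ w ∈ W, g * w = w * g)
    (hg : ∀ q ∈ Q, g * q * g⁻¹ * q⁻¹ ∈ W) : ∀ q ∈ Q, g ^ 3 * q = q * g ^ 3 := by
  intro q hq
  have h := conj_pow_of_commute (c := g) (x := q) (z := g * q * g⁻¹ * q⁻¹) (by group) (hgW _ (hg q hq)) 3
  rw [hW3 _ (hg q hq), one_mul, mul_inv_eq_iff_eq_mul] at h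
  exact h

/-- `Q` is inverted-part times fixed part. -/
theorem inverting_square (hQab : ∀ x ∈ Q, ∀ y ∈ Q, x * y = y * x) {k : H}
    (hkQ : ∀ q ∈ Q, k * q * k⁻¹ ∈ Q) (hkinv : ∀ q ∈ Q, k * (k * q * k⁻¹) * k⁻¹ = q)
    (htop : ∀ q ∈ Q, k * q * k⁻¹ * q ∈ W) {q : H} (hq : q ∈ Q) :
    ∃ a ∈ Q, k * a * k⁻¹ = a⁻¹ ∧ ∃ c ∈ W, q * q = a * c := by
  refine ⟨q * (k * q * k⁻¹)⁻¹, mul_mem hq (inv_mem (hkQ q hq)), ?_, k * q * k⁻¹ * q, htop q hq, ?_⟩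
  · calc k * (q * (k * q * k⁻¹)⁻¹) * k⁻¹ = (k * q * k⁻¹) * (k * (k * q * k⁻¹) * k⁻¹)⁻¹ := by group
      _ = _ := by rw [hkinv q hq, mul_inv_rev, inv_inv]
  · calc q * q = q * ((k * q * k⁻¹)⁻¹ * (k * q * k⁻¹)) * q := by group
      _ = _ := by group

theorem inverted_inf_fixed (hW3 : ∀ w ∈ W, w ^ 3 = 1) {k x : H} (hkW : ∀ w ∈ W, k * w = w * k)
    (hx : k * x * k⁻¹ = x⁻¹) (hxW : x ∈ W) : x = 1 := by
  rw [hkW x hxW, mul_inv_cancel_right] at hx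
  have h2 : x ^ 2 = 1 := by rw [sq]; nth_rewrite 1 [hx]; rw [inv_mul_cancel]
  calc x = x ^ 3 * (x ^ 2)⁻¹ := by group
    _ = 1 := by rw [hW3 x hxW, h2]; group

theorem mem_of_pow_two_mem {x : H} {S : Subgroup H} (hn : (orderOf x).Coprime 2) (h : x ^ 2 ∈ S) :
    x ∈ S := by
  obtain ⟨m, hm⟩ := exists_pow_eq_self_of_coprime hn.symm
  rw [← hm]
  exact pow_mem h m

theorem eq_one_of_sq_of_three {θ : H} {n : ℕ} (h3 : θ ^ 3 ^ n = 1) (h2 : θ ^ 2 = 1) : θ = 1 :=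
  orderOf_eq_one_iff.1 (Nat.eq_one_of_dvd_coprimes (Nat.Coprime.pow_right n (by norm_num : Nat.Coprime 2 3))
    (orderOf_dvd_of_pow_eq_one h2) (orderOf_dvd_of_pow_eq_one h3))

/-- An element commuting with `k` modulo `Q`, trivial on `W` and on `Q / W`, is trivial on `Q`. -/
theorem fix_of_comm_inverting (hQab : ∀ x ∈ Q, ∀ y ∈ Q, x * y = y * x) (hW3 : ∀ w ∈ W, w ^ 3 = 1)
    (hQ3 : ∀ q ∈ Q, ∃ n : ℕ, q ^ 3 ^ n = 1) {k : H}
    (hkQ : ∀ q ∈ Q, k * q * k⁻¹ ∈ Q) (hkinv : ∀ q ∈ Q, k * (k * q * k⁻¹) * k⁻¹ = q)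
    (hkW : ∀ w ∈ W, k * w = w * k) (htop : ∀ q ∈ Q, k * q * k⁻¹ * q ∈ W)
    {o : H} (hoQ : ∀ q ∈ Q, o * q * o⁻¹ ∈ Q) (hoW : ∀ w ∈ W, o * w = w * o)
    (hotop : ∀ q ∈ Q, o * q * o⁻¹ * q⁻¹ ∈ W) (hcomm : k * o * k⁻¹ * o⁻¹ ∈ Q) :
    ∀ q ∈ Q, o * q = q * o := by
  intro q hq
  obtain ⟨a, ha, hak, c, hc, hsq⟩ := inverting_square hQab hkQ hkinv htop hq
  have ha1 : o * a = a * o := by
    set u := k * o * k⁻¹ * o⁻¹ with hu
    have hinv : k * (o * a * o⁻¹) * k⁻¹ = (o * a * o⁻¹)⁻¹ := by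
      have hm : o * a⁻¹ * o⁻¹ ∈ Q := hoQ _ (inv_mem ha)
      calc k * (o * a * o⁻¹) * k⁻¹ = u * (o * (k * a * k⁻¹) * o⁻¹) * u⁻¹ := by rw [hu]; group
        _ = o * a⁻¹ * o⁻¹ := by rw [hak, hQab u hcomm _ hm, mul_inv_cancel_right]
        _ = _ := by group
    have hm : o * a * o⁻¹ ∈ Q := hoQ a ha
    have h1 : k * (o * a * o⁻¹ * a⁻¹) * k⁻¹ = (o * a * o⁻¹ * a⁻¹)⁻¹ := by
      calc k * (o * a * o⁻¹ * a⁻¹) * k⁻¹ = (k * (o * a * o⁻¹) * k⁻¹) * (k * a * k⁻¹)⁻¹ := by group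
        _ = (o * a * o⁻¹)⁻¹ * a := by rw [hinv, hak, inv_inv]
        _ = a * (o * a * o⁻¹)⁻¹ := hQab _ (inv_mem hm) _ ha
        _ = _ := by group
    have := inverted_inf_fixed hW3 hkW h1 (hotop a ha)
    rw [mul_inv_eq_one, mul_inv_eq_iff_eq_mul] at this
    exact this
  have hsq' : o * (q * q) = q * q * o := by
    rw [hsq, ← mul_assoc, ha1, mul_assoc, hoW c hc, ← mul_assoc]
  obtain ⟨n, hn⟩ := hQ3 q hq
  have : q ∈ Subgroup.centralizer {o} := mem_of_pow_two_mem (Nat.Coprime.coprime_dvd_left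
    (orderOf_dvd_of_pow_eq_one hn) (Nat.Coprime.pow_left n (by norm_num : Nat.Coprime 3 2)))
    (Subgroup.mem_centralizer_singleton_iff.2 (by rw [sq]; exact hsq'.symm))
  exact (Subgroup.mem_centralizer_singleton_iff.1 this).symm

/-- The contradiction: `b` acts quadratically on all of `Q`. -/
theorem quad_of_inverting (hQab : ∀ x ∈ Q, ∀ y ∈ Q, x * y = y * x) (hW3 : ∀ w ∈ W, w ^ 3 = 1)
    (hQ3 : ∀ q ∈ Q, ∃ n : ℕ, q ^ 3 ^ n = 1) {k : H}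
    (hkQ : ∀ q ∈ Q, k * q * k⁻¹ ∈ Q) (hkinv : ∀ q ∈ Q, k * (k * q * k⁻¹) * k⁻¹ = q)
    (hkW : ∀ w ∈ W, k * w = w * k) (htop : ∀ q ∈ Q, k * q * k⁻¹ * q ∈ W)
    {b : H} (hbQ : ∀ q ∈ Q, b * q * b⁻¹ ∈ Q) (hbW : ∀ w ∈ W, b * w * b⁻¹ ∈ W)
    (hbW' : ∀ w ∈ W, b⁻¹ * w * b ∈ W)
    (hb2W : ∀ w ∈ W, b * (b * w * b⁻¹ * w⁻¹) * b⁻¹ * (b * w * b⁻¹ * w⁻¹)⁻¹ = 1)
    (hb2top : ∀ q ∈ Q, b * (b * q * b⁻¹ * q⁻¹) * b⁻¹ * (b * q * b⁻¹ * q⁻¹)⁻¹ ∈ W)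
    (hg : ∀ q ∈ Q, (b * k * b⁻¹ * k⁻¹) * q = q * (b * k * b⁻¹ * k⁻¹)) :
    ∀ q ∈ Q, b * (b * q * b⁻¹ * q⁻¹) * b⁻¹ * (b * q * b⁻¹ * q⁻¹)⁻¹ = 1 := by
  let θ : H → H := fun q => b * (b * q * b⁻¹ * q⁻¹) * b⁻¹ * (b * q * b⁻¹ * q⁻¹)⁻¹
  have hθ : ∀ x ∈ Q, ∀ y ∈ Q, θ (x * y) = θ x * θ y := by
    intro x hx y hy
    have e1 : b * (x * y) * b⁻¹ * (x * y)⁻¹ = (b * x * b⁻¹ * x⁻¹) * (b * y * b⁻¹ * y⁻¹) := by
      have hy' : b * y * b⁻¹ * y⁻¹ ∈ Q := mul_mem (hbQ y hy) (inv_mem hy)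
      calc b * (x * y) * b⁻¹ * (x * y)⁻¹ = (b * x * b⁻¹ * x⁻¹) * (x * (b * y * b⁻¹ * y⁻¹) * x⁻¹) := by group
        _ = _ := by rw [hQab x hx _ hy', mul_inv_cancel_right]
    set X := b * x * b⁻¹ * x⁻¹ with hX
    set Y := b * y * b⁻¹ * y⁻¹ with hY
    have hXQ : X ∈ Q := mul_mem (hbQ x hx) (inv_mem hx)
    have hYQ : Y ∈ Q := mul_mem (hbQ y hy) (inv_mem hy)
    show b * (b * (x * y) * b⁻¹ * (x * y)⁻¹) * b⁻¹ * (b * (x * y) * b⁻¹ * (x * y)⁻¹)⁻¹ = _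
    rw [e1]
    calc b * (X * Y) * b⁻¹ * (X * Y)⁻¹ = (b * X * b⁻¹) * ((b * Y * b⁻¹ * Y⁻¹) * X⁻¹) := by group
      _ = _ := by rw [hQab _ (mul_mem (hbQ Y hYQ) (inv_mem hYQ)) _ (inv_mem hXQ), ← mul_assoc]
  intro q hq
  show θ q = 1
  obtain ⟨a, ha, hak, c, hc, hsq⟩ := inverting_square hQab hkQ hkinv htop hq
  have hinv : ∀ x ∈ Q, k * x * k⁻¹ = x⁻¹ → k * (b * x * b⁻¹) * k⁻¹ = (b * x * b⁻¹)⁻¹ := by
    intro x hx hxk
    have hm : b * x * b⁻¹ ∈ Q := hbQ x hx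
    have hm' := hkQ _ hm
    calc k * (b * x * b⁻¹) * k⁻¹
        = (b * k * b⁻¹ * k⁻¹) * (k * (b * x * b⁻¹) * k⁻¹) * (b * k * b⁻¹ * k⁻¹)⁻¹ := by
          rw [hg _ hm', mul_inv_cancel_right]
      _ = b * (k * x * k⁻¹) * b⁻¹ := by group
      _ = _ := by rw [hxk]; group
  have hdiff : ∀ x ∈ Q, k * x * k⁻¹ = x⁻¹ →
      k * (b * x * b⁻¹ * x⁻¹) * k⁻¹ = (b * x * b⁻¹ * x⁻¹)⁻¹ := fun x hx hxk => by
    calc k * (b * x * b⁻¹ * x⁻¹) * k⁻¹ = (k * (b * x * b⁻¹) * k⁻¹) * (k * x * k⁻¹)⁻¹ := by group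
      _ = (b * x * b⁻¹)⁻¹ * x := by rw [hinv x hx hxk, hxk, inv_inv]
      _ = x * (b * x * b⁻¹)⁻¹ := hQab _ (inv_mem (hbQ x hx)) _ hx
      _ = _ := by group
  have ha0 : θ a = 1 :=
    inverted_inf_fixed hW3 hkW (hdiff _ (mul_mem (hbQ a ha) (inv_mem ha)) (hdiff a ha hak)) (hb2top a ha)
  have hcQ : c ∈ Q := by
    have : c = a⁻¹ * (q * q) := by rw [hsq]; group
    rw [this]; exact mul_mem (inv_mem ha) (mul_mem hq hq)
  have h2 : θ q ^ 2 = 1 := by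
    rw [sq, ← hθ q hq q hq, hsq, hθ a ha c hcQ, ha0, one_mul]
    exact hb2W c hc
  obtain ⟨n, hn⟩ := hQ3 (θ q) (mul_mem (hbQ _ (mul_mem (hbQ q hq) (inv_mem hq)))
    (inv_mem (mul_mem (hbQ q hq) (inv_mem hq))))
  exact eq_one_of_sq_of_three hn h2

end Abstract

variable {G : Type*} [Group G] [Finite G] {p : ℕ} [Fact p.Prime]

/-- A `p`-element is quadratic on a natural section over the prime field. -/
theorem quad_of_prime {E U U₀ : Subgroup G} {F : Type} [Field F] [Fintype F] (hq : Nat.card F = p)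
    (D : NatSec p E U U₀ F) {b : G} (hb : b ∈ D.S.nrm) {a : ℕ} (ha : b ^ p ^ a = 1) :
    ∀ u ∈ U, b * (b * u * b⁻¹ * u⁻¹) * b⁻¹ * (b * u * b⁻¹ * u⁻¹)⁻¹ ∈ U₀ := by
  intro u hu
  haveI : CharP F p := charP_of_card_eq_prime (by rw [Fintype.card_eq_nat_card, hq])
  obtain ⟨M, hM⟩ := (isLin_of_prime (by rw [hq]; exact Fact.out) (D.S.act b)).exists_matrix
  have hMp : M ^ p ^ a = 1 := by
    apply mv_injective
    have e : ∀ n : ℕ, mv (M ^ n) = D.S.act b ^ n := fun n => by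
      induction n with
      | zero => rw [pow_zero, pow_zero, mv_one]
      | succ n ih => rw [pow_succ, pow_succ, mv_mul, ih, hM]
    rw [e, ← D.S.act_pow hb, ha, D.S.act_one, mv_one]
  have hsq := (det_and_sq_of_pow hMp).2
  have hbu := D.S.conj_mem hb hu
  have hy : b * u * b⁻¹ * u⁻¹ ∈ U := mul_mem hbu (inv_mem hu)
  have hby := D.S.conj_mem hb hy
  rw [← D.S.ker _ (mul_mem hby (inv_mem hy)), D.S.map_mul _ hby _ (inv_mem hy), D.S.f_inv hy,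
    ← D.S.act_f hb hy, D.S.map_mul _ hbu _ (inv_mem hu), D.S.f_inv hu, ← D.S.act_f hb hu, hM]
  have h0 : (M - 1).mulVec ((M - 1).mulVec (D.S.f u)) = 0 := by
    rw [Matrix.mulVec_mulVec, hsq, Matrix.zero_mulVec]
  simp only [Matrix.sub_mulVec, Matrix.one_mulVec, Matrix.mulVec_sub] at h0
  simp only [mv_apply, ← sub_eq_add_neg, Matrix.mulVec_sub]
  exact h0

variable {T : Sylow p G} {E : Subgroup G}

/-- No inverting element in a normal `2`-subgroup of `G / O_p(G)`. -/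
theorem no_inverting (hG : centralizer (Cfsg.pCore p G : Set G) ≤ Cfsg.pCore p G)
    (hE : Cfsg.IsBaumannBlock p (T : Subgroup G) E) {F : Type} [Field F] [Fintype F] (hq : Nat.card F = p)
    (D₀ : NatSec p E (WW p E) (ZZ p E) F) (hexc : IsExc p (T : Subgroup G) E F)
    (D : NatSec p E (QE p E) (WW p E) F) (N : Subgroup (G ⧸ OO p G)) [N.Normal] (hN : IsPGroup 2 N)
    {k : G} (hk : k ∈ normalizer (E : Set G)) (hkW : k ∈ centralizer (WE p E : Set G))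
    (hkN : QuotientGroup.mk' (OO p G) k ∈ N) (hneg : ∀ v, D.S.act k v = -v)
    (hkO : ∀ o ∈ OO p G, k * o * k⁻¹ * o⁻¹ ∈ QE p E) : False := by
  obtain ⟨hp, -, hcomm, hcen, hquad⟩ := hexc
  obtain ⟨b, hbJ, hbW⟩ := exists_jElt hG hE
  have hbB : b ∈ Cfsg.baumannSubgroupOf p (T : Subgroup G) := by
    refine ⟨CfsgLib.PLocal.thompsonSubgroupOf_le p _ hbJ, ?_⟩
    exact mem_centralizer_iff.2 fun z hz =>
      (mem_centralizer_iff.1 (CfsgLib.PLocal.omegaOne_le p _ hz).2 b hbJ).symm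
  have hbE := baumann_le_normalizer hE hbB
  have hbW' : b ∉ centralizer (WW p E : Set G) := fun h => hbW (centralizer_le (we_le_ww E) h)
  refine hquad b hbB hbW' ?_
  rw [hcen]
  have hQZn : QE p E ≤ normalizer (ZZ p E : Set G) := fun q hq' => mem_normalizer_ZZ (le_normalizer (pCoreOf_le p E hq'))
  have hab : ∀ x ∈ QE p E, ∀ y ∈ QE p E, x * y * x⁻¹ * y⁻¹ ∈ ZZ p E := fun x hx y hy =>
    hcomm.le (by rw [← commutatorElement_def]; exact commutator_mem_commutator hx hy)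
  refine commutator_commutator_le_of_quad (mem_normalizer_pCoreOf hbE) (mem_normalizer_ZZ hbE) hQZn hab ?_
  -- compute in `N(Z) / Z`
  let Nz := normalizer (ZZ p E : Set G)
  haveI : ((ZZ p E).subgroupOf Nz).Normal := normal_in_normalizer
  let π : ↥Nz →* ↥Nz ⧸ (ZZ p E).subgroupOf Nz := QuotientGroup.mk' _
  have hπ : ∀ x : ↥Nz, π x = 1 ↔ (x : G) ∈ ZZ p E := fun x => by
    rw [QuotientGroup.mk'_apply, QuotientGroup.eq_one_iff, mem_subgroupOf]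
  have hπc : ∀ x y : ↥Nz, π x * π y = π y * π x ↔ (x : G) * y * (x : G)⁻¹ * (y : G)⁻¹ ∈ ZZ p E := fun x y => by
    rw [show ((x : G) * y * (x : G)⁻¹ * (y : G)⁻¹) = ((x * y * x⁻¹ * y⁻¹ : ↥Nz) : G) from rfl, ← hπ,
      map_mul, map_mul, map_mul, map_inv, map_inv, mul_inv_eq_one, mul_inv_eq_iff_eq_mul]
  let Qb := ((QE p E).subgroupOf Nz).map π
  let Wb := ((WW p E).subgroupOf Nz).map π
  have hQab : ∀ x ∈ Qb, ∀ y ∈ Qb, x * y = y * x := by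
    rintro _ ⟨x, hx, rfl⟩ _ ⟨y, hy, rfl⟩
    exact (hπc x y).2 (hab _ hx _ hy)
  have hW3 : ∀ w ∈ Wb, w ^ 3 = 1 := by
    rintro _ ⟨w, hw, rfl⟩
    have hw' : (w : G) ∈ WW p E := hw
    rw [← map_pow, hπ, coe_pow, show ((w : G)) ^ 3 = 1 by have := exponent_ww E _ hw'; rwa [hp] at this]
    exact one_mem _
  have hQ3 : ∀ q ∈ Qb, ∃ n : ℕ, q ^ 3 ^ n = 1 := by
    rintro _ ⟨q, hq', rfl⟩
    obtain ⟨n, hn⟩ := isPGroup_QE E ⟨(q : G), hq'⟩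
    refine ⟨n, ?_⟩
    rw [← map_pow, hπ, coe_pow, ← hp, show ((q : G)) ^ p ^ n = 1 by simpa using congrArg Subtype.val hn]
    exact one_mem _
  have hnz : ∀ {g : G}, g ∈ normalizer (E : Set G) → g ∈ Nz := fun hg => mem_normalizer_ZZ hg
  have hconj : ∀ {g : G} (hg : g ∈ normalizer (E : Set G)),
      (∀ q ∈ Qb, π ⟨g, hnz hg⟩ * q * (π ⟨g, hnz hg⟩)⁻¹ ∈ Qb) ∧
      (∀ q ∈ Wb, π ⟨g, hnz hg⟩ * q * (π ⟨g, hnz hg⟩)⁻¹ ∈ Wb) := fun {g} hg => by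
    constructor
    · rintro _ ⟨q, hq', rfl⟩
      refine ⟨⟨g, hnz hg⟩ * q * ⟨g, hnz hg⟩⁻¹, ?_, by simp only [map_mul, map_inv]⟩
      exact (mem_normalizer_iff.1 (mem_normalizer_pCoreOf hg) _).1 hq'
    · rintro _ ⟨q, hq', rfl⟩
      refine ⟨⟨g, hnz hg⟩ * q * ⟨g, hnz hg⟩⁻¹, ?_, by simp only [map_mul, map_inv]⟩
      exact (mem_normalizer_iff.1 (mem_normalizer_WW hg) _).1 hq'
  -- centralizing `W_E` gives commuting with `W` modulo `Z`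
  have hfixW : ∀ {g : G} (hg : g ∈ normalizer (E : Set G)), g ∈ centralizer (WE p E : Set G) →
      ∀ w ∈ Wb, π ⟨g, hnz hg⟩ * w = w * π ⟨g, hnz hg⟩ := fun {g} hg hgW => by
    rintro _ ⟨w, hw, rfl⟩
    rw [hπc]
    have hw' : (w : G) ∈ WW p E := hw
    have hn : WE p E ≤ normalizer (ZZ p E : Set G) := fun x hx => mem_normalizer_ZZ (le_normalizer (we_le_self E hx))
    rw [ww_eq_sup hG hE, sup_comm, ← SetLike.mem_coe, coe_mul_of_right_le_normalizer_left (ZZ p E) (WE p E) hn] at hw'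
    obtain ⟨z, hz, u, hu, hzu⟩ := Set.mem_mul.1 hw'
    rw [← hzu]
    have hgu : g * u * g⁻¹ = u := by rw [← mem_centralizer_iff.1 hgW u hu, mul_inv_cancel_right]
    show g * (z * u) * g⁻¹ * (z * u)⁻¹ ∈ ZZ p E
    rw [show g * (z * u) * g⁻¹ * (z * u)⁻¹ = (g * z * g⁻¹) * (g * u * g⁻¹ * u⁻¹) * z⁻¹ by group, hgu,
      mul_inv_cancel, mul_one]
    exact mul_mem ((mem_normalizer_iff.1 (mem_normalizer_ZZ hg) z).1 hz) (inv_mem hz)
  have htopr : ∀ {g : G} (hg : g ∈ normalizer (E : Set G)) (s : ℤ),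
      (∀ v, D.S.act g v = s • v) → ∀ q ∈ Qb, π ⟨g, hnz hg⟩ * q * (π ⟨g, hnz hg⟩)⁻¹ * q ^ (-s) ∈ Wb := by
    intro g hg s hgs
    rintro _ ⟨q, hq', rfl⟩
    refine ⟨⟨g, hnz hg⟩ * q * ⟨g, hnz hg⟩⁻¹ * q ^ (-s), ?_, by simp only [map_mul, map_inv, map_zpow]⟩
    show g * (q : G) * g⁻¹ * (q : G) ^ (-s) ∈ WW p E
    have hgn := mem_top_nrm D hg
    have hqQ : (q : G) ∈ QE p E := hq'
    have hqz : (q : G) ^ (-s) ∈ QE p E := zpow_mem hqQ _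
    have hfz : D.S.f ((q : G) ^ (-s)) = (-s) • D.S.f (q : G) := by
      rcases -s with n | n
      · rw [Int.ofNat_eq_natCast, zpow_natCast, natCast_zsmul, D.S.f_pow hqQ]
      · rw [zpow_negSucc, negSucc_zsmul, D.S.f_inv (pow_mem hqQ _), D.S.f_pow hqQ]
    rw [← D.S.ker _ (mul_mem (D.S.conj_mem hgn hqQ) hqz), D.S.map_mul _ (D.S.conj_mem hgn hqQ) _ hqz,
      ← D.S.act_f hgn hqQ, hgs, hfz, neg_smul, add_neg_cancel]
  -- replace `k` by its cube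
  set k' := k ^ 3 with hk'
  have hk'E : k' ∈ normalizer (E : Set G) := pow_mem hk _
  have hk'W : k' ∈ centralizer (WE p E : Set G) := pow_mem hkW _
  have hneg1 : ∀ v, D.S.act k v = (-1 : ℤ) • v := fun v => by rw [neg_one_zsmul]; exact hneg v
  have hk2E : k ^ 2 ∈ normalizer (E : Set G) := pow_mem hk _
  have hpos2 : ∀ v, D.S.act (k ^ 2) v = (1 : ℤ) • v := fun v => by
    rw [sq, D.S.act_mul (mem_top_nrm D hk) (mem_top_nrm D hk), one_zsmul]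
    show D.S.act k (D.S.act k v) = v
    rw [hneg, hneg, neg_neg]
  have hk6 := cube_fix hW3 (hfixW hk2E (pow_mem hkW _)) (fun q hq' => by
    simpa using htopr hk2E 1 hpos2 q hq')
  have hk'neg : ∀ v, D.S.act k' v = (-1 : ℤ) • v := fun v => by
    rw [hk', pow_succ, D.S.act_mul (mem_top_nrm D hk2E) (mem_top_nrm D hk)]
    show D.S.act (k ^ 2) (D.S.act k v) = _
    rw [hneg1, map_zsmul, hpos2, one_zsmul]
  set κ := π ⟨k', hnz hk'E⟩ with hκ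
  have hkinv : ∀ q ∈ Qb, κ * (κ * q * κ⁻¹) * κ⁻¹ = q := by
    intro q hq'
    have h6 : π ⟨k ^ 2, hnz hk2E⟩ ^ 3 = κ * κ := by
      rw [hκ, ← map_pow, ← map_mul]
      congr 1
      apply Subtype.ext
      show (k ^ 2) ^ 3 = k ^ 3 * k ^ 3
      rw [← pow_mul, ← pow_add]
    have := hk6 q hq'
    rw [h6] at this
    calc κ * (κ * q * κ⁻¹) * κ⁻¹ = κ * κ * q * (κ * κ)⁻¹ := by group
      _ = q := by rw [this, mul_inv_cancel_right]
  have htop : ∀ q ∈ Qb, κ * q * κ⁻¹ * q ∈ Wb := fun q hq' => by simpa using htopr hk'E (-1) hk'neg q hq'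
  -- `O_p(G)` is trivial on `Q / Z`
  have hooE := oo_le_normalizer hG hE
  have hOfix : ∀ o (ho : o ∈ OO p G), ∀ q ∈ Qb, π ⟨o, hnz (hooE ho)⟩ * q = q * π ⟨o, hnz (hooE ho)⟩ := by
    intro o ho
    have hoW : o ∈ centralizer (WE p E : Set G) := mem_centralizer_iff.2 fun w hw => vv_commute (we_le_vv hG hE hw) ho
    obtain ⟨c, hc⟩ := exists_scalar_top hG hE (by rw [hq, hp]) D (hooE ho) hoW
    obtain ⟨a, ha⟩ := isPGroup_OO (p := p) (G := G) ⟨o, ho⟩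
    have hc1 : c = 1 := by
      have hit : ∀ n : ℕ, ∀ v, (D.S.act o ^ n) v = c ^ n • v := fun n => by
        induction n with
        | zero => intro v; rw [pow_zero, pow_zero, one_smul]; rfl
        | succ n ih =>
          intro v
          rw [pow_succ, pow_succ, mul_smul]
          show (D.S.act o ^ n) (D.S.act o v) = _
          rw [hc, ih, smul_smul]
      have h1 := hit (p ^ a) ![1, 0]
      rw [← D.S.act_pow (mem_top_nrm D (hooE ho)), show o ^ p ^ a = 1 by simpa using congrArg Subtype.val ha,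
        D.S.act_one] at h1
      have h2 : c ^ p ^ a = 1 := by
        have := congrFun h1 0
        simpa using this.symm
      haveI : CharP F p := charP_of_card_eq_prime (by rw [Fintype.card_eq_nat_card, hq])
      have h3 : (c - 1) ^ p ^ a = 0 := by rw [sub_pow_char_pow, h2, one_pow, sub_self]
      exact sub_eq_zero.1 (eq_zero_of_pow_eq_zero h3)
    refine fix_of_comm_inverting hQab hW3 hQ3 (hconj hk'E).1 hkinv (hfixW hk'E hk'W) htop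
      (hconj (hooE ho)).1 (hfixW (hooE ho) hoW) (fun q hq' => ?_) ?_
    · simpa using htopr (hooE ho) 1 (fun v => by rw [hc, hc1, one_smul, one_zsmul]) q hq'
    · refine ⟨⟨k' * o * k'⁻¹ * o⁻¹, hnz (mul_mem (mul_mem (mul_mem hk'E (hooE ho)) (inv_mem hk'E))
        (inv_mem (hooE ho)))⟩, ?_, ?_⟩
      · show k' * o * k'⁻¹ * o⁻¹ ∈ QE p E
        have hkQn : ∀ x ∈ QE p E, k * x * k⁻¹ ∈ QE p E := fun x hx =>
          (mem_normalizer_iff.1 (mem_normalizer_pCoreOf hk) x).1 hx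
        have e : k' * o * k'⁻¹ * o⁻¹ = (k * (k * (k * o * k⁻¹ * o⁻¹) * k⁻¹) * k⁻¹) *
            (k * (k * o * k⁻¹ * o⁻¹) * k⁻¹) * (k * o * k⁻¹ * o⁻¹) := by
          rw [hk', show k ^ 3 = k * k * k by rw [pow_succ, pow_two]]; group
        rw [e]
        exact mul_mem (mul_mem (hkQn _ (hkQn _ (hkO o ho))) (hkQn _ (hkO o ho))) (hkO o ho)
      · simp only [← map_inv, ← map_mul]; rfl
  -- `b k b⁻¹ k⁻¹` is trivial on `Q / Z`
  have hg0 : b * k' * b⁻¹ * k'⁻¹ ∈ normalizer (E : Set G) :=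
    mul_mem (mul_mem (mul_mem hbE hk'E) (inv_mem hbE)) (inv_mem hk'E)
  have hg0W : b * k' * b⁻¹ * k'⁻¹ ∈ centralizer (WE p E : Set G) := by
    refine mul_mem ?_ (inv_mem hk'W)
    exact normalizer_le_normalizer_centralizer _ (mem_normalizer_WE hbE) |> fun h =>
      (mem_normalizer_iff.1 h k').1 hk'W
  have hbpow : ∃ a, b ^ p ^ a = 1 := by
    obtain ⟨a, ha⟩ := T.2 ⟨b, hbB.1⟩
    exact ⟨a, by simpa using congrArg Subtype.val ha⟩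
  have hgtop : ∀ v, D.S.act (b * k' * b⁻¹ * k'⁻¹) v = (1 : ℤ) • v := fun v => by
    have hbn := mem_top_nrm D hbE
    have hkn := mem_top_nrm D hk'E
    rw [D.S.act_mul (mul_mem (mul_mem hbn hkn) (inv_mem hbn)) (inv_mem hkn), D.S.act_mul (mul_mem hbn hkn) (inv_mem hbn),
      D.S.act_mul hbn hkn, one_zsmul]
    show D.S.act b (D.S.act k' (D.S.act b⁻¹ (D.S.act k'⁻¹ v))) = v
    rw [hk'neg, neg_one_zsmul, map_neg]
    have h1 : D.S.act b (D.S.act b⁻¹ (D.S.act k'⁻¹ v)) = D.S.act k'⁻¹ v :=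
      DFunLike.congr_fun (D.S.act_mul_inv hbn) _
    rw [h1]
    have h2 : D.S.act k' (D.S.act k'⁻¹ v) = v := DFunLike.congr_fun (D.S.act_mul_inv hkn) v
    rw [hk'neg, neg_one_zsmul] at h2
    exact h2
  have hgfix : ∀ q ∈ Qb, π ⟨_, hnz hg0⟩ * q = q * π ⟨_, hnz hg0⟩ := by
    obtain ⟨s, hs⟩ := hN ⟨QuotientGroup.mk' (OO p G) (b * k' * b⁻¹ * k'⁻¹), by
      rw [map_mul, map_mul, map_mul, map_inv, map_inv]
      have hk'N : QuotientGroup.mk' (OO p G) k' ∈ N := by rw [hk', map_pow]; exact pow_mem hkN _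
      exact mul_mem (‹N.Normal›.conj_mem _ hk'N _) (inv_mem hk'N)⟩
    have hs' : (b * k' * b⁻¹ * k'⁻¹) ^ 2 ^ s ∈ OO p G := by
      rw [← QuotientGroup.eq_one_iff, ← QuotientGroup.mk'_apply, map_pow]
      simpa using congrArg Subtype.val hs
    intro q hq'
    have h3 := cube_fix hW3 (hfixW hg0 hg0W) (fun x hx => by simpa using htopr hg0 1 hgtop x hx) q hq'
    have h2 := hOfix _ hs' q hq'
    rw [show (⟨(b * k' * b⁻¹ * k'⁻¹) ^ 2 ^ s, hnz (hooE hs')⟩ : ↥Nz) = ⟨_, hnz hg0⟩ ^ 2 ^ s from rfl,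
      map_pow] at h2
    have hmem3 : (π ⟨_, hnz hg0⟩) ^ 3 ∈ Subgroup.centralizer {q} := Subgroup.mem_centralizer_singleton_iff.2 h3
    have hmem2 : (π ⟨_, hnz hg0⟩) ^ 2 ^ s ∈ Subgroup.centralizer {q} := Subgroup.mem_centralizer_singleton_iff.2 h2
    refine Subgroup.mem_centralizer_singleton_iff.1 ?_
    obtain ⟨u, v, huv⟩ : ∃ u v : ℤ, ((2 ^ s : ℕ) : ℤ) * u + ((3 : ℕ) : ℤ) * v = 1 :=
      ⟨_, _, by rw [← Nat.gcd_eq_gcd_ab, (Nat.Coprime.pow_left s (by norm_num : Nat.Coprime 2 3)).gcd_eq_one]; rfl⟩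
    rw [← zpow_one (π ⟨_, hnz hg0⟩), ← huv, zpow_add, zpow_mul, zpow_mul, zpow_natCast, zpow_natCast]
    exact mul_mem (zpow_mem hmem2 _) (zpow_mem hmem3 _)
  obtain ⟨a, hba⟩ := hbpow
  have key := quad_of_inverting hQab hW3 hQ3 (hconj hk'E).1 hkinv (hfixW hk'E hk'W) htop
    (hconj hbE).1 (hconj hbE).2 (fun w hw => by
      have h := (hconj (inv_mem hbE)).2 w hw
      rw [show (⟨b⁻¹, hnz (inv_mem hbE)⟩ : ↥Nz) = (⟨b, hnz hbE⟩ : ↥Nz)⁻¹ from rfl, map_inv, inv_inv] at h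
      exact h) (?_) (?_) (fun q hq' => by
      have := hgfix q hq'
      rw [show (⟨b * k' * b⁻¹ * k'⁻¹, hnz hg0⟩ : ↥Nz) = ⟨b, hnz hbE⟩ * ⟨k', hnz hk'E⟩ * ⟨b, hnz hbE⟩⁻¹ *
        ⟨k', hnz hk'E⟩⁻¹ from rfl, map_mul, map_mul, map_mul, map_inv, map_inv] at this
      exact this)
  · intro q hq'
    have := key _ (mem_map_of_mem π (x := ⟨q, hQZn hq'⟩) hq')
    rw [← map_inv, ← map_inv, ← map_mul, ← map_mul, ← map_mul, ← map_mul, ← map_mul, ← map_inv, ← map_mul,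
      hπ] at this
    exact this
  · rintro _ ⟨w, hw, rfl⟩
    rw [← map_inv, ← map_inv, ← map_mul, ← map_mul, ← map_mul, ← map_mul, ← map_mul, ← map_inv, ← map_mul, hπ]
    exact quad_of_prime hq D₀ (mem_bot_nrm D₀ hbE) hba _ hw
  · rintro _ ⟨w, hw, rfl⟩
    refine ⟨⟨b, hnz hbE⟩ * (⟨b, hnz hbE⟩ * w * ⟨b, hnz hbE⟩⁻¹ * w⁻¹) * ⟨b, hnz hbE⟩⁻¹ *
      (⟨b, hnz hbE⟩ * w * ⟨b, hnz hbE⟩⁻¹ * w⁻¹)⁻¹, ?_, by simp only [map_mul, map_inv]⟩
    exact quad_of_prime hq D (mem_top_nrm D hbE) hba _ hw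

end CfsgLib.LocalEven.Baumann
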