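import Cfsg.Agent.Lib.LocalEven.Baumann.Commute
import Cfsg.Agent.Lib.LocalEven.Baumann.Inverting

/-!
Two small subnormal blocks normalizing each other, one acting nontrivially on the other's `W_E`: they are equal.
-/

set_option autoImplicit false
set_option linter.unusedSectionVars false

namespace CfsgLib.LocalEven.Baumann

open Subgroup CfsgLib.LocalEven
open scoped commutatorElement

variable {G : Type*} [Group G] [Finite G] {p : ℕ} [Fact p.Prime]
variable {T : Sylow p G} {E : Subgroup G} {T' : Sylow p G} {K : Subgroup G}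
variable (hG : centralizer (Cfsg.pCore p G : Set G) ≤ Cfsg.pCore p G)
  (hE : Cfsg.IsBaumannBlock p (T : Subgroup G) E) (hK : Cfsg.IsBaumannBlock p (T' : Subgroup G) K)
include hG hE

/-- An element trivial on `W_E` and on `Q / W` of an exceptional block centralizes `W`. -/
theorem mem_centralizer_ww_of_top (hcomm : ⁅QE p E, QE p E⁆ = ZZ p E) {x : G}
    (hW : x ∈ centralizer (WE p E : Set G)) (htop : ∀ q ∈ QE p E, x * q * x⁻¹ * q⁻¹ ∈ WW p E) :
    x ∈ centralizer (WW p E : Set G) := by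
  have hZ : ZZ p E ≤ centralizer {x} := by
    rw [← hcomm, commutator_le]
    intro a ha b hb
    rw [mem_centralizer_singleton_iff]
    set u := x * a * x⁻¹ * a⁻¹ with hu
    set v := x * b * x⁻¹ * b⁻¹ with hv
    have huW := htop a ha
    have hvW := htop b hb
    have h1 : x * ⁅a, b⁆ * x⁻¹ = ⁅u * a, v * b⁆ := by
      simp only [hu, hv, commutatorElement_def]; group
    have c1 : ∀ y ∈ QE p E, ⁅u * a, y⁆ = ⁅a, y⁆ := fun y hy => by
      have hy' : a * y * a⁻¹ ∈ QE p E := mul_mem (mul_mem ha hy) (inv_mem ha)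
      simp only [commutatorElement_def]
      calc u * a * y * (u * a)⁻¹ * y⁻¹ = u * (a * y * a⁻¹) * u⁻¹ * y⁻¹ := by group
        _ = _ := by rw [ww_commute huW hy', mul_inv_cancel_right]
    have c2 : ⁅a, v * b⁆ = ⁅a, b⁆ := by
      have e1 : a * v = v * a := (ww_commute hvW ha).symm
      have e2 : ⁅a, b⁆ ∈ QE p E := commutatorElement_def a b ▸
        mul_mem (mul_mem (mul_mem ha hb) (inv_mem ha)) (inv_mem hb)
      calc ⁅a, v * b⁆ = a * v * b * a⁻¹ * b⁻¹ * v⁻¹ := by simp only [commutatorElement_def]; group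
        _ = v * ⁅a, b⁆ * v⁻¹ := by rw [e1]; simp only [commutatorElement_def]; group
        _ = ⁅a, b⁆ := by rw [ww_commute hvW e2, mul_inv_cancel_right]
    calc ⁅a, b⁆ * x = ⁅u * a, v * b⁆ * x := by rw [c1 _ (mul_mem (ww_le E hvW) hb), c2]
      _ = x * ⁅a, b⁆ := by rw [← h1]; group
  have hWW : WW p E ≤ centralizer {x} := by
    rw [ww_eq_sup hG hE]
    exact sup_le (fun w hw => mem_centralizer_singleton_iff.2 ((mem_centralizer_iff.1 hW) w hw)) hZ
  exact mem_centralizer_iff.2 fun w hw => (mem_centralizer_singleton_iff.1 (hWW hw))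

/-- In a nonexceptional block `O_p(E) = W_E`. -/
theorem qe_eq_we (hQ : QE p E = WW p E) : QE p E = WE p E := by
  have h1 := qe_commutator hE
  rw [hQ] at h1 ⊢
  exact h1.symm

/-- The image of a small subnormal block in `G / O_p(G)` is in the `r`-core, `r` the other prime. -/
theorem small_map_le_pCore (hEs : E.IsSubnormal) (hES : IsSmall p (T : Subgroup G) E) :
    E.map (QuotientGroup.mk' (OO p G)) ≤ Cfsg.pCore (if p = 2 then 3 else 2) (G ⧸ OO p G) := by
  obtain ⟨r, k, hr, -, -, hrdef, -, hcard⟩ := small_prime hG hE hEs hES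
  haveI : Fact r.Prime := ⟨hr⟩
  rw [← hrdef]
  refine CfsgLib.Base.le_pCore_of_isSubnormal (hEs.map (QuotientGroup.mk'_surjective _)) ?_
  refine IsPGroup.of_card (n := k) ?_
  let f : ↥E →* G ⧸ OO p G := (QuotientGroup.mk' (OO p G)).comp E.subtype
  have hf : f.range = E.map (QuotientGroup.mk' (OO p G)) := by rw [MonoidHom.range_comp, range_subtype]
  have hker : f.ker = (QE p E).subgroupOf E := Subgroup.ext fun e => mk_eq_one_iff hG hE hEs e.2
  have := f.ker.card_mul_index
  rw [index_ker, hf, hker, Nat.card_congr (subgroupOfEquivOfLe (pCoreOf_le p E)).toEquiv, ← hcard,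
    mul_comm (r ^ k)] at this
  exact Nat.eq_of_mul_eq_mul_left Nat.card_pos this

include hK

/-- If `K` moves `W_E`, the two commutator modules agree. -/
theorem we_eq_of_moves (hEs : E.IsSubnormal) (hES : IsSmall p (T : Subgroup G) E) (hKs : K.IsSubnormal)
    (hKS : IsSmall p (T' : Subgroup G) K) (hKN : K ≤ normalizer (E : Set G))
    (hmove : ¬ K ≤ centralizer (WE p E : Set G)) : WE p K = WE p E := by
  set X := WE p E ⊓ WE p K with hX
  have hXne : X ≠ ⊥ := by
    intro h0
    refine hmove fun k hk => mem_centralizer_iff.2 fun w hw => ?_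
    have h1 : w * k * w⁻¹ * k⁻¹ ∈ X := Subgroup.mem_inf.2 ⟨by
      rw [show w * k * w⁻¹ * k⁻¹ = w * (k * w⁻¹ * k⁻¹) by group]
      exact mul_mem hw ((mem_normalizer_iff.1 (mem_normalizer_WE (hKN hk)) _).1 (inv_mem hw)),
      vv_commutator_mem hG hK (we_le_vv hG hE hw) hk⟩
    rw [h0, Subgroup.mem_bot, mul_inv_eq_one, mul_inv_eq_iff_eq_mul] at h1
    exact h1
  obtain ⟨F, _, _, -, -, ⟨D⟩, -⟩ := id hKS
  have hXW : X ≤ WW p K := inf_le_right.trans (we_le_ww K)
  have hXn : K ≤ normalizer (X : Set G) := fun k hk =>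
    mem_normalizer_inf (mem_normalizer_WE (hKN hk)) (mem_normalizer_WE (le_normalizer hk))
  have hle : WE p K ≤ X := by
    rcases D.irred X hXW hXn with h | h
    · refine absurd (eq_bot_iff.2 fun x hx => ?_) hXne
      rw [← (small_decomp hG hK hKs hKS).1]
      exact Subgroup.mem_inf.2 ⟨hx.2, (h hx).2⟩
    · intro u hu
      have hn : X ≤ normalizer (ZZ p K : Set G) := fun x hx =>
        mem_normalizer_ZZ (le_normalizer (we_le_self K hx.2))
      have hu' := h (we_le_ww K hu)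
      rw [← SetLike.mem_coe, coe_mul_of_left_le_normalizer_right X (ZZ p K) hn] at hu'
      obtain ⟨x, hx, z, hz, rfl⟩ := Set.mem_mul.1 hu'
      have : z ∈ (⊥ : Subgroup G) := by
        rw [← (small_decomp hG hK hKs hKS).1]
        exact Subgroup.mem_inf.2 ⟨((WE p K).mul_mem_cancel_left hx.2).1 hu, hz.2⟩
      rw [Subgroup.mem_bot.1 this, mul_one]
      exact hx
  exact eq_of_le_of_card_ge (hle.trans inf_le_left)
    (by rw [small_card_we hG hE hEs hES, small_card_we hG hK hKs hKS])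

/-- `K` lies in `E` times the centralizer of `W_E`. -/
theorem exists_mul_centralizer (hEs : E.IsSubnormal) (hES : IsSmall p (T : Subgroup G) E) (hKs : K.IsSubnormal)
    (hKS : IsSmall p (T' : Subgroup G) K) (hKN : K ≤ normalizer (E : Set G)) (hW : WE p K = WE p E) :
    ∀ x ∈ K, ∃ e ∈ E, e⁻¹ * x ∈ centralizer (WE p E : Set G) := by
  -- the set is a subgroup
  have hnC : ∀ e ∈ E, ∀ c, c ∈ centralizer (WE p E : Set G) → e⁻¹ * c * e ∈ centralizer (WE p E : Set G) :=
    fun e he c hc => by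
      have := (mem_normalizer_iff.1 (normalizer_le_normalizer_centralizer _
        (mem_normalizer_WE (p := p) (le_normalizer (inv_mem he)))) c).1 hc
      simpa using this
  let S : Subgroup G :=
    { carrier := {x | x ∈ normalizer (E : Set G) ∧ ∃ e ∈ E, e⁻¹ * x ∈ centralizer (WE p E : Set G)}
      one_mem' := ⟨one_mem _, 1, one_mem _, by simp⟩
      mul_mem' := fun {a b} ha hb => by
        obtain ⟨hbn, e', he', hb'⟩ := hb
        obtain ⟨han, e, he, ha'⟩ := ha
        refine ⟨mul_mem han hbn, e * e', mul_mem he he', ?_⟩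
        rw [show (e * e')⁻¹ * (a * b) = (e'⁻¹ * (e⁻¹ * a) * e') * (e'⁻¹ * b) by group]
        exact mul_mem (hnC e' he' _ ha') hb'
      inv_mem' := fun {a} ha => by
        obtain ⟨han, e, he, ha'⟩ := ha
        refine ⟨inv_mem han, e⁻¹, inv_mem he, ?_⟩
        rw [show e⁻¹⁻¹ * a⁻¹ = e⁻¹⁻¹ * (e⁻¹ * a)⁻¹ * e⁻¹ by group]
        exact hnC _ (inv_mem he) _ (inv_mem ha') }
  suffices hKS' : K ≤ S from fun x hx => (hKS' hx).2
  refine le_of_coprime_mem hK fun x hx hco => ⟨hKN hx, ?_⟩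
  obtain ⟨F, _, _, hq, hR, ⟨D⟩, -⟩ := id hES
  obtain ⟨F', _, _, hq', -, ⟨D'⟩, -⟩ := id hKS
  haveI : CharP F' p := charP_of_card_eq_prime (by rw [Fintype.card_eq_nat_card, hq'])
  haveI : CharP F p := charP_of_card_eq_prime (by rw [Fintype.card_eq_nat_card, hq])
  set M' := (D'.rho ⟨x, hx⟩).1 with hM'
  -- the trace as an exponent
  obtain ⟨t, ht⟩ : ∃ t : ℕ, (t : F') = M'.trace := by
    obtain ⟨a, ha⟩ : ∃ a : ZMod p, ZMod.castHom (dvd_refl p) F' a = M'.trace := by
      refine ((Fintype.bijective_iff_injective_and_card _).2 ⟨(ZMod.castHom (dvd_refl p) F').injective, ?_⟩).2 _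
      rw [ZMod.card, Fintype.card_eq_nat_card, hq']
    exact ⟨a.val, by rw [← ha, ZMod.castHom_apply, ZMod.cast_eq_val]⟩
  have hCH : M' * M' + 1 = M'.trace • M' := by
    have hd : M'.det = 1 := (D'.rho ⟨x, hx⟩).2
    rw [Matrix.det_fin_two] at hd
    ext i j
    fin_cases i <;> fin_cases j <;>
      simp [Matrix.mul_apply, Fin.sum_univ_two, Matrix.trace_fin_two, Matrix.one_apply] <;>
      first | ring1 | linear_combination -hd | linear_combination hd
  have hxnK : x ∈ D'.S.nrm := D'.norm hx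
  have hid : ∀ w ∈ WE p E, x * (x * w * x⁻¹) * x⁻¹ * w = (x * w * x⁻¹) ^ t := by
    intro w hw
    rw [← hW] at hw
    have hwW := we_le_ww K hw
    have h1 : x * w * x⁻¹ ∈ WE p K := (mem_normalizer_iff.1 (mem_normalizer_WE (le_normalizer hx)) w).1 hw
    have h2 : x * (x * w * x⁻¹) * x⁻¹ ∈ WE p K :=
      (mem_normalizer_iff.1 (mem_normalizer_WE (le_normalizer hx)) _).1 h1
    have h1W := we_le_ww K h1
    have hmem : x * (x * w * x⁻¹) * x⁻¹ * w * ((x * w * x⁻¹) ^ t)⁻¹ ∈ (⊥ : Subgroup G) := by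
      rw [← (small_decomp hG hK hKs hKS).1]
      refine Subgroup.mem_inf.2 ⟨mul_mem (mul_mem h2 hw) (inv_mem (pow_mem h1 t)), ?_⟩
      refine (show _ ∈ ZZ p K from ?_).2
      rw [← D'.S.ker _ (mul_mem (mul_mem (we_le_ww K h2) hwW) (inv_mem (pow_mem h1W t))),
        D'.S.map_mul _ (mul_mem (we_le_ww K h2) hwW) _ (inv_mem (pow_mem h1W t)),
        D'.S.map_mul _ (we_le_ww K h2) _ hwW, D'.S.f_inv (pow_mem h1W t), D'.S.f_pow h1W,
        ← D'.S.act_f hxnK h1W, ← D'.S.act_f hxnK hwW, D'.act_rho ⟨x, hx⟩, mv_apply, mv_apply, ← hM',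
        Matrix.mulVec_mulVec, ← sub_eq_add_neg, sub_eq_zero, ← Nat.cast_smul_eq_nsmul F', ht,
        ← Matrix.smul_mulVec, ← hCH, Matrix.add_mulVec, Matrix.one_mulVec]
    exact mul_inv_eq_one.1 (Subgroup.mem_bot.1 hmem)
  -- in the coordinates of `E`
  have hxn := mem_bot_nrm D (hKN hx)
  obtain ⟨M, hM⟩ := (isLin_of_prime (by rw [hq]; exact Fact.out) (D.S.act x)).exists_matrix
  have hsurj : ∀ v, ∃ w ∈ WE p E, D.S.f w = v := fun v => by
    obtain ⟨w, hw, rfl⟩ := D.S.surj v
    have hn : WE p E ≤ normalizer (ZZ p E : Set G) := fun y hy => mem_normalizer_ZZ (le_normalizer (we_le_self E hy))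
    rw [ww_eq_sup hG hE, sup_comm, ← SetLike.mem_coe, coe_mul_of_right_le_normalizer_left (ZZ p E) (WE p E) hn] at hw
    obtain ⟨z, hz, u, hu, rfl⟩ := Set.mem_mul.1 hw
    exact ⟨u, hu, (D.S.f_mul_left (we_le_ww E hu) hz).symm⟩
  have hMeq : M * M + 1 = (t : F) • M := by
    refine Matrix.ext_iff_mulVec.2 fun v => ?_
    obtain ⟨w, hw, rfl⟩ := hsurj v
    have hwW := we_le_ww E hw
    have h1W := D.S.conj_mem hxn hwW
    have := congrArg D.S.f (hid w hw)
    rw [D.S.map_mul _ (D.S.conj_mem hxn h1W) _ hwW, D.S.f_pow h1W, ← D.S.act_f hxn h1W, ← D.S.act_f hxn hwW,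
      hM, mv_apply, mv_apply, Matrix.mulVec_mulVec, ← Nat.cast_smul_eq_nsmul F, ← Matrix.smul_mulVec] at this
    rw [Matrix.add_mulVec, Matrix.one_mulVec]
    exact this
  have hdet : M.det = 1 := by
    have h00 := congrFun (congrFun hMeq 0) 0
    have h01 := congrFun (congrFun hMeq 0) 1
    have h10 := congrFun (congrFun hMeq 1) 0
    have h11 := congrFun (congrFun hMeq 1) 1
    simp [Matrix.mul_apply, Fin.sum_univ_two, Matrix.one_apply] at h00 h01 h10 h11
    rw [Matrix.det_fin_two]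
    by_cases hT : M 0 0 + M 1 1 = (t : F)
    · linear_combination -h00 + M 0 0 * hT
    · have h1 : M 0 1 = 0 := by
        have : (M 0 0 + M 1 1 - (t : F)) * M 0 1 = 0 := by linear_combination h01
        exact (mul_eq_zero.1 this).resolve_left (sub_ne_zero.2 hT)
      have h2 : M 1 0 = 0 := by
        have : (M 0 0 + M 1 1 - (t : F)) * M 1 0 = 0 := by linear_combination h10
        exact (mul_eq_zero.1 this).resolve_left (sub_ne_zero.2 hT)
      have hq3 : Nat.card F ≤ 3 := by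
        rcases hR with ⟨rfl, -⟩ | ⟨rfl, -⟩ <;> omega
      have hne : ∀ a : F, a * a + 1 = (t : F) * a → a ≠ 0 := fun a ha h0 => by
        rw [h0, mul_zero, mul_zero, zero_add] at ha; exact one_ne_zero ha
      have e0 : M 0 0 * M 0 0 + 1 = (t : F) * M 0 0 := by linear_combination h00 - M 1 0 * h1
      have e1 : M 1 1 * M 1 1 + 1 = (t : F) * M 1 1 := by linear_combination h11 - M 0 1 * h2
      have s0 := scalar_sq hq3 (hne _ e0)
      have s1 := scalar_sq hq3 (hne _ e1)
      -- both diagonal entries satisfy `2 = t a`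
      have hd : M 0 0 = M 1 1 ∨ (t : F) = 0 := by
        by_cases h0 : (t : F) = 0
        · exact Or.inr h0
        · left
          have : (t : F) * (M 0 0 - M 1 1) = 0 := by linear_combination s0 - s1 - e0 + e1
          exact sub_eq_zero.1 ((mul_eq_zero.1 this).resolve_left h0)
      rcases hd with hd | hd
      · rw [h1, h2, mul_zero, sub_zero, ← hd, s0]
      · have h22 : (2 : F) = 0 := by linear_combination e0 - s0 + M 0 0 * hd
        have hp2 : p = 2 := by
          have : p ∣ 2 := (CharP.cast_eq_zero_iff F p 2).1 (by exact_mod_cast h22)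
          exact (Nat.prime_dvd_prime_iff_eq Fact.out Nat.prime_two).1 this
        have h01' : ∀ a : F, a ≠ 0 → a = 1 := fun a ha => by
          have := FiniteField.pow_card_sub_one_eq_one a ha
          rw [Fintype.card_eq_nat_card, hq, hp2, show (2 : ℕ) - 1 = 1 from rfl, pow_one] at this
          exact this
        rw [h1, h2, h01' _ (hne _ e0), h01' _ (hne _ e1)]; ring
  obtain ⟨Mg, hMg⟩ : ∃ Mg : Matrix.SpecialLinearGroup (Fin 2) F, Mg.1 = M := ⟨⟨M, hdet⟩, rfl⟩
  obtain ⟨e, he⟩ : ∃ e : ↥E, D.rho e = Mg := by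
    refine D.range.ge (mem_commutator_of_coprime (p := p) (Nat.Coprime.coprime_dvd_left ?_ hco))
    refine orderOf_dvd_of_pow_eq_one (Subtype.ext (mv_injective ?_))
    have e' : ∀ n : ℕ, mv (M ^ n) = D.S.act x ^ n := fun n => by
      induction n with
      | zero => rw [pow_zero, pow_zero, mv_one]
      | succ n ih => rw [pow_succ, pow_succ, mv_mul, ih, hM]
    rw [Matrix.SpecialLinearGroup.coe_pow, hMg, e', ← D.S.act_pow hxn, pow_orderOf_eq_one, D.S.act_one]
    exact mv_one.symm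
  have hen := D.norm e.2
  have hact : D.S.act ((e : G)⁻¹ * x) = 1 := by
    rw [← D.S.act_eq_iff hxn hen, hM, D.act_rho, he, hMg]
  exact ⟨e, e.2, centralizes_we_of_trivial hG hE (mul_mem (inv_mem (le_normalizer e.2)) (hKN hx))
    ((D.S.act_eq_one_iff (mul_mem (inv_mem hen) hxn)).1 hact)⟩

/-- With the same `W_E`, an exceptional block has `O_p` below that of the other, which is exceptional. -/
theorem qe_le_of_exc (hEs : E.IsSubnormal) (hES : IsSmall p (T : Subgroup G) E) (hKs : K.IsSubnormal)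
    (hKS : IsSmall p (T' : Subgroup G) K) (hKN : K ≤ normalizer (E : Set G)) (hW : WE p K = WE p E)
    (hQ : QE p E ≠ WW p E) : QE p E ≤ QE p K ∧ QE p K ≠ WW p K := by
  obtain ⟨F, _, _, hq, -, ⟨D₀⟩, hQ' | hexc⟩ := id hES
  · exact absurd hQ' hQ
  obtain ⟨hp, ⟨D⟩, hcomm, -, -⟩ := hexc
  have hq3 : Nat.card F = 3 := hq.trans hp
  obtain ⟨g, hgK, -, -, hginv⟩ := exists_inverting hG hK hKs hKS hp
  rw [hW] at hginv
  obtain ⟨e, he, hc⟩ := exists_mul_centralizer hG hE hK hEs hES hKs hKS hKN hW g hgK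
  set k := e⁻¹ * g with hkdef
  have hkE : k ∈ normalizer (E : Set G) := mul_mem (inv_mem (le_normalizer he)) (hKN hgK)
  have hg : g = e * k := by rw [hkdef]; group
  obtain ⟨c, hcs⟩ := exists_scalar_top hG hE hq3.ge D hkE hc
  have hkn := mem_top_nrm D hkE
  have hen := D.norm he
  have hc0 : c ≠ 0 := fun h0 => by
    have h1 := hcs ![1, 0]
    rw [h0, zero_smul] at h1
    have := congrFun (D.S.act_injective_apply hkn (h1.trans (map_zero _).symm)) 0
    simp at this
  have hodd : (2 : F) ≠ 0 := CfsgLib.Classical.two_ne_zero_of_odd_card (by rw [hq3]; decide)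
  -- `e * e` is the central involution on both sections
  have hw : ∀ w ∈ WE p E, e * e * w * (e * e)⁻¹ = w⁻¹ := by
    intro w hw
    have hk : ∀ y ∈ WE p E, k * y * k⁻¹ = y := fun y hy => by
      rw [← mem_centralizer_iff.1 hc y hy, mul_inv_cancel_right]
    have h1 := hginv w hw
    rw [hg] at h1
    have hwe : e * w * e⁻¹ ∈ WE p E := (mem_normalizer_iff.1 (mem_normalizer_WE (le_normalizer he)) w).1 hw
    calc e * e * w * (e * e)⁻¹ = e * (k * (e * (k * w * k⁻¹) * e⁻¹) * k⁻¹) * e⁻¹ := by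
          rw [hk w hw, hk _ hwe]; group
      _ = w⁻¹ := by rw [← h1]; group
  have hee : e * e ∉ QE p E := by
    intro h
    have hw1 : ∀ w ∈ WE p E, w = 1 := fun w hw' => by
      have h1 := hw w hw'
      rw [qe_fix_vv hG hE hEs h (we_le_vv hG hE hw'), mul_inv_cancel_right] at h1
      have h2 : w ^ 2 = 1 := by rw [sq]; nth_rewrite 1 [h1]; rw [inv_mul_cancel]
      have h3 : w ^ 3 = 1 := hp ▸ exponent_ww E w (we_le_ww E hw')
      calc w = w ^ 3 * (w ^ 2)⁻¹ := by group
        _ = 1 := by rw [h3, h2]; group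
    have := small_card_we hG hE hEs hES
    rw [show WE p E = ⊥ from eq_bot_iff.2 (fun w hw' => Subgroup.mem_bot.2 (hw1 w hw')), Subgroup.card_bot] at this
    exact (Nat.one_lt_pow (n := 2) (by norm_num) (Fact.out : p.Prime).one_lt).ne this
  have he4 : e * e * (e * e) ∈ QE p E := by
    refine mem_QE_of_centralizes hG hE (mul_mem (mul_mem he he) (mul_mem he he))
      (mem_centralizer_iff.2 fun w hw' => ?_)
    have h1 := hw _ hw'
    have h2 := hw _ (inv_mem hw')
    rw [inv_inv] at h2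
    symm
    calc e * e * (e * e) * w = e * e * (e * e * w * (e * e)⁻¹) * (e * e) := by group
      _ = (e * e * w⁻¹ * (e * e)⁻¹) * (e * e * (e * e)) := by
          rw [h1]; simp only [mul_inv_rev, mul_assoc, inv_mul_cancel_left]
      _ = w * (e * e * (e * e)) := by rw [h2]
  have hrho : (D.rho ⟨e * e, mul_mem he he⟩).1 = -1 := by
    have hs : D.rho ⟨e * e, mul_mem he he⟩ * D.rho ⟨e * e, mul_mem he he⟩ = 1 := by
      rw [← map_mul]; exact D.qe_ker _ he4
    rcases CfsgLib.Classical.sl2_sq_eq_one hodd hs with h | h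
    · exact absurd (D.ker _ (Subtype.ext h)) hee
    · exact h
  have hgneg : ∀ v, D.S.act (g * g) v = -v := fun v => by
    have hgn : g ∈ D.S.nrm := mem_top_nrm D (hKN hgK)
    rw [D.S.act_mul hgn hgn]
    show D.S.act g (D.S.act g v) = -v
    have hga : ∀ u, D.S.act g u = c • (D.rho ⟨e, he⟩).1.mulVec u := fun u => by
      rw [hg, D.S.act_mul hen hkn]
      show D.S.act e (D.S.act k u) = _
      rw [hcs, D.act_rho ⟨e, he⟩, mv_apply, Matrix.mulVec_smul]
    rw [hga, hga, Matrix.mulVec_smul, Matrix.mulVec_mulVec, smul_smul, scalar_sq hq3.le hc0, one_smul,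
      ← Matrix.SpecialLinearGroup.coe_mul, ← map_mul,
      show (⟨e, he⟩ : ↥E) * ⟨e, he⟩ = ⟨e * e, mul_mem he he⟩ from rfl, hrho, Matrix.neg_mulVec,
      Matrix.one_mulVec]
  set R := QE p E ⊓ QE p K with hR
  have hW0R : WE p E ≤ R := le_inf ((we_le_ww E).trans (ww_le E)) (hW ▸ (we_le_ww K).trans (ww_le K))
  have hsub : QE p E ≤ R ⊔ ZZ p E := by
    refine qe_le_of_inverting hG hE D (by omega) (hKN (mul_mem hgK hgK)) hgneg ?_ fun q hq' => mem_sup_left ?_
    · rw [ww_eq_sup hG hE]; exact sup_le_sup_right hW0R _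
    refine Subgroup.mem_inf.2 ⟨mul_mem
      ((mem_normalizer_iff.1 (mem_normalizer_pCoreOf (hKN (mul_mem hgK hgK))) q).1 hq') (inv_mem hq'), ?_⟩
    have := oo_commutator_le hG hK (qe_le_oo hEs hq') (mul_mem hgK hgK)
    rw [show g * g * q * (g * g)⁻¹ * q⁻¹ = (q * (g * g) * q⁻¹ * (g * g)⁻¹)⁻¹ by
      simp only [mul_inv_rev, inv_inv, mul_assoc]]
    exact inv_mem this
  have hdec : ∀ q ∈ QE p E, ∃ a ∈ R, ∃ z ∈ ZZ p E, a * z = q := fun q hq' => by
    have := hsub hq'
    rw [← SetLike.mem_coe, coe_mul_of_left_le_normalizer_right R (ZZ p E) (fun r hr =>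
      mem_normalizer_ZZ (le_normalizer (pCoreOf_le p E hr.1)))] at this
    exact Set.mem_mul.1 this
  have hZR : ZZ p E ≤ ⁅R, R⁆ := by
    rw [← hcomm, commutator_le]
    intro u hu v hv
    obtain ⟨a, ha, z, hz, rfl⟩ := hdec u hu
    obtain ⟨a', ha', z', hz', rfl⟩ := hdec v hv
    have hc1 : ∀ y ∈ QE p E, z * y = y * z := fun y hy => ww_commute (zz_le_ww E hz) hy
    have hc2 : ∀ y ∈ QE p E, z' * y = y * z' := fun y hy => ww_commute (zz_le_ww E hz') hy
    have h : ⁅a * z, a' * z'⁆ = ⁅a, a'⁆ := by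
      simp only [commutatorElement_def]
      calc a * z * (a' * z') * (a * z)⁻¹ * (a' * z')⁻¹
          = a * (z * (a' * z') * z⁻¹) * a⁻¹ * (z'⁻¹ * a'⁻¹) := by group
        _ = a * a' * (z' * a⁻¹ * z'⁻¹) * a'⁻¹ := by
          rw [hc1 _ (mul_mem ha'.1 (ww_le E (zz_le_ww E hz'))), mul_inv_cancel_right]; group
        _ = _ := by rw [hc2 _ (inv_mem ha.1), mul_inv_cancel_right]
    rw [h]
    exact commutator_mem_commutator ha ha'
  have hne : QE p K ≠ WW p K := by
    intro hK'
    have hRab : ∀ a ∈ R, ∀ b ∈ R, a * b = b * a := fun a ha b hb => ww_commute (hK' ▸ ha.2) hb.2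
    have hZ1 : ZZ p E = ⊥ := by
      rw [eq_bot_iff]
      refine hZR.trans ?_
      rw [commutator_le]
      intro a ha b hb
      rw [Subgroup.mem_bot, commutatorElement_eq_one_iff_mul_comm]
      exact hRab a ha b hb
    have hQR : QE p E ≤ R := by rw [hZ1, sup_bot_eq] at hsub; exact hsub
    have := abelian_le_ww hG hE (QE p E) le_rfl (le_normalizer_pCoreOf p E)
      (fun a ha b hb => hRab a (hQR ha) b (hQR hb)) (fun a ha => exponent_ww K a (hK' ▸ (hQR ha).2))
    exact hQ (le_antisymm this (ww_le E))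
  refine ⟨hsub.trans (sup_le inf_le_right (hZR.trans ?_)), hne⟩
  exact (commutator_mono inf_le_right inf_le_right).trans (commutator_le.2 fun a ha b hb =>
    commutatorElement_def a b ▸ mul_mem (mul_mem (mul_mem ha hb) (inv_mem ha)) (inv_mem hb))

/-- The small case B: `K ≤ E`. -/
theorem small_caseB (hEs : E.IsSubnormal) (hES : IsSmall p (T : Subgroup G) E) (hKs : K.IsSubnormal)
    (hKS : IsSmall p (T' : Subgroup G) K) (hKN : K ≤ normalizer (E : Set G))
    (hEN : E ≤ normalizer (K : Set G)) (hmove : ¬ K ≤ centralizer (WE p E : Set G)) : K ≤ E := by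
  have hW := we_eq_of_moves hG hE hK hEs hES hKs hKS hKN hmove
  set r := if p = 2 then 3 else 2 with hr
  have hrp : r.Coprime p := by
    obtain ⟨r', k', hr', hne, -, hrdef, -⟩ := small_prime hG hE hEs hES
    rw [hr, ← hrdef]
    exact (Nat.coprime_primes hr' Fact.out).2 hne
  haveI : Fact r.Prime := ⟨by rw [hr]; split_ifs <;> norm_num⟩
  set N := Cfsg.pCore r (G ⧸ OO p G) with hN
  have hNp : IsPGroup r N := CfsgLib.Base.isPGroup_pCore r _
  have hEKN : ∀ g ∈ E ⊔ K, QuotientGroup.mk' (OO p G) g ∈ N := fun g hg => by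
    have : E ⊔ K ≤ N.comap (QuotientGroup.mk' (OO p G)) := sup_le
      (map_le_iff_le_comap.1 (small_map_le_pCore hG hE hEs hES))
      (map_le_iff_le_comap.1 (small_map_le_pCore hG hK hKs hKS))
    exact this hg
  -- the elements of `K`, corrected by `E`, lie in `O_p(G)`
  suffices hk : ∀ k ∈ E ⊔ K, k ∈ centralizer (WE p E : Set G) → k ∈ OO p G by
    refine le_of_coprime_mem hK fun x hx hco => mem_of_coprime_sup hG hE ?_ hco
    obtain ⟨e, he, hc⟩ := exists_mul_centralizer hG hE hK hEs hES hKs hKS hKN hW x hx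
    rw [show x = e * (e⁻¹ * x) by group]
    exact mul_mem (mem_sup_left he) (mem_sup_right (hk _ (mul_mem (mem_sup_left (inv_mem he)) (mem_sup_right hx)) hc))
  intro k hk hkW
  have hkE : k ∈ normalizer (E : Set G) := sup_le le_normalizer hKN hk
  obtain ⟨a, ha⟩ := hNp ⟨_, hEKN k hk⟩
  have hka : k ^ r ^ a ∈ OO p G := by
    rw [← QuotientGroup.eq_one_iff, ← QuotientGroup.mk'_apply, map_pow]
    simpa using congrArg Subtype.val ha
  -- `[O_p(G), k] ≤ Q_E Q_K`
  have hQ2n : ∀ g ∈ E, g ∈ normalizer ((QE p E ⊔ QE p K : Subgroup G) : Set G) := fun g hg =>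
    mem_normalizer_sup (mem_normalizer_pCoreOf (le_normalizer hg)) (mem_normalizer_pCoreOf (hEN hg))
  have hmove' : ∀ o ∈ OO p G, k * o * k⁻¹ * o⁻¹ ∈ QE p E ⊔ QE p K := by
    intro o ho
    have hk' := hk
    rw [← SetLike.mem_coe, coe_mul_of_right_le_normalizer_left E K hKN] at hk'
    obtain ⟨e, he, x, hx, rfl⟩ := Set.mem_mul.1 hk'
    rw [show e * x * o * (e * x)⁻¹ * o⁻¹ = (e * (x * o * x⁻¹ * o⁻¹) * e⁻¹) * (e * o * e⁻¹ * o⁻¹) by group]
    refine mul_mem ((mem_normalizer_iff.1 (hQ2n e he) _).1 (mem_sup_right ?_)) (mem_sup_left ?_)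
    · have := inv_mem (oo_commutator_le hG hK ho hx)
      rw [show x * o * x⁻¹ * o⁻¹ = (o * x * o⁻¹ * x⁻¹)⁻¹ by group]
      exact this
    · have := inv_mem (oo_commutator_le hG hE ho he)
      rw [show e * o * e⁻¹ * o⁻¹ = (o * e * o⁻¹ * e⁻¹)⁻¹ by group]
      exact this
  by_cases hQ : QE p E = WW p E
  · have hK' : QE p K = WW p K := by
      by_contra h
      exact (qe_le_of_exc hG hK hE hKs hKS hEs hES hEN hW.symm h).2 hQ
    have hB : QE p E ⊔ QE p K = WE p E := by
      rw [qe_eq_we hG hE hQ, qe_eq_we hG hK hK', hW, sup_idem]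
    rw [hB] at hmove'
    exact mem_oo_of_chain hG hrp hka (WE p E) ((isPGroup_VV (G := G) (p := p)).to_le (we_le_vv hG hE))
      ⟨0, by rw [pow_zero, pow_one]; exact hkW⟩ hmove' (mem_normalizer_WE hkE)
  · obtain ⟨hle, hneK⟩ := qe_le_of_exc hG hE hK hEs hES hKs hKS hKN hW hQ
    have hge := (qe_le_of_exc hG hK hE hKs hKS hEs hES hEN hW.symm hneK).1
    have hQeq : QE p E = QE p K := le_antisymm hle hge
    rw [← hQeq, sup_idem] at hmove'
    obtain ⟨F, _, _, hq, -, ⟨D₀⟩, hQ' | hexc⟩ := id hES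
    · exact absurd hQ' hQ
    obtain ⟨hp, ⟨D⟩, hcomm, -, -⟩ := id hexc
    have hq3 : Nat.card F = 3 := hq.trans hp
    obtain ⟨c, hc⟩ := exists_scalar_top hG hE hq3.ge D hkE hkW
    have hkn := mem_top_nrm D hkE
    have hc0 : c ≠ 0 := fun h0 => by
      have h1 := hc ![1, 0]
      rw [h0, zero_smul] at h1
      have := congrFun (D.S.act_injective_apply hkn (h1.trans (map_zero _).symm)) 0
      simp at this
    rcases mul_self_eq_one_iff.1 (scalar_sq hq3.le hc0) with h1 | h1
    · have htop : ∀ q ∈ QE p E, k * q * k⁻¹ * q⁻¹ ∈ WW p E :=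
        (D.S.act_eq_one_iff hkn).1 (DFunLike.ext _ _ fun v => by rw [hc, h1, one_smul]; rfl)
      have hWC := mem_centralizer_ww_of_top hG hE hcomm hkW htop
      refine mem_oo_of_chain hG hrp hka (QE p E) (isPGroup_QE E)
        (exists_pow_mem_centralizer ((isPGroup_QE E).to_le (ww_le E)) htop hWC) hmove'
        (mem_normalizer_pCoreOf hkE)
    · exfalso
      have h2 : r = 2 := by rw [hr, hp]; rfl
      exact no_inverting hG hE hq D₀ hexc D N (h2 ▸ hNp) hkE hkW (hEKN k hk)
        (fun v => by rw [hc, h1, neg_one_smul]) hmove'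

end CfsgLib.LocalEven.Baumann
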