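import Cfsg.Agent.Lib.LocalEven.Baumann.Basic
import Cfsg.Agent.Lib.Base.Frattini

/-!
Conjugates of blocks are blocks, and `B(T)` depends on less than `T`.
-/

set_option autoImplicit false
set_option linter.unusedSectionVars false

namespace CfsgLib.LocalEven.Baumann

open Subgroup CfsgLib.LocalEven
open scoped commutatorElement

variable {G : Type*} [Group G] {p : ℕ}

theorem pResidualOf_eq (E : Subgroup G) :
    Cfsg.pResidualOf p E = closure {g | g ∈ E ∧ (orderOf g).Coprime p} := by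
  rw [Cfsg.pResidualOf, Cfsg.pResidual, MonoidHom.map_closure]
  congr 1
  ext g
  constructor
  · rintro ⟨x, hx, rfl⟩
    refine ⟨x.2, ?_⟩
    show (orderOf (x : G)).Coprime p
    rw [orderOf_coe]; exact hx
  · rintro ⟨hg, hco⟩
    exact ⟨⟨g, hg⟩, by show (orderOf _).Coprime p; rwa [Subgroup.orderOf_mk], rfl⟩

theorem map_pResidualOf (e : G ≃* G) (E : Subgroup G) :
    (Cfsg.pResidualOf p E).map e.toMonoidHom = Cfsg.pResidualOf p (E.map e.toMonoidHom) := by
  rw [pResidualOf_eq, pResidualOf_eq, MonoidHom.map_closure]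
  congr 1
  ext g
  constructor
  · rintro ⟨x, ⟨hx, hco⟩, rfl⟩
    refine ⟨mem_map_of_mem _ hx, ?_⟩
    rwa [MulEquiv.coe_toMonoidHom, MulEquiv.orderOf_eq]
  · rintro ⟨⟨x, hx, rfl⟩, hco⟩
    rw [MulEquiv.coe_toMonoidHom, MulEquiv.orderOf_eq] at hco
    exact ⟨x, ⟨hx, hco⟩, rfl⟩

theorem map_centralizer' (e : G ≃* G) (A : Subgroup G) :
    (centralizer (A : Set G)).map e.toMonoidHom = centralizer (A.map e.toMonoidHom : Set G) := by
  ext y
  obtain ⟨x, rfl⟩ := e.surjective y
  simp only [Subgroup.mem_map_equiv, e.symm_apply_apply, mem_centralizer_iff]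
  constructor
  · rintro h _ ⟨a, ha, rfl⟩
    simp only [MulEquiv.coe_toMonoidHom, ← map_mul, h a ha]
  · intro h a ha
    apply e.injective
    simpa using h (e a) ⟨a, ha, rfl⟩

theorem map_omegaOneCenter (e : G ≃* G) (X : Subgroup G) :
    (Cfsg.omegaOneCenter p X).map e.toMonoidHom = Cfsg.omegaOneCenter p (X.map e.toMonoidHom) := by
  rw [Cfsg.omegaOneCenter, Cfsg.omegaOneCenter, CfsgLib.PLocal.map_omegaOne e.injective,
    CfsgLib.PLocal.map_inf_centralizer e.injective]

theorem map_baumann (e : G ≃* G) (T : Subgroup G) :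
    (Cfsg.baumannSubgroupOf p T).map e.toMonoidHom = Cfsg.baumannSubgroupOf p (T.map e.toMonoidHom) := by
  rw [Cfsg.baumannSubgroupOf, Cfsg.baumannSubgroupOf, Subgroup.map_inf _ _ _ e.injective, map_centralizer',
    CfsgLib.PLocal.map_omegaOne e.injective, Cfsg.centerThompsonOf, Cfsg.centerThompsonOf,
    CfsgLib.PLocal.map_inf_centralizer e.injective, CfsgLib.PLocal.map_thompsonSubgroupOf e.injective]

theorem acts_SL2_map (e : G ≃* G) {F : Type} [Field F]
    {R : Subgroup (Matrix.SpecialLinearGroup (Fin 2) F)} {E U U₀ : Subgroup G}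
    (h : Cfsg.ActsAsSL2OnSection F R E U U₀) :
    Cfsg.ActsAsSL2OnSection F R (E.map e.toMonoidHom) (U.map e.toMonoidHom) (U₀.map e.toMonoidHom) := by
  obtain ⟨hn, hle, ρ, ψ, hρ, hψ, hker, hact⟩ := h
  let eE := E.equivMapOfInjective e.toMonoidHom e.injective
  let eU := U.equivMapOfInjective e.toMonoidHom e.injective
  refine ⟨?_, map_mono hle, ρ.comp eE.symm.toMonoidHom, ψ.comp eU.symm.toMonoidHom, ?_,
    hψ.comp eU.symm.surjective, fun u => ?_, fun x u => ?_⟩
  · rintro _ ⟨x, hx, rfl⟩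
    have := Subgroup.map_equiv_normalizer_eq U e
    rw [← this]
    exact mem_map_of_mem _ (hn hx)
  · rw [MonoidHom.range_comp, MonoidHom.range_eq_top.2 eE.symm.surjective, ← MonoidHom.range_eq_map, hρ]
  · obtain ⟨u, rfl⟩ := eU.surjective u
    simp only [MonoidHom.comp_apply, MulEquiv.coe_toMonoidHom, MulEquiv.symm_apply_apply, hker]
    exact (mem_map_iff_mem e.injective).symm
  · obtain ⟨u, rfl⟩ := eU.surjective u
    obtain ⟨x, rfl⟩ := eE.surjective x
    obtain ⟨w, hw, h2⟩ := hact x u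
    refine ⟨eU w, ?_, by simp only [MonoidHom.comp_apply, MulEquiv.coe_toMonoidHom, MulEquiv.symm_apply_apply]; exact h2⟩
    show e w = e x * e u * (e x)⁻¹
    rw [hw, map_mul, map_mul, map_inv]

theorem acts_perm_map (e : G ≃* G) {n : ℕ} {R : Subgroup (Equiv.Perm (Fin n))} {E U U₀ : Subgroup G}
    (h : Cfsg.ActsAsOddPermModuleOnSection n R E U U₀) :
    Cfsg.ActsAsOddPermModuleOnSection n R (E.map e.toMonoidHom) (U.map e.toMonoidHom) (U₀.map e.toMonoidHom) := by
  obtain ⟨hn, hle, ρ, ψ, hρ, heven, hψ, hker, hact⟩ := h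
  let eE := E.equivMapOfInjective e.toMonoidHom e.injective
  let eU := U.equivMapOfInjective e.toMonoidHom e.injective
  refine ⟨?_, map_mono hle, ρ.comp eE.symm.toMonoidHom, ψ.comp eU.symm.toMonoidHom, ?_,
    fun u => heven _, fun v hv => ?_, fun u => ?_, fun x u => ?_⟩
  · rintro _ ⟨x, hx, rfl⟩
    have := Subgroup.map_equiv_normalizer_eq U e
    rw [← this]
    exact mem_map_of_mem _ (hn hx)
  · rw [MonoidHom.range_comp, MonoidHom.range_eq_top.2 eE.symm.surjective, ← MonoidHom.range_eq_map, hρ]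
  · obtain ⟨u, hu⟩ := hψ v hv
    exact ⟨eU u, by simp only [MonoidHom.comp_apply, MulEquiv.coe_toMonoidHom, MulEquiv.symm_apply_apply]; exact hu⟩
  · obtain ⟨u, rfl⟩ := eU.surjective u
    simp only [MonoidHom.comp_apply, MulEquiv.coe_toMonoidHom, MulEquiv.symm_apply_apply, hker]
    exact (mem_map_iff_mem e.injective).symm
  · obtain ⟨u, rfl⟩ := eU.surjective u
    obtain ⟨x, rfl⟩ := eE.surjective x
    obtain ⟨w, hw, h2⟩ := hact x u
    refine ⟨eU w, ?_, by simp only [MonoidHom.comp_apply, MulEquiv.coe_toMonoidHom, MulEquiv.symm_apply_apply]; exact h2⟩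
    show e w = e x * e u * (e x)⁻¹
    rw [hw, map_mul, map_mul, map_inv]

variable [Finite G] [Fact p.Prime]

/-- Transport of a block under an automorphism. -/
theorem isBaumannBlock_map (e : G ≃* G) {T E : Subgroup G} (h : Cfsg.IsBaumannBlock p T E) :
    Cfsg.IsBaumannBlock p (T.map e.toMonoidHom) (E.map e.toMonoidHom) := by
  obtain ⟨h1, h2, h3, h4, h5⟩ := h
  have hQ : (Cfsg.pCoreOf p E).map e.toMonoidHom = Cfsg.pCoreOf p (E.map e.toMonoidHom) :=
    map_pCoreOf p _ e.injective E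
  have hW := map_omegaOneCenter (p := p) e (Cfsg.pCoreOf p E)
  rw [hQ] at hW
  have hEE : Nonempty (↥E ⧸ Cfsg.pCore p ↥E ≃* ↥(E.map e.toMonoidHom) ⧸ Cfsg.pCore p ↥(E.map e.toMonoidHom)) :=
    ⟨QuotientGroup.congr _ _ (E.equivMapOfInjective e.toMonoidHom e.injective)
      (CfsgLib.Base.map_pCore_mulEquiv _)⟩
  obtain ⟨eq⟩ := hEE
  have hWC : (Cfsg.omegaOneCenter p (Cfsg.pCoreOf p E) ⊓ centralizer (E : Set G)).map e.toMonoidHom =
      Cfsg.omegaOneCenter p (Cfsg.pCoreOf p (E.map e.toMonoidHom)) ⊓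
        centralizer ((E.map e.toMonoidHom : Subgroup G) : Set G) := by
    rw [Subgroup.map_inf _ _ _ e.injective, hW, map_centralizer']
  refine ⟨by rw [← map_pResidualOf, h1], by rw [← map_baumann, ← map_commutator, h2],
    by rw [← hQ, ← map_commutator, h3], fun hb => h4 ?_, ?_⟩
  · rw [← map_omegaOneCenter, ← map_commutator, map_eq_bot_iff_of_injective _ e.injective] at hb
    exact hb
  rcases h5 with ⟨F, fF, fin, n, hc, ⟨i⟩, ha, hQW⟩ | ⟨hp, m, ⟨i⟩, ha, hQW⟩
  · letI := fF; letI := fin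
    refine Or.inl ⟨F, fF, fin, n, hc, ⟨eq.symm.trans i⟩, ?_, ?_⟩
    · have := acts_SL2_map e ha
      rwa [hW, hWC] at this
    rcases hQW with hQW | ⟨hp3, ht, hc1, hc2, hc3, hc4, hq⟩
    · exact Or.inl ((hQ.symm.trans (congrArg (Subgroup.map e.toMonoidHom) hQW)).trans hW)
    refine Or.inr ⟨hp3, ?_, ?_, ?_, ?_, ?_, ?_⟩
    · have := acts_SL2_map e ht
      rwa [hW, hQ] at this
    · rw [← hQ, ← map_commutator, hc1, hQ, hWC]
    · rw [← hWC, ← hc2, Subgroup.map_map]
      have hf := CfsgLib.Base.map_frattini_mulEquiv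
        ((MulEquiv.subgroupCongr rfl).trans ((Cfsg.pCoreOf p E).equivMapOfInjective e.toMonoidHom e.injective)
          |>.trans (MulEquiv.subgroupCongr hQ))
      rw [← hf, Subgroup.map_map]
      congr 1
    · rw [← hWC, ← hc3, Subgroup.map_inf _ _ _ e.injective, map_centralizer']
    · rw [← hc4, ← map_centralizer', ← Subgroup.map_inf _ _ _ e.injective,
        Subgroup.card_map_of_injective e.injective]
    · intro b hb hbn hquad
      rw [← map_baumann] at hb
      obtain ⟨c, hc, rfl⟩ := hb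
      refine hq c hc (fun hcc => hbn ?_) ?_
      · rw [← hW, ← map_centralizer']
        exact mem_map_of_mem _ hcc
      · rw [← hQ, ← map_centralizer', ← Subgroup.map_inf _ _ _ e.injective,
          show zpowers (e.toMonoidHom c) = (zpowers c).map e.toMonoidHom from (MonoidHom.map_zpowers _ _).symm,
          ← map_commutator, ← map_commutator, map_le_map_iff_of_injective e.injective] at hquad
        exact hquad
  · refine Or.inr ⟨hp, m, ⟨eq.symm.trans i⟩, ?_, (hQ.symm.trans (congrArg (Subgroup.map e.toMonoidHom) hQW)).trans hW⟩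
    have := acts_perm_map e ha
    rwa [hW, hWC] at this

/-- The conjugate of a block for a Sylow subgroup is a block for the conjugate Sylow subgroup. -/
theorem exists_block_conj {T : Sylow p G} {E : Subgroup G} (h : Cfsg.IsBaumannBlock p (T : Subgroup G) E) (g : G) :
    ∃ T' : Sylow p G, (T' : Subgroup G) = (T : Subgroup G).map (MulAut.conj g).toMonoidHom ∧
      Cfsg.IsBaumannBlock p (T' : Subgroup G) (E.map (MulAut.conj g).toMonoidHom) := by
  refine ⟨g • T, ?_, ?_⟩
  · rw [Sylow.coe_subgroup_smul, CfsgLib.Base.map_conj_eq_smul]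
  · have := isBaumannBlock_map (MulAut.conj g) h
    rwa [Sylow.coe_subgroup_smul, ← CfsgLib.Base.map_conj_eq_smul]

end CfsgLib.LocalEven.Baumann
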