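import Cfsg.Agent.Lib.LocalEven.Baumann.Small
import Cfsg.Agent.Lib.LocalEven.Baumann.Transport

/-!
Two subnormal blocks: the perfect case, and two small blocks normalizing each other.
-/

set_option autoImplicit false
set_option linter.unusedSectionVars false

namespace CfsgLib.LocalEven.Baumann

open Subgroup CfsgLib.LocalEven
open scoped commutatorElement

variable {G : Type*} [Group G] [Finite G] {p : ℕ} [Fact p.Prime]
variable {T : Sylow p G} {E : Subgroup G} {T' : Sylow p G} {K : Subgroup G}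
variable (hG : centralizer (Cfsg.pCore p G : Set G) ≤ Cfsg.pCore p G)
  (hE : Cfsg.IsBaumannBlock p (T : Subgroup G) E) (hK : Cfsg.IsBaumannBlock p (T' : Subgroup G) K)
include hG hE

theorem mem_of_coprime_sup {x : G} (hx : x ∈ E ⊔ OO p G) (hco : (orderOf x).Coprime p) : x ∈ E := by
  rw [← residual_sup hG hE, pResidualOf_eq]
  exact subset_closure ⟨hx, hco⟩

/-- Whatever normalizes `E O_p(G)` normalizes `E`. -/
theorem mem_normalizer_of_sup {k : G} (h : ∀ e ∈ E, k * e * k⁻¹ ∈ E ⊔ OO p G) :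
    k ∈ normalizer (E : Set G) := by
  refine mem_normalizer_iff_map_conj_eq.2 (eq_of_le_of_card_ge ?_
    (Nat.card_congr (equivMapOfInjective E _ (MulAut.conj k).injective).toEquiv).le)
  rw [map_le_iff_le_comap]
  refine le_of_coprime_mem hE fun e he hco => mem_of_coprime_sup hG hE (h e he) ?_
  show (orderOf (MulAut.conj k e)).Coprime p
  rwa [MulEquiv.orderOf_eq]

/-- An element commuting with `E` modulo `O_p(G)` normalizes `E`. -/
theorem mem_normalizer_of_comm {k : G} (h : ∀ e ∈ E, k * e * k⁻¹ * e⁻¹ ∈ OO p G) :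
    k ∈ normalizer (E : Set G) :=
  mem_normalizer_of_sup hG hE fun e he => by
    rw [show k * e * k⁻¹ = (k * e * k⁻¹ * e⁻¹) * e by group]
    exact mul_mem (mem_sup_right (h e he)) (mem_sup_left he)

include hK

/-- Blocks with the same image in `G / O_p(G)` are equal. -/
theorem eq_of_map_eq (h : E.map (QuotientGroup.mk' (OO p G)) = K.map (QuotientGroup.mk' (OO p G))) :
    E = K := by
  have h1 : E ⊔ OO p G = K ⊔ OO p G := by
    have := congrArg (Subgroup.comap (QuotientGroup.mk' (OO p G))) h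
    rwa [comap_map_eq, comap_map_eq, QuotientGroup.ker_mk'] at this
  rw [← residual_sup hG hE, ← residual_sup hG hK, h1]

theorem mutual_of_map_commute
    (h : ⁅E.map (QuotientGroup.mk' (OO p G)), K.map (QuotientGroup.mk' (OO p G))⁆ = ⊥) :
    K ≤ normalizer (E : Set G) ∧ ∀ k ∈ K, ∀ e ∈ E, k * e * k⁻¹ * e⁻¹ ∈ OO p G := by
  have h2 : ∀ k ∈ K, ∀ e ∈ E, k * e * k⁻¹ * e⁻¹ ∈ OO p G := fun k hk e he => by
    rw [← map_commutator, Subgroup.map_eq_bot_iff, QuotientGroup.ker_mk'] at h
    have := h (commutator_mem_commutator he hk)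
    have := inv_mem this
    rw [commutatorElement_def] at this
    rw [show k * e * k⁻¹ * e⁻¹ = (e * k * e⁻¹ * k⁻¹)⁻¹ by group]
    exact this
  exact ⟨fun k hk => mem_normalizer_of_comm hG hE (h2 k hk), h2⟩

/-- A perfect block commutes with every other subnormal block. -/
theorem eq_or_commute_of_perfect (hEs : E.IsSubnormal) (hKs : K.IsSubnormal)
    (hKp : K ≤ ⁅K, K⁆ ∧ Cfsg.IsComponent (K.map (QuotientGroup.mk' (OO p G)))) :
    E = K ∨ ⁅E, K⁆ = ⊥ := by
  by_cases heq : E.map (QuotientGroup.mk' (OO p G)) = K.map (QuotientGroup.mk' (OO p G))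
  · exact Or.inl (eq_of_map_eq hG hE hK heq)
  right
  have hc : ⁅E.map (QuotientGroup.mk' (OO p G)), K.map (QuotientGroup.mk' (OO p G))⁆ = ⊥ := by
    rcases small_or_perfect hG hE hEs with hS | hP
    · obtain ⟨A, hAE, -, hsol, hdec⟩ := small_complement hG hE hEs hS
      haveI := hsol
      have hmap : E.map (QuotientGroup.mk' (OO p G)) = A.map (QuotientGroup.mk' (OO p G)) := by
        refine le_antisymm ?_ (map_mono hAE)
        rintro _ ⟨e, he, rfl⟩
        obtain ⟨a, ha, q, hq, rfl⟩ := hdec e he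
        refine ⟨a, ha, ?_⟩
        rw [map_mul, (mk_eq_one_iff hG hE hEs (pCoreOf_le p E hq)).2 hq, mul_one]
      have hsol' : Group.IsSolvable ↥(A.map (QuotientGroup.mk' (OO p G))) :=
        Group.isSolvable_of_surjective ((QuotientGroup.mk' (OO p G)).subgroupMap_surjective A)
      rw [commutator_comm]
      exact CfsgLib.Components.component_commutator_eq_bot_of_isSolvable hKp.2
        (hEs.map (QuotientGroup.mk'_surjective _)) (hmap ▸ hsol')
    · exact CfsgLib.Components.components_commute hP.2 hKp.2 heq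
  obtain ⟨hKN, hKE⟩ := mutual_of_map_commute hG hE hK hc
  rw [commutator_comm, commutator_eq_bot_iff_le_centralizer]
  refine perfect_centralizes hG hE hKN (fun S hS => le_of_coprime_mem hK hS) hKp.1 fun k hk e he => ?_
  exact oo_inf_le hG hE (Subgroup.mem_inf.2
    ⟨hKE k hk e he, mul_mem ((mem_normalizer_iff.1 (hKN hk) e).1 he) (inv_mem he)⟩)

omit hK

/-- An element acting on `Q / W` as inversion drags `Q` into any subgroup above `W` containing its commutators. -/
theorem qe_le_of_inverting {F : Type} [Field F] (D : NatSec p E (QE p E) (WW p E) F) (hp : p ≠ 2) {g : G}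
    (hg : g ∈ normalizer (E : Set G)) (hneg : ∀ v, D.S.act g v = -v) {X : Subgroup G}
    (hWX : WW p E ≤ X) (hX : ∀ q ∈ QE p E, g * q * g⁻¹ * q⁻¹ ∈ X) : QE p E ≤ X := by
  intro q hq
  have hgn := mem_top_nrm D hg
  have h1 : g * q * g⁻¹ * q ∈ WW p E := by
    have hm : g * q * g⁻¹ ∈ QE p E := D.S.conj_mem hgn hq
    rw [← D.S.ker _ (mul_mem hm hq), D.S.map_mul _ hm _ hq, ← D.S.act_f hgn hq, hneg, neg_add_cancel]
  have h2 : q * q ∈ X := by
    rw [show q * q = (g * q * g⁻¹ * q⁻¹)⁻¹ * (g * q * g⁻¹ * q) by group]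
    exact mul_mem (inv_mem (hX q hq)) (hWX h1)
  obtain ⟨n, hn⟩ := isPGroup_QE E ⟨q, hq⟩
  have hd : orderOf q ∣ p ^ n := orderOf_dvd_of_pow_eq_one (by simpa using congrArg Subtype.val hn)
  refine mem_of_pow_mem (n := 2) (Nat.Coprime.coprime_dvd_left hd ?_) (by rw [sq]; exact h2)
  exact Nat.Coprime.pow_left n ((Nat.coprime_primes Fact.out Nat.prime_two).2 hp)

omit hG hE

/-- An element of order `4` modulo `O_p(E)` in a small block for `p = 3`, and its square inverting `W_E`. -/
theorem exists_inverting (hG : centralizer (Cfsg.pCore p G : Set G) ≤ Cfsg.pCore p G)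
    (hE : Cfsg.IsBaumannBlock p (T : Subgroup G) E) (hEs : E.IsSubnormal)
    (hS : IsSmall p (T : Subgroup G) E) (hp : p = 3) :
    ∃ g ∈ E, (orderOf g).Coprime p ∧ g * g ∉ QE p E ∧ (∀ w ∈ WE p E, g * g * w * (g * g)⁻¹ = w⁻¹) := by
  obtain ⟨F, _, _, hq, -, ⟨D⟩, -⟩ := id hS
  haveI : CharP F p := charP_of_card_eq_prime (by rw [Fintype.card_eq_nat_card, hq])
  subst hp
  obtain ⟨r, hr, hr2⟩ := exists_sq_eq_neg_one hq
  obtain ⟨e, he⟩ : ∃ e : ↥E, D.rho e = r := D.range.ge hr
  set a := (orderOf (e : G)).factorization 3 with ha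
  set g := (e : G) ^ 3 ^ a with hgdef
  have hgE : g ∈ E := pow_mem e.2 _
  have hco : (orderOf g).Coprime 3 := by
    rw [hgdef, orderOf_pow' _ (pow_ne_zero _ (by norm_num)), Nat.gcd_eq_right (Nat.ordProj_dvd _ _)]
    exact ((Nat.Prime.coprime_iff_not_dvd (by norm_num)).2
      (Nat.not_dvd_ordCompl (by norm_num) (orderOf_pos _).ne')).symm
  have hrho : (D.rho ⟨g * g, mul_mem hgE hgE⟩).1 = -1 := by
    have h1 : (⟨g * g, mul_mem hgE hgE⟩ : ↥E) = (e * e) ^ 3 ^ a := by
      apply Subtype.ext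
      show g * g = ((e : G) * e) ^ 3 ^ a
      rw [(Commute.refl (e : G)).mul_pow]
    rw [h1, map_pow, map_mul, he, Matrix.SpecialLinearGroup.coe_pow, hr2]
    exact (Odd.pow (by decide)).neg_one_pow
  refine ⟨g, hgE, hco, fun h => ?_, fun w hw => ?_⟩
  · have := D.qe_ker ⟨g * g, mul_mem hgE hgE⟩ h
    rw [this, Matrix.SpecialLinearGroup.coe_one] at hrho
    have h00 := congrFun (congrFun hrho 0) 0
    simp at h00
    have h2 : (2 : F) = 0 := by linear_combination h00
    exact CfsgLib.Classical.two_ne_zero_of_odd_card (F := F) (by rw [hq]; decide) h2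
  · have hgn := D.norm (mul_mem hgE hgE)
    have hwW := we_le_ww E hw
    set y := g * g * w * (g * g)⁻¹ * w with hy
    have hyW : g * g * w * (g * g)⁻¹ ∈ WE 3 E :=
      (mem_normalizer_iff.1 (mem_normalizer_WE (le_normalizer (mul_mem hgE hgE))) w).1 hw
    have hyZ : y ∈ ZZ 3 E := by
      rw [← D.S.ker _ (mul_mem (D.S.conj_mem hgn hwW) hwW), D.S.map_mul _ (D.S.conj_mem hgn hwW) _ hwW,
        ← D.S.act_f hgn hwW, D.act_rho ⟨g * g, mul_mem hgE hgE⟩, hrho, mv_apply, Matrix.neg_mulVec,
        Matrix.one_mulVec, neg_add_cancel]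
    have h0 : y ∈ (⊥ : Subgroup G) := by
      rw [← (small_decomp hG hE hEs hS).1]
      exact Subgroup.mem_inf.2 ⟨mul_mem hyW hw, hyZ.2⟩
    exact eq_inv_of_mul_eq_one_left (Subgroup.mem_bot.1 h0)

include hG hE hK

/-- A small block normalizing a small block and centralizing its `W_E` centralizes it. -/
theorem small_caseA (hEs : E.IsSubnormal) (hES : IsSmall p (T : Subgroup G) E) (hKs : K.IsSubnormal)
    (hKS : IsSmall p (T' : Subgroup G) K) (hKN : K ≤ normalizer (E : Set G))
    (hKW : K ≤ centralizer (WE p E : Set G)) : K ≤ centralizer (E : Set G) := by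
  refine le_of_coprime_mem hK fun x hx hco => centralizes_of_top hG hE (hKN hx) hco (hKW hx) ?_
  obtain ⟨F, _, _, hq, -, -, hQ | hexc⟩ := id hES
  · intro q hq'
    rw [← hQ]
    exact mul_mem ((mem_normalizer_iff.1 (mem_normalizer_pCoreOf (hKN hx)) q).1 hq') (inv_mem hq')
  obtain ⟨hp, ⟨D⟩, -⟩ := hexc
  have hq3 : Nat.card F = 3 := hq.trans hp
  suffices hone : D.S.act x = 1 from (D.S.act_eq_one_iff (mem_top_nrm D (hKN hx))).1 hone
  obtain ⟨c, hc⟩ := exists_scalar_top hG hE hq3.ge D (hKN hx) (hKW hx)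
  by_contra hne
  have hc0 : c ≠ 0 := fun h0 => by
    have h1 := hc ![1, 0]
    rw [h0, zero_smul] at h1
    have := congrFun (D.S.act_injective_apply (mem_top_nrm D (hKN hx)) (h1.trans (map_zero _).symm)) 0
    simp at this
  have hc2 : c * c = 1 := scalar_sq hq3.le hc0
  have hc1 : c = -1 := by
    rcases mul_self_eq_one_iff.1 hc2 with h | h
    · exact absurd (DFunLike.ext _ _ fun v => by rw [hc v, h, one_smul]; rfl) hne
    · exact h
  -- the square of an element of order `4` of `K` centralizes `E`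
  obtain ⟨g, hgK, hgco, hgQ, hginv⟩ := exists_inverting hG hK hKs hKS hp
  have hggco : (orderOf (g * g)).Coprime p := by
    rw [← sq]; exact Nat.Coprime.coprime_dvd_left (orderOf_pow_dvd 2) hgco
  have hggE : g * g ∈ centralizer (E : Set G) := by
    refine centralizes_of_top hG hE (hKN (mul_mem hgK hgK)) hggco (hKW (mul_mem hgK hgK)) ?_
    obtain ⟨d, hd⟩ := exists_scalar_top hG hE hq3.ge D (hKN hgK) (hKW hgK)
    have hd0 : d ≠ 0 := fun h0 => by
      have h1 := hd ![1, 0]
      rw [h0, zero_smul] at h1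
      have := congrFun (D.S.act_injective_apply (mem_top_nrm D (hKN hgK)) (h1.trans (map_zero _).symm)) 0
      simp at this
    refine (D.S.act_eq_one_iff (mem_top_nrm D (hKN (mul_mem hgK hgK)))).1 ?_
    rw [D.S.act_mul (mem_top_nrm D (hKN hgK)) (mem_top_nrm D (hKN hgK))]
    refine DFunLike.ext _ _ fun v => ?_
    show D.S.act g (D.S.act g v) = v
    rw [hd, hd, smul_smul, scalar_sq hq3.le hd0, one_smul]
  -- so `R = Q_E ∩ Q_K` lies in `W_K`
  have hRW : QE p E ⊓ QE p K ≤ WW p K := by
    obtain ⟨F', _, _, hq', -, -, hQ' | hexc'⟩ := id hKS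
    · exact inf_le_right.trans hQ'.le
    obtain ⟨-, ⟨D'⟩, -⟩ := hexc'
    intro r hr
    have hgn := D'.norm (mul_mem hgK hgK)
    have hQE : r * (g * g) = g * g * r :=
      (mem_centralizer_iff.1 hggE r (pCoreOf_le p E hr.1))
    have hfix : D'.S.act (g * g) (D'.S.f r) = D'.S.f r := by
      rw [D'.S.act_f hgn hr.2, ← hQE, mul_inv_cancel_right]
    rw [D'.act_rho ⟨g * g, mul_mem hgK hgK⟩] at hfix
    -- an involution of `SL₂` is `-1`
    have hr2 : (D'.rho ⟨g * g, mul_mem hgK hgK⟩).1 = -1 := by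
      haveI : Fintype F' := Fintype.ofFinite F'
      have hodd : (2 : F') ≠ 0 := CfsgLib.Classical.two_ne_zero_of_odd_card (by rw [hq', hp]; decide)
      have h4 : g * g * (g * g) ∈ QE p K := by
        refine mem_QE_of_centralizes hG hK (mul_mem (mul_mem hgK hgK) (mul_mem hgK hgK))
          (mem_centralizer_iff.2 fun w hw => ?_)
        have h1 := hginv _ hw
        have h2 := hginv _ (inv_mem hw)
        rw [inv_inv] at h2
        symm
        calc g * g * (g * g) * w = g * g * (g * g * w * (g * g)⁻¹) * (g * g) := by group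
          _ = (g * g * w⁻¹ * (g * g)⁻¹) * (g * g * (g * g)) := by
            rw [h1]; simp only [mul_inv_rev, mul_assoc, inv_mul_cancel_left]
          _ = w * (g * g * (g * g)) := by rw [h2]
      have hs : D'.rho ⟨g * g, mul_mem hgK hgK⟩ * D'.rho ⟨g * g, mul_mem hgK hgK⟩ = 1 := by
        rw [← map_mul]; exact D'.qe_ker _ h4
      rcases CfsgLib.Classical.sl2_sq_eq_one hodd hs with h | h
      · exact absurd (D'.ker _ (Subtype.ext h)) hgQ
      · exact h
    rw [hr2, mv_apply, Matrix.neg_mulVec, Matrix.one_mulVec] at hfix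
    have hodd : (2 : F') ≠ 0 := by
      haveI : Fintype F' := Fintype.ofFinite F'
      exact CfsgLib.Classical.two_ne_zero_of_odd_card (by rw [hq', hp]; decide)
    refine (D'.S.ker r hr.2).1 (funext fun i => ?_)
    have := congrFun hfix i
    rw [Pi.neg_apply, neg_eq_iff_add_eq_zero, ← two_mul] at this
    exact (mul_eq_zero.1 this).resolve_left hodd
  set R := QE p E ⊓ QE p K with hR
  have hQsub : QE p E ≤ R ⊔ WW p E := by
    refine qe_le_of_inverting hG hE D (by omega) (hKN hx) (fun v => by rw [hc v, hc1, neg_one_smul])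
      le_sup_right fun q hq' => mem_sup_left (Subgroup.mem_inf.2
        ⟨mul_mem ((mem_normalizer_iff.1 (mem_normalizer_pCoreOf (hKN hx)) q).1 hq') (inv_mem hq'), ?_⟩)
    have := oo_commutator_le hG hK (qe_le_oo hEs hq') hx
    rw [show x * q * x⁻¹ * q⁻¹ = (q * x * q⁻¹ * x⁻¹)⁻¹ by group]
    exact inv_mem this
  -- hence `Q_E` would be abelian of exponent `p`
  have hRexp : ∀ a ∈ R, a ^ p = 1 := fun a ha => exponent_ww K a (hRW ha)
  have hdec : ∀ q ∈ QE p E, ∃ a ∈ R, ∃ w ∈ WW p E, a * w = q := fun q hq' => by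
    have := hQsub hq'
    rw [← SetLike.mem_coe, coe_mul_of_left_le_normalizer_right R (WW p E) (fun r hr =>
      mem_normalizer_WW (le_normalizer (pCoreOf_le p E hr.1)))] at this
    exact Set.mem_mul.1 this
  have hle := abelian_le_ww hG hE (QE p E) le_rfl (le_normalizer_pCoreOf p E) (fun u hu v hv => by
      obtain ⟨a, ha, w, hw, rfl⟩ := hdec u hu
      obtain ⟨a', ha', w', hw', rfl⟩ := hdec v hv
      have h1 : Commute a a' := ww_commute (hRW ha) ha'.2
      have h2 : Commute a w' := (ww_commute hw' ha.1).symm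
      have h3 : Commute w a' := ww_commute hw ha'.1
      have h4 : Commute w w' := ww_commute hw (ww_le E hw')
      exact ((h1.mul_right h2).mul_left (h3.mul_right h4)).eq) (fun u hu => by
      obtain ⟨a, ha, w, hw, rfl⟩ := hdec u hu
      rw [(show Commute a w from (ww_commute hw ha.1).symm).mul_pow, hRexp a ha, exponent_ww E w hw, mul_one])
  obtain ⟨u, hu, hu'⟩ := D.exists_not_mem
  exact hu' (hle hu)

end CfsgLib.LocalEven.Baumann
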