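import Cfsg.Agent.Lib.LocalEven.Baumann.CaseB

/-!
Two subnormal blocks of a group of characteristic `p` are equal or commute.
-/

set_option autoImplicit false
set_option linter.unusedSectionVars false

namespace CfsgLib.LocalEven.Baumann

open Subgroup CfsgLib.LocalEven
open scoped commutatorElement

variable {G : Type*} [Group G] [Finite G] {p : ℕ} [Fact p.Prime]

theorem map_WE (e : G ≃* G) (E : Subgroup G) :
    (WE p E).map e.toMonoidHom = WE p (E.map e.toMonoidHom) := by
  show Subgroup.map _ ⁅_, E⁆ = _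
  rw [map_commutator, map_omegaOneCenter, map_pCoreOf p _ e.injective]

theorem isSubnormal_map_conj {E : Subgroup G} (hEs : E.IsSubnormal) (g : G) :
    (E.map (MulAut.conj g).toMonoidHom).IsSubnormal :=
  hEs.map (MulAut.conj g).surjective

variable (hG : centralizer (Cfsg.pCore p G : Set G) ≤ Cfsg.pCore p G)
include hG

/-- Every conjugate of a small block is small. -/
theorem small_map_conj {T : Sylow p G} {E : Subgroup G} (hE : Cfsg.IsBaumannBlock p (T : Subgroup G) E)
    (hEs : E.IsSubnormal) (hES : IsSmall p (T : Subgroup G) E) (g : G) {T' : Sylow p G}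
    (hE' : Cfsg.IsBaumannBlock p (T' : Subgroup G) (E.map (MulAut.conj g).toMonoidHom)) :
    IsSmall p (T' : Subgroup G) (E.map (MulAut.conj g).toMonoidHom) := by
  rcases small_or_perfect hG hE' (isSubnormal_map_conj hEs g) with h | ⟨h, -⟩
  · exact h
  · refine absurd ?_ (not_perfect_of_small hG hE hEs hES)
    rwa [← map_commutator, map_le_map_iff_of_injective (MulAut.conj g).injective] at h

theorem card_sup_of_disjoint {A B : Subgroup G} (hA : A ≤ VV p G) (hB : B ≤ VV p G) (h : A ⊓ B = ⊥) :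
    Nat.card ↥(A ⊔ B) = Nat.card A * Nat.card B := by
  have hn : A ≤ normalizer (B : Set G) := fun a ha => mem_normalizer_iff.2 fun b => ⟨fun hb => by
      rwa [vv_commute (hA ha) (omegaOneCenter_le _ (hB hb)), mul_inv_cancel_right], fun hb => by
      have e : b = a⁻¹ * (a * b * a⁻¹) * a := by group
      rw [e, vv_commute (inv_mem (hA ha)) (omegaOneCenter_le _ (hB hb)), inv_mul_cancel_right]
      exact hb⟩
  let f : A × B → ↥(A ⊔ B) := fun x => ⟨x.1.1 * x.2.1, mul_mem (mem_sup_left x.1.2) (mem_sup_right x.2.2)⟩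
  have hf : Function.Bijective f := by
    refine ⟨?_, fun y => ?_⟩
    · rintro ⟨a, b⟩ ⟨a', b'⟩ he
      have he' : (a : G) * b = a' * b' := congrArg Subtype.val he
      have h1 : (a' : G)⁻¹ * a ∈ A ⊓ B := by
        refine Subgroup.mem_inf.2 ⟨mul_mem (inv_mem a'.2) a.2, ?_⟩
        rw [show (a' : G)⁻¹ * a = (a' : G)⁻¹ * (a * b) * (b : G)⁻¹ by group, he']
        simpa using mul_mem b'.2 (inv_mem b.2)
      rw [h, Subgroup.mem_bot, inv_mul_eq_one] at h1
      rw [h1] at he'
      exact Prod.ext (Subtype.ext h1.symm) (Subtype.ext (mul_left_cancel he'))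
    · have hy := y.2
      rw [← SetLike.mem_coe, coe_mul_of_left_le_normalizer_right A B hn] at hy
      obtain ⟨a, ha, b, hb, hab⟩ := Set.mem_mul.1 hy
      exact ⟨(⟨a, ha⟩, ⟨b, hb⟩), Subtype.ext hab⟩
  rw [← Nat.card_prod, Nat.card_congr (Equiv.ofBijective f hf)]

theorem card_sup_le_mul {A B : Subgroup G} (hA : A ≤ VV p G) (hB : B ≤ VV p G) :
    Nat.card ↥(A ⊔ B) ≤ Nat.card A * Nat.card B ∧
      (Nat.card A * Nat.card B ≤ Nat.card ↥(A ⊔ B) → A ⊓ B = ⊥) := by
  have hn : A ≤ normalizer (B : Set G) := fun a ha => mem_normalizer_iff.2 fun b => ⟨fun hb => by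
      rwa [vv_commute (hA ha) (omegaOneCenter_le _ (hB hb)), mul_inv_cancel_right], fun hb => by
      have e : b = a⁻¹ * (a * b * a⁻¹) * a := by group
      rw [e, vv_commute (inv_mem (hA ha)) (omegaOneCenter_le _ (hB hb)), inv_mul_cancel_right]
      exact hb⟩
  let f : A × B → ↥(A ⊔ B) := fun x => ⟨x.1.1 * x.2.1, mul_mem (mem_sup_left x.1.2) (mem_sup_right x.2.2)⟩
  have hsurj : Function.Surjective f := fun y => by
    have hy := y.2
    rw [← SetLike.mem_coe, coe_mul_of_left_le_normalizer_right A B hn] at hy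
    obtain ⟨a, ha, b, hb, hab⟩ := Set.mem_mul.1 hy
    exact ⟨(⟨a, ha⟩, ⟨b, hb⟩), Subtype.ext hab⟩
  refine ⟨(Nat.card_le_card_of_surjective f hsurj).trans_eq (Nat.card_prod _ _), fun hle => ?_⟩
  have hinj : Function.Injective f := by
    haveI := Fintype.ofFinite (A × B)
    haveI := Fintype.ofFinite ↥(A ⊔ B)
    refine ((Fintype.bijective_iff_surjective_and_card f).2 ⟨hsurj, ?_⟩).1
    rw [← Nat.card_eq_fintype_card, ← Nat.card_eq_fintype_card]
    exact le_antisymm (by rwa [Nat.card_prod]) (Nat.card_le_card_of_surjective f hsurj)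
  rw [eq_bot_iff]
  intro x hx
  have := hinj (a₁ := (⟨x, hx.1⟩, ⟨x⁻¹, inv_mem hx.2⟩)) (a₂ := (1, 1)) (Subtype.ext (by simp [f]))
  exact Subgroup.mem_bot.2 (congrArg Subtype.val (congrArg Prod.fst this))

/-- Induction step: a small block normalizes another one. -/
theorem small_le_normalizer (n : ℕ)
    (IH : ∀ (T T' : Sylow p G) (E K : Subgroup G), Cfsg.IsBaumannBlock p (T : Subgroup G) E →
      Cfsg.IsBaumannBlock p (T' : Subgroup G) K → E.IsSubnormal → K.IsSubnormal →
      IsSmall p (T : Subgroup G) E → IsSmall p (T' : Subgroup G) K →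
      Nat.card ↥(E ⊔ K ⊔ OO p G) < n → E = K ∨ ⁅E, K⁆ = ⊥)
    {T T' : Sylow p G} {E K : Subgroup G} (hE : Cfsg.IsBaumannBlock p (T : Subgroup G) E)
    (hK : Cfsg.IsBaumannBlock p (T' : Subgroup G) K) (hEs : E.IsSubnormal) (hKs : K.IsSubnormal)
    (hES : IsSmall p (T : Subgroup G) E) (hKS : IsSmall p (T' : Subgroup G) K)
    (hn : Nat.card ↥(E ⊔ K ⊔ OO p G) ≤ n) : K ≤ normalizer (E : Set G) := by
  by_contra hcon
  obtain ⟨k₀, hk₀, hk₀N⟩ := SetLike.not_le_iff_exists.1 hcon
  set π := QuotientGroup.mk' (OO p G) with hπ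
  set H := (E ⊔ K).map π with hH
  set r := if p = 2 then 3 else 2 with hr
  haveI : Fact r.Prime := ⟨by rw [hr]; split_ifs <;> norm_num⟩
  have hHp : IsPGroup r ↥H := by
    refine (CfsgLib.Base.isPGroup_pCore r (G ⧸ OO p G)).to_le ?_
    rw [hH, Subgroup.map_sup]
    exact sup_le (small_map_le_pCore hG hE hEs hES) (small_map_le_pCore hG hK hKs hKS)
  haveI := hHp.isNilpotent
  have hEH : E.map π ≤ H := map_mono le_sup_left
  have htop : E.map π ≠ H := by
    intro h
    have h1 : K ≤ E ⊔ OO p G := by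
      have : K.map π ≤ E.map π := h ▸ map_mono le_sup_right
      rwa [map_le_iff_le_comap, comap_map_eq, hπ, QuotientGroup.ker_mk'] at this
    exact hcon (h1.trans (sup_le le_normalizer (oo_le_normalizer hG hE)))
  -- a normal coatom of `H` above `E`
  obtain ⟨N₀, hN₀, hle₀⟩ : ∃ N₀ : Subgroup H, IsCoatom N₀ ∧ (E.map π).subgroupOf H ≤ N₀ := by
    rcases eq_top_or_exists_le_coatom ((E.map π).subgroupOf H) with h | h
    · exact absurd (le_antisymm hEH (subgroupOf_eq_top.1 h)) htop
    · exact h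
  haveI hN₀n : N₀.Normal := NormalizerCondition.normal_of_coatom N₀ normalizerCondition_of_isNilpotent hN₀
  set N := (N₀.map H.subtype).comap π with hN
  have hOON : OO p G ≤ N := fun o ho => by
    rw [hN, mem_comap, show π o = 1 from (QuotientGroup.eq_one_iff o).2 ho]
    exact one_mem _
  have hNlt : N < E ⊔ K ⊔ OO p G := by
    have hA : E ⊔ K ⊔ OO p G = H.comap π := by
      rw [hH, comap_map_eq, hπ, QuotientGroup.ker_mk']
    rw [hA, hN]
    refine comap_lt_comap_of_surjective (QuotientGroup.mk'_surjective _) |>.2 (lt_of_le_of_ne (map_subtype_le _) ?_)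
    intro h
    refine hN₀.1 (eq_top_iff.2 fun x _ => ?_)
    have hx : (x : G ⧸ OO p G) ∈ N₀.map H.subtype := by rw [h]; exact x.2
    obtain ⟨y, hy, hyx⟩ := hx
    rwa [← Subtype.ext hyx]
  have hconjN : ∀ k ∈ K, E.map (MulAut.conj k).toMonoidHom ≤ N := by
    intro k hk
    rintro _ ⟨e, he, rfl⟩
    have h1 : (⟨π e, hEH (mem_map_of_mem π he)⟩ : H) ∈ N₀ := hle₀ (mem_subgroupOf.2 (mem_map_of_mem π he))
    have h2 := hN₀n.conj_mem _ h1 ⟨π k, mem_map_of_mem π (mem_sup_right hk)⟩
    exact ⟨_, h2, by simp [MulAut.conj_apply]⟩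
  have hcard : Nat.card ↥N < n := lt_of_lt_of_le
    (Set.Finite.card_lt_card (Set.toFinite _) (SetLike.coe_ssubset_coe.2 hNlt)) hn
  -- conjugates of `E` under `K`
  have hpair : ∀ k ∈ K, ∀ l ∈ K, E.map (MulAut.conj k).toMonoidHom = E.map (MulAut.conj l).toMonoidHom ∨
      ⁅E.map (MulAut.conj k).toMonoidHom, E.map (MulAut.conj l).toMonoidHom⁆ = ⊥ := by
    intro k hk l hl
    obtain ⟨T₁, -, h1⟩ := exists_block_conj hE k
    obtain ⟨T₂, -, h2⟩ := exists_block_conj hE l
    exact IH T₁ T₂ _ _ h1 h2 (isSubnormal_map_conj hEs k) (isSubnormal_map_conj hEs l)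
      (small_map_conj hG hE hEs hES k h1) (small_map_conj hG hE hEs hES l h2)
      (lt_of_le_of_lt (Subgroup.card_le_of_le (sup_le (sup_le (hconjN k hk) (hconjN l hl)) hOON)) hcard)
  have h1map : E.map (MulAut.conj (1 : G)).toMonoidHom = E := by ext x; simp
  have hcomm : ∀ k ∈ K, k ∉ normalizer (E : Set G) →
      ∀ e ∈ E, ∀ x ∈ E.map (MulAut.conj k).toMonoidHom, e * x = x * e := by
    intro k hk hkN e he x hx
    rcases hpair 1 (one_mem _) k hk with h | h
    · rw [h1map] at h
      exact absurd (mem_normalizer_iff_map_conj_eq.2 h.symm) hkN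
    · rw [h1map] at h
      exact mem_centralizer_iff.1 (commutator_eq_bot_iff_le_centralizer.1 h he) x hx |>.symm
  set W := WE p E with hW
  have hWV : W ≤ VV p G := we_le_vv hG hE
  have hKV : WE p K ≤ VV p G := we_le_vv hG hK
  have hWconj : ∀ k ∈ K, WE p (E.map (MulAut.conj k).toMonoidHom) ≤ W ⊔ WE p K := by
    intro k hk
    rw [← map_WE]
    rintro _ ⟨w, hw, rfl⟩
    have h1 := inv_mem (vv_commutator_mem hG hK (hWV hw) hk)
    show k * w * k⁻¹ ∈ _
    rw [show k * w * k⁻¹ = (w * k * w⁻¹ * k⁻¹)⁻¹ * w by group]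
    exact mul_mem (mem_sup_right h1) (mem_sup_left hw)
  have hcardW : ∀ k ∈ K, Nat.card ↥(WE p (E.map (MulAut.conj k).toMonoidHom)) = p ^ 2 := by
    intro k hk
    rw [← map_WE, card_map_of_injective (MulAut.conj k).injective]
    exact small_card_we hG hE hEs hES
  have hdisj : ∀ k ∈ K, k ∉ normalizer (E : Set G) → W ⊓ WE p (E.map (MulAut.conj k).toMonoidHom) = ⊥ := by
    intro k hk hkN
    rw [eq_bot_iff, ← (small_decomp hG hE hEs hES).1]
    refine fun x hx => ⟨hx.1, mem_centralizer_iff.2 fun e he => ?_⟩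
    exact hcomm k hk hkN e he x (we_le_self _ hx.2)
  have heq : ∀ k ∈ K, k ∉ normalizer (E : Set G) →
      W ⊔ WE p (E.map (MulAut.conj k).toMonoidHom) = W ⊔ WE p K ∧ W ⊓ WE p K = ⊥ := by
    intro k hk hkN
    obtain ⟨T₁, -, hB⟩ := exists_block_conj hE k
    have hV' := we_le_vv hG hB
    have hle : W ⊔ WE p (E.map (MulAut.conj k).toMonoidHom) ≤ W ⊔ WE p K := sup_le le_sup_left (hWconj k hk)
    have hc1 : Nat.card ↥(W ⊔ WE p (E.map (MulAut.conj k).toMonoidHom)) = p ^ 2 * p ^ 2 := by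
      rw [card_sup_of_disjoint hG hWV hV' (hdisj k hk hkN), hW, small_card_we hG hE hEs hES, hcardW k hk]
    have hc2 := card_sup_le_mul hG hWV hKV
    rw [hW, small_card_we hG hE hEs hES, small_card_we hG hK hKs hKS] at hc2
    refine ⟨eq_of_le_of_card_ge hle (hc1 ▸ hc2.1), hc2.2 ?_⟩
    rw [← hc1]
    exact Subgroup.card_le_of_le hle
  -- only two conjugates
  have htwo : ∀ k ∈ K, k ∉ normalizer (E : Set G) → ∀ l ∈ K, l ∉ normalizer (E : Set G) →
      E.map (MulAut.conj k).toMonoidHom = E.map (MulAut.conj l).toMonoidHom := by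
    intro k hk hkN l hl hlN
    rcases hpair k hk l hl with h | h
    · exact h
    exfalso
    obtain ⟨T₁, -, hB⟩ := exists_block_conj hE k
    set Wk := WE p (E.map (MulAut.conj k).toMonoidHom) with hWk
    set Wl := WE p (E.map (MulAut.conj l).toMonoidHom) with hWl
    have h1 : Wl ≤ W ⊔ Wk := by rw [(heq k hk hkN).1]; exact hWconj l hl
    have hn' : W ≤ normalizer (Wk : Set G) := fun a ha => mem_normalizer_iff.2 fun b => ⟨fun hb => by
        rwa [vv_commute (hWV ha) (omegaOneCenter_le _ (we_le_vv hG hB hb)), mul_inv_cancel_right], fun hb => by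
        have e : b = a⁻¹ * (a * b * a⁻¹) * a := by group
        rw [e, vv_commute (inv_mem (hWV ha)) (omegaOneCenter_le _ (we_le_vv hG hB hb)), inv_mul_cancel_right]
        exact hb⟩
    have h2 : Wl ≤ Wk := by
      intro x hx
      have hx' := h1 hx
      rw [← SetLike.mem_coe, coe_mul_of_left_le_normalizer_right W Wk hn'] at hx'
      obtain ⟨w, hw, w', hw', rfl⟩ := Set.mem_mul.1 hx'
      have hwc : w ∈ W ⊓ centralizer (E : Set G) := ⟨hw, mem_centralizer_iff.2 fun e he => by
        have a1 := hcomm l hl hlN e he _ (we_le_self _ hx)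
        have a2 := hcomm k hk hkN e he _ (inv_mem (we_le_self _ hw'))
        calc e * w = e * (w * w') * w'⁻¹ := by group
          _ = w * w' * (e * w'⁻¹) := by rw [a1, mul_assoc]
          _ = w * e := by rw [a2]; group⟩
      rw [hW, (small_decomp hG hE hEs hES).1, Subgroup.mem_bot] at hwc
      rw [hwc, one_mul]
      exact hw'
    obtain ⟨T₂, -, hB₂⟩ := exists_block_conj hE l
    have hs2 := isSubnormal_map_conj hEs l
    have hbot : Wl = ⊥ := by
      rw [eq_bot_iff, ← (small_decomp hG hB₂ hs2 (small_map_conj hG hE hEs hES l hB₂)).1]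
      refine fun x hx => ⟨hx, mem_centralizer_iff.2 fun e he => ?_⟩
      rw [commutator_comm, commutator_eq_bot_iff_le_centralizer] at h
      exact ((mem_centralizer_iff.1 (h he)) x (we_le_self _ (h2 hx))).symm
    have := hcardW l hl
    rw [← hWl, hbot, Subgroup.card_bot] at this
    exact (Nat.one_lt_pow (n := 2) (by norm_num) (Fact.out : p.Prime).one_lt).ne this
  -- the stabilizer is more than `O_p(K)`
  obtain ⟨x, hx, hxN, hxQ⟩ : ∃ x ∈ K, x ∈ normalizer (E : Set G) ∧ x ∉ QE p K := by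
    by_contra hno
    push Not at hno
    obtain ⟨r', j, hr', -, -, -, h2, hcK⟩ := small_prime hG hK hKs hKS
    have hsub : (K : Set G) ⊆ (QE p K : Set G) ∪ (fun y => k₀ * y) '' (QE p K : Set G) := by
      intro k hk
      by_cases hkN : k ∈ normalizer (E : Set G)
      · exact Or.inl (hno k hk hkN)
      · refine Or.inr ⟨k₀⁻¹ * k, hno _ (mul_mem (inv_mem hk₀) hk) ?_, by group⟩
        rw [mem_normalizer_iff_map_conj_eq]
        have := congrArg (Subgroup.map (MulAut.conj k₀⁻¹).toMonoidHom) (htwo k hk hkN k₀ hk₀ hk₀N)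
        rw [Subgroup.map_map, Subgroup.map_map] at this
        refine (?_ : _ = _).trans (this.trans ?_)
        · congr 1; ext y; simp [mul_assoc]
        · ext y; simp [mul_assoc]
    have := Set.ncard_le_ncard hsub (Set.toFinite _)
    have h3 := (this.trans (Set.ncard_union_le _ _)).trans
      (Nat.add_le_add_left (Set.ncard_image_le (Set.toFinite _)) _)
    simp only [← Nat.card_coe_set_eq, SetLike.coe_sort_coe] at h3
    rw [← hcK] at h3
    have hpos := Nat.card_pos (α := QE p K)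
    nlinarith
  -- it centralizes `W_K`
  obtain ⟨T₁, -, hB⟩ := exists_block_conj hE k₀
  set Wk := WE p (E.map (MulAut.conj k₀).toMonoidHom) with hWk
  have hxk : x ∈ normalizer ((E.map (MulAut.conj k₀).toMonoidHom : Subgroup G) : Set G) := by
    rw [mem_normalizer_iff_map_conj_eq]
    have e : (E.map (MulAut.conj k₀).toMonoidHom).map (MulAut.conj x).toMonoidHom =
        E.map (MulAut.conj (x * k₀)).toMonoidHom := by
      rw [Subgroup.map_map]; congr 1; ext y; simp [mul_assoc]
    refine e.trans (htwo _ (mul_mem hx hk₀) (fun hm => hk₀N ?_) _ hk₀ hk₀N)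
    have := mul_mem (inv_mem hxN) hm
    rwa [inv_mul_cancel_left] at this
  have hfix : ∀ (A : Subgroup G), A ≤ VV p G → x ∈ normalizer (A : Set G) → A ⊓ WE p K = ⊥ →
      A ≤ centralizer {x} := by
    intro A hA hxA hAK a ha
    have h1 : a * x * a⁻¹ * x⁻¹ ∈ A ⊓ WE p K := Subgroup.mem_inf.2 ⟨by
      rw [show a * x * a⁻¹ * x⁻¹ = a * (x * a⁻¹ * x⁻¹) by group]
      exact mul_mem ha ((mem_normalizer_iff.1 hxA _).1 (inv_mem ha)), vv_commutator_mem hG hK (hA ha) hx⟩
    rw [hAK, Subgroup.mem_bot, mul_inv_eq_one, mul_inv_eq_iff_eq_mul] at h1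
    exact mem_centralizer_singleton_iff.2 h1
  obtain ⟨hsupk, hWK⟩ := heq k₀ hk₀ hk₀N
  have hWk' : Wk ⊓ WE p K = ⊥ := by
    have h1 : W ⊔ WE p K ≤ Wk ⊔ WE p K := by
      refine sup_le ?_ le_sup_right
      intro w hw
      have h1 := vv_commutator_mem hG hK (hWV hw) hk₀
      have h2 : k₀ * w * k₀⁻¹ ∈ Wk := by rw [hWk, ← map_WE]; exact ⟨w, hw, rfl⟩
      rw [show w = (w * k₀ * w⁻¹ * k₀⁻¹) * (k₀ * w * k₀⁻¹) by group]
      exact mul_mem (mem_sup_right h1) (mem_sup_left h2)
    have hc := card_sup_le_mul hG (we_le_vv hG hB) hKV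
    refine hc.2 (le_trans ?_ (Subgroup.card_le_of_le h1))
    rw [← hsupk, card_sup_of_disjoint hG hWV (we_le_vv hG hB) (hdisj k₀ hk₀ hk₀N), hW,
      small_card_we hG hE hEs hES, small_card_we hG hK hKs hKS, hcardW k₀ hk₀]
  refine hxQ (mem_QE_of_centralizes hG hK hx (mem_centralizer_iff.2 fun w hw => ?_))
  have hle : W ⊔ Wk ≤ centralizer {x} := sup_le (hfix W hWV (mem_normalizer_WE hxN) hWK)
    (hfix Wk (we_le_vv hG hB) (mem_normalizer_WE hxk) hWk')
  rw [hsupk] at hle
  exact mem_centralizer_singleton_iff.1 (hle (mem_sup_right hw))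

/-- Two small subnormal blocks. -/
theorem small_eq_or_commute : ∀ (n : ℕ) (T T' : Sylow p G) (E K : Subgroup G),
    Cfsg.IsBaumannBlock p (T : Subgroup G) E → Cfsg.IsBaumannBlock p (T' : Subgroup G) K → E.IsSubnormal →
    K.IsSubnormal → IsSmall p (T : Subgroup G) E → IsSmall p (T' : Subgroup G) K →
    Nat.card ↥(E ⊔ K ⊔ OO p G) ≤ n → E = K ∨ ⁅E, K⁆ = ⊥ := by
  intro n
  induction n using Nat.strong_induction_on with
  | _ n IH =>
    intro T T' E K hE hK hEs hKs hES hKS hn
    have IH' : ∀ (T T' : Sylow p G) (E K : Subgroup G), Cfsg.IsBaumannBlock p (T : Subgroup G) E →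
      Cfsg.IsBaumannBlock p (T' : Subgroup G) K → E.IsSubnormal → K.IsSubnormal →
      IsSmall p (T : Subgroup G) E → IsSmall p (T' : Subgroup G) K →
      Nat.card ↥(E ⊔ K ⊔ OO p G) < n → E = K ∨ ⁅E, K⁆ = ⊥ :=
      fun T T' E K a b c d e f h => IH _ h T T' E K a b c d e f le_rfl
    have hKN := small_le_normalizer hG n IH' hE hK hEs hKs hES hKS hn
    have hEN := small_le_normalizer hG n IH' hK hE hKs hEs hKS hES (by rwa [sup_comm K E])
    by_cases hc : K ≤ centralizer (WE p E : Set G)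
    · right
      rw [commutator_comm, commutator_eq_bot_iff_le_centralizer]
      exact small_caseA hG hE hK hEs hES hKs hKS hKN hc
    · left
      refine le_antisymm ?_ (small_caseB hG hE hK hEs hES hKs hKS hKN hEN hc)
      by_cases hc' : E ≤ centralizer (WE p K : Set G)
      · refine absurd (fun k hk => mem_centralizer_iff.2 fun w hw => ?_) hc
        exact ((mem_centralizer_iff.1 (small_caseA hG hK hE hKs hKS hEs hES hEN hc' (we_le_self E hw))) k hk).symm
      · exact small_caseB hG hK hE hKs hKS hEs hES hEN hKN hc'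

/-- Two subnormal blocks of a group of characteristic `p` are equal or commute. -/
theorem eq_or_commute {T T' : Sylow p G} {E K : Subgroup G} (hE : Cfsg.IsBaumannBlock p (T : Subgroup G) E)
    (hK : Cfsg.IsBaumannBlock p (T' : Subgroup G) K) (hEs : E.IsSubnormal) (hKs : K.IsSubnormal) :
    E = K ∨ ⁅E, K⁆ = ⊥ := by
  rcases small_or_perfect hG hK hKs with hKS | hKp
  · rcases small_or_perfect hG hE hEs with hES | hEp
    · exact small_eq_or_commute hG _ T T' E K hE hK hEs hKs hES hKS le_rfl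
    · exact (eq_or_commute_of_perfect hG hK hE hKs hEs hEp).imp Eq.symm (fun h => by rwa [commutator_comm])
  · exact eq_or_commute_of_perfect hG hE hK hEs hKs hKp

end CfsgLib.LocalEven.Baumann
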