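import Cfsg.Agent.Lib.LocalEven.Baumann.Pairing
import Cfsg.Agent.Lib.Involutions.ZStar.Main
import Cfsg.Agent.Lib.OddOrder.QuadraticSection
import Cfsg.Agent.Lib.Coprime.Action2
import Cfsg.Agent.Lib.Base.Cores

/-!
In a pairing the distinguished part commutes with `SL₂(F)'`: the involution is isolated,
hence central modulo an odd group, and such a group is centralized.
-/

set_option autoImplicit false
set_option linter.unusedSectionVars false

namespace CfsgLib.LocalEven.Baumann.Pairing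

open Subgroup ThreeSL
open scoped commutatorElement

variable {Γ U A : Type*} {F : Type} [Group Γ] [Finite Γ] [AddCommGroup U] [Finite U] [AddCommGroup A]
  [Field F] [Finite F] [CharP F 3] (P : Pairing Γ U A F)

theorem orderOf_j : orderOf P.j = 2 := by
  refine orderOf_eq_prime (by rw [sq, P.j_mul_self]) fun h => ?_
  have h1 := P.j_f ![1, 0]
  rw [h, P.ρ_one] at h1
  have := congrFun (P.f_inj ((P.eq_zero_of_eq_neg' h1).trans (map_zero P.f).symm)) 0
  simp at this

/-- The odd core of `X`. -/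
def K : Subgroup Γ := (Cfsg.oddCore ↥P.X).map P.X.subtype

theorem K_le : P.K ≤ P.X := map_subtype_le _

theorem K_normal : P.K.Normal := by
  haveI := P.X_normal
  exact ConjAct.normal_of_characteristic_of_normal

theorem K_odd : Odd (Nat.card P.K) := by
  rw [K, ← Nat.card_congr (equivMapOfInjective _ _ P.X.subtype_injective).toEquiv]
  exact CfsgLib.Base.odd_card_oddCore _

/-- By the `Z*`-theorem the involution is central modulo the odd core. -/
theorem comm_mem_K {x : Γ} (hx : x ∈ P.X) : P.j * x * P.j⁻¹ * x⁻¹ ∈ P.K := by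
  haveI := P.X_normal
  have hXn : zpowers P.j ≤ normalizer (P.X : Set Γ) := fun g _ => by
    rw [normalizer_eq_top_iff.2 P.X_normal]; trivial
  obtain ⟨H, hH⟩ : ∃ H, H = P.X ⊔ zpowers P.j := ⟨_, rfl⟩
  have hjH : P.j ∈ H := hH ▸ mem_sup_right (mem_zpowers _)
  have hiso : Cfsg.IsIsolatedInvolution (⟨P.j, hjH⟩ : H) := by
    refine ⟨by rw [← Subgroup.orderOf_coe]; exact P.orderOf_j, ?_⟩
    rintro ⟨g, hg⟩ hc
    have hg' := hH ▸ hg
    rw [← SetLike.mem_coe, coe_mul_of_right_le_normalizer_left P.X (zpowers P.j) hXn] at hg'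
    obtain ⟨y, hy, z, hz, hyz⟩ := Set.mem_mul.1 hg'
    have hzj : z * P.j = P.j * z := by
      obtain ⟨k, rfl⟩ := hz
      exact (Commute.zpow_self P.j k).eq
    have hgj : g * P.j * g⁻¹ = y * P.j * y⁻¹ := by
      rw [← hyz, show y * z * P.j * (y * z)⁻¹ = y * (z * P.j * z⁻¹) * y⁻¹ by group, hzj, mul_inv_cancel_right]
    have hc' : P.j * (g * P.j * g⁻¹) = g * P.j * g⁻¹ * P.j := congrArg Subtype.val hc.eq
    rw [hgj] at hc'
    have heq : P.ρ (y * P.j * y⁻¹) = P.ρ P.j := P.eq_of_commute (P.innerTwist hy) fun u => by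
      show P.ρ P.j (P.ρ (y * P.j * y⁻¹) u) = P.ρ (y * P.j * y⁻¹) (P.ρ P.j u)
      rw [← P.ρ_mul, hc', P.ρ_mul]
    apply Subtype.ext
    show g * P.j * g⁻¹ = P.j
    rw [hgj, ← mul_inv_eq_one]
    refine P.faithful _ ?_ (by rw [map_mul, heq, ← map_mul, mul_inv_cancel, map_one])
    rw [show y * P.j * y⁻¹ * P.j⁻¹ = y * (P.j * y⁻¹ * P.j⁻¹) by group]
    exact mul_mem hy (P.X_normal.conj_mem _ (inv_mem hy) _)
  have hxH : x ∈ H := hH ▸ mem_sup_left hx
  have h1 := CfsgLib.Involutions.ZStar.centralModCore hiso ⟨x, hxH⟩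
  have hXH : P.X ≤ H := hH ▸ le_sup_left
  obtain ⟨M, hM⟩ : ∃ M, M = (Cfsg.oddCore ↥H).map H.subtype ⊓ P.X := ⟨_, rfl⟩
  have hMn : (M.subgroupOf P.X).Normal := by
    refine ⟨fun m hm y => mem_subgroupOf.2 ?_⟩
    have hm' : (m : Γ) ∈ M := hm
    rw [hM] at hm' ⊢
    refine mem_inf.2 ⟨?_, (y * m * y⁻¹).2⟩
    obtain ⟨m₀, hm₀, e⟩ := hm'.1
    refine ⟨⟨(y : Γ), hXH y.2⟩ * m₀ * (⟨(y : Γ), hXH y.2⟩)⁻¹,
      (inferInstance : (Cfsg.oddCore ↥H).Normal).conj_mem _ hm₀ _, ?_⟩
    show (y : Γ) * (m₀ : Γ) * (y : Γ)⁻¹ = (y : Γ) * m * (y : Γ)⁻¹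
    rw [← e]; rfl
  have hMX : M ≤ P.X := hM ▸ inf_le_right
  have hodd : Odd (Nat.card (M.subgroupOf P.X)) := by
    rw [Nat.card_congr (subgroupOfEquivOfLe hMX).toEquiv]
    refine Odd.of_dvd_nat ?_ (card_dvd_of_le (hM ▸ inf_le_left))
    rw [← Nat.card_congr (equivMapOfInjective _ _ H.subtype_injective).toEquiv]
    exact CfsgLib.Base.odd_card_oddCore _
  haveI := hMn
  have hy : P.j * x * P.j⁻¹ * x⁻¹ ∈ P.X := mul_mem (P.X_normal.conj_mem x hx _) (inv_mem hx)
  have hyM : P.j * x * P.j⁻¹ * x⁻¹ ∈ M := hM ▸ mem_inf.2 ⟨⟨_, h1, rfl⟩, hy⟩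
  exact ⟨⟨_, hy⟩, CfsgLib.Base.le_oddCore hodd hyM, rfl⟩

/-- `ρ` by automorphisms. -/
def aut : Γ →* MulAut (Multiplicative U) where
  toFun g := AddEquiv.toMultiplicative
    { toFun := P.ρ g, invFun := P.ρ g⁻¹, left_inv := P.inv_ρ g, right_inv := P.ρ_inv g,
      map_add' := fun a b => map_add (P.ρ g) a b }
  map_one' := MulEquiv.ext fun u => congrArg Multiplicative.ofAdd (P.ρ_one (Multiplicative.toAdd u))
  map_mul' g h := MulEquiv.ext fun u => congrArg Multiplicative.ofAdd (P.ρ_mul g h (Multiplicative.toAdd u))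

/-- No nontrivial quadratic element in the odd core. -/
theorem eq_one_of_quadratic {a : Γ} (ha : a ∈ P.K) (hq : (P.ρ a - 1) * (P.ρ a - 1) = 0) : a = 1 := by
  haveI : Fact (Nat.Prime 3) := ⟨by norm_num⟩
  haveI : Finite (Multiplicative U) := Finite.of_equiv U Multiplicative.ofAdd
  let φ : ↥P.K →* MulAut (Multiplicative U) := P.aut.comp P.K.subtype
  haveI : Finite (Multiplicative U ⋊[φ] ↥P.K) := Finite.of_equiv _ SemidirectProduct.equivProd.symm
  let inl : Multiplicative U →* Multiplicative U ⋊[φ] ↥P.K := SemidirectProduct.inl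
  let inr : ↥P.K →* Multiplicative U ⋊[φ] ↥P.K := SemidirectProduct.inr
  have haut : ∀ (k : ↥P.K) (u : Multiplicative U),
      φ k u = Multiplicative.ofAdd (P.ρ k (Multiplicative.toAdd u)) := fun _ _ => rfl
  have hconj : ∀ (k : ↥P.K) (u : Multiplicative U), inl (φ k u) = inr k * inl u * (inr k)⁻¹ := fun k u => by
    rw [show inl (φ k u) = inr k * inl u * inr k⁻¹ from SemidirectProduct.inl_aut k u, map_inv]
  have hcomm : ∀ a b : Multiplicative U, a * b = b * a := fun a b => mul_comm a b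
  have hVe : Cfsg.IsElementaryAbelian 3 inl.range := by
    refine ⟨⟨⟨fun a b => ?_⟩⟩, ?_⟩
    · obtain ⟨a, u, rfl⟩ := a
      obtain ⟨b, v, rfl⟩ := b
      exact Subtype.ext (by show inl u * inl v = inl v * inl u; rw [← map_mul, hcomm, map_mul])
    · rintro _ ⟨u, rfl⟩
      rw [← map_pow, show u ^ 3 = 1 from Multiplicative.toAdd.injective (by
        rw [toAdd_pow, toAdd_one, succ_nsmul, two_nsmul]; exact P.three _), map_one]
  have hHV : inr.range ≤ normalizer (inl.range : Set _) := by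
    rintro _ ⟨k, rfl⟩
    refine mem_normalizer_iff_map_conj_eq.2 (eq_of_le_of_card_ge ?_
      (Nat.card_congr (equivMapOfInjective _ _ (MulAut.conj (inr k)).injective).toEquiv).le)
    rintro _ ⟨_, ⟨u, rfl⟩, rfl⟩
    exact ⟨φ k u, hconj k u⟩
  have hf : inr.range ⊓ centralizer (inl.range : Set _) = ⊥ := by
    rw [eq_bot_iff]
    rintro _ ⟨⟨k, rfl⟩, hk⟩
    rw [Subgroup.mem_bot, show k = 1 from Subtype.ext (P.faithful _ (P.K_le k.2)
      (DFunLike.ext _ _ fun u => ?_)), map_one]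
    have h1 := hconj k (Multiplicative.ofAdd u)
    rw [← (mem_centralizer_iff.1 hk) _ ⟨_, rfl⟩, mul_inv_cancel_right] at h1
    have h2 := congrArg Multiplicative.toAdd (SemidirectProduct.inl_injective h1)
    rw [haut] at h2
    simpa using h2
  have hA : ∀ u, P.ρ a (P.ρ a u - u) = P.ρ a u - u := fun u => sub_eq_zero.1 (DFunLike.congr_fun hq u)
  have hpow : ∀ (m : ℕ) (u : U), P.ρ (a ^ m) u = u + m • (P.ρ a u - u) := fun m => by
    induction m with
    | zero => intro u; rw [pow_zero, P.ρ_one, zero_nsmul, add_zero]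
    | succ m ih =>
      intro u
      rw [pow_succ', P.ρ_mul, ih, map_add, map_nsmul, hA, succ_nsmul', ← add_assoc, add_sub_cancel]
  have hzp : ∀ g ∈ zpowers (inr ⟨a, ha⟩), ∃ m : ℕ, g = inr (⟨a, ha⟩ ^ m) := fun g hg => by
    obtain ⟨m, rfl⟩ := mem_powers_iff_mem_zpowers.2 hg
    exact ⟨m, (map_pow inr ⟨a, ha⟩ m).symm⟩
  have hquad : ⁅⁅inl.range, zpowers (inr ⟨a, ha⟩)⁆, zpowers (inr ⟨a, ha⟩)⁆ = ⊥ := by
    let Y : AddSubgroup U :=
      { carrier := {u | P.ρ a u = u}
        zero_mem' := map_zero _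
        add_mem' := fun {x y} hx hy => by
          show P.ρ a (x + y) = x + y
          rw [map_add, hx, hy]
        neg_mem' := fun {x} hx => by
          show P.ρ a (-x) = -x
          rw [map_neg, hx] }
    let Yb : Subgroup (Multiplicative U) := AddSubgroup.toSubgroup Y
    have h1 : ⁅inl.range, zpowers (inr ⟨a, ha⟩)⁆ ≤ Yb.map inl := by
      rw [commutator_le]
      rintro _ ⟨u, rfl⟩ g hg
      obtain ⟨m, rfl⟩ := hzp g hg
      refine ⟨u * (φ (⟨a, ha⟩ ^ m) u)⁻¹, ?_, ?_⟩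
      · show P.ρ a _ = _
        have e : Multiplicative.toAdd (u * (φ (⟨a, ha⟩ ^ m) u)⁻¹)
            = -(m • (P.ρ a (Multiplicative.toAdd u) - Multiplicative.toAdd u)) := by
          rw [toAdd_mul, toAdd_inv, haut, toAdd_ofAdd, SubmonoidClass.coe_pow, hpow, neg_add, add_neg_cancel_left]
        erw [e]
        rw [map_neg, map_nsmul, hA]
      · rw [map_mul, map_inv, hconj, commutatorElement_def]
        group
    rw [eq_bot_iff]
    refine (commutator_mono h1 le_rfl).trans (commutator_le.2 ?_)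
    rintro _ ⟨y, hy, rfl⟩ g hg
    obtain ⟨m, rfl⟩ := hzp g hg
    have hy' : P.ρ a (Multiplicative.toAdd y) = Multiplicative.toAdd y := hy
    have hfix : φ (⟨a, ha⟩ ^ m) y = y := Multiplicative.toAdd.injective (by
      rw [haut, toAdd_ofAdd, SubmonoidClass.coe_pow, hpow, hy', sub_self, smul_zero, add_zero])
    rw [Subgroup.mem_bot, commutatorElement_eq_one_iff_mul_comm]
    have := hconj (⟨a, ha⟩ ^ m) y
    rw [hfix, eq_mul_inv_iff_mul_eq] at this
    exact this
  by_contra ha1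
  have hodd : Odd (Nat.card inr.range) := by
    rw [← Nat.card_congr (MonoidHom.ofInjective SemidirectProduct.inr_injective).toEquiv]
    exact P.K_odd
  obtain ⟨T⟩ := (inferInstance : Nonempty (Sylow 2 inr.range))
  refine CfsgLib.OddOrder.InvolvesSL2.sylow_two_nonabelian (by norm_num : (3 : ℕ) ≠ 2)
    (CfsgLib.OddOrder.exists_involves (by norm_num : (3 : ℕ) ≠ 2) hVe hHV hf ⟨⟨a, ha⟩, rfl⟩ hquad ?_) T ?_
  · intro hmem
    apply ha1
    have hN : (Cfsg.pCore 3 ↥P.K).map P.K.subtype = ⊥ := by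
      refine P.pcore _ ?_ ((map_subtype_le _).trans P.K_le) ((CfsgLib.Base.isPGroup_pCore 3 _).map _)
      haveI := P.K_normal
      exact ConjAct.normal_of_characteristic_of_normal
    obtain ⟨⟨_, ⟨k, rfl⟩⟩, hk, hk'⟩ := hmem
    have hka : k = ⟨a, ha⟩ := SemidirectProduct.inr_injective hk'
    have hmap := CfsgLib.Base.map_pCore_mulEquiv (p := 3)
      (MonoidHom.ofInjective (SemidirectProduct.inr_injective (φ := φ)))
    rw [SetLike.mem_coe, ← hmap] at hk
    obtain ⟨k', hk1, hk2⟩ := hk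
    have hkk : k' = k := SemidirectProduct.inr_injective (congrArg Subtype.val hk2)
    have : (k' : Γ) ∈ (Cfsg.pCore 3 ↥P.K).map P.K.subtype := ⟨k', hk1, rfl⟩
    rw [hN, Subgroup.mem_bot, hkk, hka] at this
    exact this
  · have : Subsingleton T := by
      refine (Nat.card_eq_one_iff_unique.1 ?_).1
      obtain ⟨n, hn⟩ := IsPGroup.iff_card.1 T.2
      rcases Nat.eq_zero_or_pos n with rfl | hpos
      · simpa using hn
      · refine absurd ?_ (Nat.not_even_iff_odd.2 (hodd.of_dvd_nat (card_subgroup_dvd_card (T : Subgroup inr.range))))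
        rw [hn]
        exact (Nat.even_pow' hpos.ne').2 even_two
    exact ⟨⟨fun x y => Subsingleton.elim _ _⟩⟩

/-- The images of the quaternion generators. -/
def Q₈ : Subgroup Γ := (quat F).map P.ψ

theorem j_comm_Q₈ {g : Γ} (hg : g ∈ P.Q₈) : P.j * g = g * P.j := by
  obtain ⟨r, -, rfl⟩ := hg
  exact P.j_ψ r

theorem centralizer_j_normalized {k : Γ} (hk : k ∈ P.K) (hc : P.j * k = k * P.j)
    (r : ↥(commutator (Matrix.SpecialLinearGroup (Fin 2) F))) :
    P.ψ r * k * (P.ψ r)⁻¹ ∈ P.K ⊓ centralizer {P.j} := by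
  refine mem_inf.2 ⟨P.K_normal.conj_mem k hk _, mem_centralizer_singleton_iff.2 ?_⟩
  have hr : P.j * (P.ψ r)⁻¹ = (P.ψ r)⁻¹ * P.j := by rw [← map_inv]; exact P.j_ψ _
  calc P.ψ r * k * (P.ψ r)⁻¹ * P.j = P.ψ r * (k * P.j) * (P.ψ r)⁻¹ := by
        rw [mul_assoc _ _ P.j, ← hr]; group
    _ = P.j * (P.ψ r * k * (P.ψ r)⁻¹) := by rw [← hc, ← mul_assoc, ← P.j_ψ]; group

/-- The odd core's part commuting with the involution fixes the plane. -/
theorem fix_plane {c : Γ} (hc : c ∈ P.K) (hcj : P.j * c = c * P.j) (x : Fin 2 → F) :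
    P.ρ c (P.f x) = P.f x := by
  rcases P.plane_group (P.K ⊓ centralizer {P.j})
    (fun k hk => (mem_centralizer_singleton_iff.1 hk.2).symm)
    (fun r k hk => P.centralizer_j_normalized hk.1 (mem_centralizer_singleton_iff.1 hk.2).symm r) with h | ⟨k, hk, h⟩
  · exact h c (mem_inf.2 ⟨hc, mem_centralizer_singleton_iff.2 hcj.symm⟩) x
  exfalso
  have hodd : Odd (orderOf k) := by
    refine Odd.of_dvd_nat P.K_odd ?_
    rw [show orderOf k = orderOf (⟨k, hk.1⟩ : P.K) from (Subgroup.orderOf_mk _ _).symm]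
    exact orderOf_dvd_natCard _
  have hit : ∀ m : ℕ, P.ρ (k ^ m) (P.f ![1, 0]) = ((-1 : ℤ) ^ m) • P.f ![1, 0] := fun m => by
    induction m with
    | zero => rw [pow_zero, P.ρ_one, pow_zero, one_zsmul]
    | succ m ih => rw [pow_succ', P.ρ_mul, ih, map_zsmul, h, pow_succ, mul_smul, neg_one_zsmul]
  have h1 := hit (orderOf k)
  rw [pow_orderOf_eq_one, P.ρ_one, hodd.neg_one_pow, neg_one_zsmul] at h1
  have := congrFun (P.f_inj ((P.eq_zero_of_eq_neg' h1).trans (map_zero P.f).symm)) 0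
  simp at this

/-- An invariant subgroup of the odd core of order a power of a prime other than three is centralized. -/
theorem le_centralizer_of_pGroup {r : ℕ} [hr : Fact r.Prime] (hr3 : r ≠ 3) :
    ∀ (m : ℕ) (R : Subgroup Γ), Nat.card R ≤ m → R ≤ P.K → IsPGroup r R →
      P.Q₈ ≤ normalizer (R : Set Γ) → R ≤ centralizer {P.j} := by
  intro m
  induction m with
  | zero => exact fun R h => absurd h (by have : 0 < Nat.card R := Nat.card_pos; omega)
  | succ m ih =>
    intro R hcard hRK hRr hAR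
    by_contra hnc
    have hlt : ∀ S : Subgroup Γ, S < R → P.Q₈ ≤ normalizer (S : Set Γ) → S ≤ centralizer {P.j} := by
      intro S hS hAS
      refine ih S ?_ (hS.le.trans hRK) (hRr.to_le hS.le) hAS
      have : Nat.card S < Nat.card R := Set.Finite.card_lt_card (Set.toFinite _) (SetLike.coe_ssubset_coe.2 hS)
      omega
    have hjA : P.j ∈ P.Q₈ := ⟨nR F, by
      rw [show nR F = wR F * wR F from Subtype.ext (wM_sq (F := F)).symm]
      exact mem_sup_left (mul_mem (mem_zpowers _) (mem_zpowers _)), rfl⟩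
    have hjR : zpowers P.j ≤ normalizer (R : Set Γ) := zpowers_le.2 (hAR hjA)
    have hcop : (Nat.card (zpowers P.j)).Coprime (Nat.card R) := by
      rw [Nat.card_zpowers, P.orderOf_j]
      exact Nat.coprime_two_left.2 (P.K_odd.of_dvd_nat (card_dvd_of_le hRK))
    have hsol : Group.IsSolvable ↥(zpowers P.j) ∨ Group.IsSolvable R := by
      left
      infer_instance
    have hDR : ⁅R, zpowers P.j⁆ ≤ R := CfsgLib.Coprime.commutator_le_of_le_normalizer hjR
    have hAj : P.Q₈ ≤ normalizer (zpowers P.j : Set Γ) :=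
      le_trans (fun g hg => mem_centralizer_iff.2 (by
        rintro _ ⟨k, rfl⟩
        exact ((Commute.zpow_right (show Commute g P.j from (P.j_comm_Q₈ hg).symm) k).symm).eq))
        (centralizer_le_normalizer _)
    have hDA : P.Q₈ ≤ normalizer ((⁅R, zpowers P.j⁆ : Subgroup Γ) : Set Γ) := fun g hg =>
      mem_normalizer_commutator (hAR hg) (hAj hg)
    have hD : ⁅R, zpowers P.j⁆ = R := by
      by_contra hne
      refine hnc ?_
      have h1 := hlt _ (lt_of_le_of_ne hDR hne) hDA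
      have h2 : ⁅R, zpowers P.j⁆ = ⊥ := by
        rw [← CfsgLib.Coprime.commutator_commutator_eq hjR hcop hsol, commutator_eq_bot_iff_le_centralizer,
          zpowers_eq_closure, centralizer_closure, ← zpowers_eq_closure]
        exact h1
      rwa [commutator_eq_bot_iff_le_centralizer, zpowers_eq_closure, centralizer_closure] at h2
    have hRne : Nontrivial R := (nontrivial_iff_ne_bot R).2 fun h => hnc (h ▸ bot_le)
    haveI : Group.IsNilpotent R := hRr.isNilpotent
    have hder : ⁅R, R⁆ < R := by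
      have h1 := Group.IsSolvable.commutator_lt_top_of_nontrivial R
      have h2 : ⁅R, R⁆ = (commutator R).map R.subtype := (map_subtype_commutator R).symm
      rw [h2]
      refine lt_of_le_of_ne (map_subtype_le _) fun h => h1.ne ?_
      exact map_injective R.subtype_injective (by rw [h, ← MonoidHom.range_eq_map, range_subtype])
    have hderj := hlt _ hder fun g hg => mem_normalizer_commutator (hAR hg) (hAR hg)
    obtain ⟨M₀, hM₀def⟩ : ∃ M₀, M₀ = AddSubgroup.closure {v | ∃ c ∈ ⁅R, R⁆, ∃ u, v = P.ρ c u - u} :=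
      ⟨_, rfl⟩
    have hderK : ∀ {c}, c ∈ ⁅R, R⁆ → c ∈ P.K := fun hc => hRK (hder.le hc)
    have hderfix : ∀ {c}, c ∈ ⁅R, R⁆ → ∀ x, P.ρ c (P.f x) = P.f x := fun hc x =>
      P.fix_plane (hderK hc) (mem_centralizer_singleton_iff.1 (hderj hc)).symm x
    have hJM : ∀ v ∈ M₀, P.ρ P.j v = v := by
      intro v hv
      rw [hM₀def] at hv
      induction hv using AddSubgroup.closure_induction with
      | mem v hv =>
        obtain ⟨c, hc, u, rfl⟩ := hv
        refine P.fixed_of_perp fun x => ?_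
        rw [map_sub, show P.β (P.f x) (P.ρ c u) = P.β (P.f x) u by
          conv_lhs => rw [← hderfix hc x]
          rw [P.iso], sub_self]
      | zero => exact map_zero _
      | add x y _ _ hx hy => rw [map_add, hx, hy]
      | neg x _ hx => rw [map_neg, hx]
    have hkM : ∀ k ∈ R, ∀ v ∈ M₀, P.ρ k v ∈ M₀ := by
      intro k hk v hv
      rw [hM₀def] at hv
      induction hv using AddSubgroup.closure_induction with
      | mem v hv =>
        obtain ⟨c, hc, u, rfl⟩ := hv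
        rw [hM₀def]
        refine AddSubgroup.subset_closure ⟨k * c * k⁻¹, ?_, P.ρ k u, ?_⟩
        · exact (mem_normalizer_iff.1 (mem_normalizer_commutator (le_normalizer hk) (le_normalizer hk)) c).1 hc
        · rw [map_sub, ← P.ρ_mul (k * c * k⁻¹) k, inv_mul_cancel_right, P.ρ_mul]
      | zero => rw [map_zero]; exact zero_mem _
      | add x y _ _ hx hy => rw [map_add]; exact add_mem hx hy
      | neg x _ hx => rw [map_neg]; exact neg_mem hx
    have hJi : ∀ (i : ℤ) (v : U), v ∈ M₀ → P.ρ (P.j ^ i) v = v := fun i v hv => by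
      obtain ⟨k, hk⟩ : ∃ k : ℕ, P.j ^ i = P.j ^ k := by
        obtain ⟨k, hk⟩ := mem_powers_iff_mem_zpowers.2 (zpow_mem (mem_zpowers P.j) i)
        exact ⟨k, hk.symm⟩
      rw [hk]
      clear hk
      induction k with
      | zero => rw [pow_zero, P.ρ_one]
      | succ k ih' => rw [pow_succ, P.ρ_mul, hJM v hv, ih']
    let W₀ : Subgroup Γ :=
      { carrier := {g | ∀ v ∈ M₀, P.ρ g v = v}
        one_mem' := fun v _ => P.ρ_one v
        mul_mem' := fun {a b} ha hb v hv => by rw [P.ρ_mul, hb v hv, ha v hv]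
        inv_mem' := fun {a} ha v hv => by nth_rewrite 1 [← ha v hv]; rw [P.inv_ρ] }
    have hRW : R ≤ W₀ := by
      rw [← hD, commutator_le]
      rintro k hk _ ⟨i, rfl⟩ v hv
      rw [commutatorElement_def, ← zpow_neg, P.ρ_mul, hJi _ _ hv, P.ρ_mul, P.ρ_mul,
        hJi _ _ (hkM _ (inv_mem hk) v hv), P.ρ_inv]
    have hab : ∀ c ∈ ⁅R, R⁆, c = 1 := by
      intro c hc
      refine P.faithful c (P.K_le (hderK hc)) (DFunLike.ext _ _ fun u => ?_)
      obtain ⟨v, hv⟩ : ∃ v, v = P.ρ c u - u := ⟨_, rfl⟩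
      have hcv : P.ρ c v = v := hRW (hder.le hc) v (by
        rw [hM₀def, hv]; exact AddSubgroup.subset_closure ⟨c, hc, u, rfl⟩)
      have hk : ∀ k : ℕ, P.ρ (c ^ k) u = u + k • v := fun k => by
        induction k with
        | zero => rw [pow_zero, P.ρ_one, zero_nsmul, add_zero]
        | succ k ih' =>
          rw [pow_succ', P.ρ_mul, ih', map_add, map_nsmul, hcv, succ_nsmul', ← add_assoc, hv, add_sub_cancel]
      obtain ⟨e, he⟩ := hRr ⟨c, hder.le hc⟩
      have he' := hk (r ^ e)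
      rw [show c ^ r ^ e = 1 by simpa using congrArg Subtype.val he, P.ρ_one, left_eq_add] at he'
      have hv0 : v = 0 := by
        rw [← AddMonoid.addOrderOf_eq_one_iff]
        refine Nat.eq_one_of_dvd_coprimes (Nat.Coprime.pow_left e ((Nat.coprime_primes hr.out Nat.prime_three).2 hr3))
          (addOrderOf_dvd_of_nsmul_eq_zero he') (addOrderOf_dvd_of_nsmul_eq_zero ?_)
        rw [succ_nsmul, two_nsmul]; exact P.three v
      show P.ρ c u = u
      exact sub_eq_zero.1 (hv.symm.trans hv0)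
    haveI hRab : IsMulCommutative R := ⟨⟨fun a b => Subtype.ext (commutatorElement_eq_one_iff_mul_comm.1
      (hab _ (commutator_mem_commutator a.2 b.2)))⟩⟩
    -- the involution inverts
    have hinv : ∀ k ∈ R, P.j * k * P.j⁻¹ = k⁻¹ := by
      intro k hk
      have h := CfsgLib.Coprime.centralizer_inf_commutator_eq_bot hjR hcop
      rw [hD, inf_eq_left.2 inf_le_left] at h
      have hk' : P.j * k * P.j⁻¹ ∈ R := (mem_normalizer_iff.1 (hjR (mem_zpowers _)) k).1 hk
      have hw : k * (P.j * k * P.j⁻¹) ∈ R ⊓ centralizer (zpowers P.j : Set Γ) := by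
        refine mem_inf.2 ⟨mul_mem hk hk', ?_⟩
        rw [zpowers_eq_closure, centralizer_closure]
        refine mem_centralizer_singleton_iff.2 ?_
        have e : k * (P.j * k * P.j⁻¹) = P.j * k * P.j⁻¹ * k :=
          commutatorElement_eq_one_iff_mul_comm.1 (hab _ (commutator_mem_commutator hk hk'))
        rw [P.j_inv] at e ⊢
        calc k * (P.j * k * P.j) * P.j = k * (P.j * k * (P.j * P.j)) := by group
          _ = k * P.j * k := by rw [P.j_mul_self, mul_one, mul_assoc]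
          _ = (P.j * P.j) * k * P.j * k := by rw [P.j_mul_self, one_mul]
          _ = P.j * (P.j * k * P.j * k) := by simp only [mul_assoc]
          _ = P.j * (k * (P.j * k * P.j)) := by rw [e]
      rw [h, Subgroup.mem_bot] at hw
      exact (inv_eq_of_mul_eq_one_right hw).symm
    have hr2 : r ≠ 2 := fun h2 => by
      obtain ⟨n, hn⟩ := IsPGroup.iff_card.1 hRr
      have := P.K_odd.of_dvd_nat (card_dvd_of_le hRK)
      rw [hn, h2] at this
      rcases Nat.eq_zero_or_pos n with rfl | hpos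
      · rw [pow_zero] at hn
        exact absurd hn (by have := Finite.one_lt_card (α := R); omega)
      · exact Nat.not_even_iff_odd.2 this ((Nat.even_pow' hpos.ne').2 even_two)
    have hr6 : r.Coprime 6 :=
      Nat.Coprime.mul_right ((Nat.coprime_primes hr.out Nat.prime_two).2 hr2)
        ((Nat.coprime_primes hr.out Nat.prime_three).2 hr3)
    -- exponent `r`
    let S : Subgroup Γ :=
      { carrier := {k | k ∈ R ∧ k ^ r = 1}
        one_mem' := ⟨one_mem _, one_pow _⟩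
        mul_mem' := fun {a b} ha hb => ⟨mul_mem ha.1 hb.1, by
          rw [(show Commute a b from commutatorElement_eq_one_iff_mul_comm.1
            (hab _ (commutator_mem_commutator ha.1 hb.1))).mul_pow, ha.2, hb.2, one_mul]⟩
        inv_mem' := fun {a} ha => ⟨inv_mem ha.1, by rw [inv_pow, ha.2, inv_one]⟩ }
    have hexp : ∀ k ∈ R, k ^ r = 1 := by
      intro k hk
      have hSR : S ≤ R := fun _ h => h.1
      rcases hSR.eq_or_lt with h | h
      · exact (h.ge hk).2
      exfalso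
      have hSA : P.Q₈ ≤ normalizer (S : Set Γ) := fun g hg => mem_normalizer_iff_map_conj_eq.2
        (eq_of_le_of_card_ge (by
          rintro _ ⟨k, hk, rfl⟩
          exact ⟨(mem_normalizer_iff.1 (hAR hg) k).1 hk.1, by
            show (g * k * g⁻¹) ^ r = 1
            rw [conj_pow, hk.2, mul_one, mul_inv_cancel]⟩)
          (Nat.card_congr (equivMapOfInjective _ _ (MulAut.conj g).injective).toEquiv).le)
      have hScen := hlt S h hSA
      obtain ⟨z, hz⟩ := exists_prime_orderOf_dvd_card' (G := R) r (by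
        obtain ⟨n, hn⟩ := IsPGroup.iff_card.1 hRr
        rw [hn]
        refine dvd_pow_self r fun h0 => ?_
        rw [h0, pow_zero] at hn
        exact absurd hn (by have := Finite.one_lt_card (α := R); omega))
      have hzS : (z : Γ) ∈ S := ⟨z.2, by
        rw [← hz, ← SubmonoidClass.coe_pow, pow_orderOf_eq_one, OneMemClass.coe_one]⟩
      have h1 := hinv z z.2
      rw [(mem_centralizer_singleton_iff.1 (hScen hzS)).symm, mul_inv_cancel_right] at h1
      have h2 : z * z = 1 := Subtype.ext (by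
        show (z : Γ) * z = 1
        nth_rewrite 1 [h1]
        rw [inv_mul_cancel])
      have h3 : orderOf z ∣ 2 := orderOf_dvd_of_pow_eq_one (by rw [sq, h2])
      rw [hz] at h3
      exact hr2 ((Nat.prime_dvd_prime_iff_eq hr.out Nat.prime_two).1 h3)
    obtain ⟨y₂, hy₂, hne⟩ := R.bot_or_exists_ne_one.resolve_left fun h => hnc (h ▸ bot_le)
    by_cases hcyc : R ≤ zpowers y₂
    · refine hnc fun y hy => mem_centralizer_singleton_iff.2 ?_
      have hw : P.ψ (wR F) ∈ P.Q₈ := ⟨_, mem_sup_left (mem_zpowers _), rfl⟩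
      have hv : P.ψ (vR F) ∈ P.Q₈ := ⟨_, mem_sup_right (mem_zpowers _), rfl⟩
      have hzp : ∀ g ∈ P.Q₈, ∃ i : ℤ, g * y₂ * g⁻¹ = y₂ ^ i := fun g hg => by
        obtain ⟨i, hi⟩ := hcyc ((mem_normalizer_iff.1 (hAR hg) y₂).1 hy₂)
        exact ⟨i, hi.symm⟩
      obtain ⟨i, hi⟩ := hzp _ hw
      obtain ⟨l, hl⟩ := hzp _ hv
      obtain ⟨w, hwdef⟩ : ∃ w, w = P.ψ (wR F) := ⟨_, rfl⟩
      obtain ⟨v, hvdef⟩ : ∃ v, v = P.ψ (vR F) := ⟨_, rfl⟩
      rw [← hwdef] at hi
      rw [← hvdef] at hl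
      have hcommy : w * v * y₂ * (w * v)⁻¹ = v * w * y₂ * (v * w)⁻¹ := by
        calc w * v * y₂ * (w * v)⁻¹ = w * (v * y₂ * v⁻¹) * w⁻¹ := by group
          _ = (y₂ ^ i) ^ l := by rw [hl, ← conj_zpow, hi]
          _ = (y₂ ^ l) ^ i := by rw [← zpow_mul, ← zpow_mul, mul_comm]
          _ = v * (w * y₂ * w⁻¹) * v⁻¹ := by rw [hi, ← conj_zpow, hl]
          _ = _ := by group
      have hwv : w * v = P.j * (v * w) := by
        rw [hwdef, hvdef, j, ← map_mul, ← map_mul, ← map_mul]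
        congr 1
        exact Subtype.ext (wM_vM (F := F))
      obtain ⟨y₀, hy₀, hy₀'⟩ : ∃ y₀ ∈ R, v * w * y₀ * (v * w)⁻¹ = y := by
        refine ⟨(v * w)⁻¹ * y * (v * w), ?_, by group⟩
        have := (mem_normalizer_iff.1 (hAR (inv_mem (mul_mem (hvdef ▸ hv) (hwdef ▸ hw)))) y).1 hy
        simpa using this
      obtain ⟨k, rfl⟩ := hcyc hy₀
      have h1 := congrArg (· ^ k) hcommy
      simp only [conj_zpow] at h1
      rw [hy₀', hwv, show P.j * (v * w) * y₂ ^ k * (P.j * (v * w))⁻¹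
        = P.j * (v * w * y₂ ^ k * (v * w)⁻¹) * P.j⁻¹ by group, hy₀', mul_inv_eq_iff_eq_mul] at h1
      exact h1.symm
    · obtain ⟨y₁, hy₁, hy₁'⟩ := SetLike.not_le_iff_exists.1 hcyc
      exact P.no_pair (P.K_le (hRK hy₁)) (P.K_le (hRK hy₂)) hr.out hr6 (hexp _ hy₁) (hexp _ hy₂) hne hy₁'
        (commutatorElement_eq_one_iff_mul_comm.1 (hab _ (commutator_mem_commutator hy₁ hy₂)))
        (hinv _ hy₁) (hinv _ hy₂)

/-- The involution centralizes the odd core. -/
theorem K_le_centralizer : P.K ≤ centralizer {P.j} := by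
  have hA2 : IsPGroup 2 P.Q₈ := isPGroup_quat.map _
  haveI : Fact (Nat.Prime 2) := ⟨Nat.prime_two⟩
  obtain ⟨n, hn⟩ := IsPGroup.iff_card.1 hA2
  have hcop : (Nat.card P.Q₈).Coprime (Nat.card P.K) := hn ▸ (Nat.coprime_two_left.2 P.K_odd).pow_left n
  have hAK : P.Q₈ ≤ normalizer (P.K : Set Γ) := fun g _ => by
    rw [normalizer_eq_top_iff.2 P.K_normal]; trivial
  haveI : Group.IsNilpotent ↥P.Q₈ := hA2.isNilpotent
  have hsol : Group.IsSolvable ↥P.Q₈ ∨ Group.IsSolvable P.K := Or.inl inferInstance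
  suffices h : ∀ r : ℕ, r.Prime →
      r ^ (Nat.card P.K).factorization r ∣ Nat.card ↥(P.K ⊓ centralizer {P.j}) by
    refine inf_eq_left.1 (eq_of_le_of_card_ge inf_le_left (Nat.le_of_dvd Nat.card_pos ?_))
    refine (Nat.factorization_le_iff_dvd Nat.card_pos.ne' Nat.card_pos.ne').1 fun r => ?_
    by_cases hr : r.Prime
    · exact (hr.pow_dvd_iff_le_factorization Nat.card_pos.ne').1 (h r hr)
    · rw [Nat.factorization_eq_zero_of_not_prime _ hr]; exact Nat.zero_le _
  intro r hr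
  haveI := Fact.mk hr
  obtain ⟨S, hS⟩ := CfsgLib.Coprime.exists_invariant_sylow (p := r) hAK hcop hsol
  suffices hle : (S : Subgroup P.K).map P.K.subtype ≤ centralizer {P.j} by
    refine Sylow.card_eq_multiplicity S ▸ ?_
    rw [Nat.card_congr (equivMapOfInjective _ _ P.K.subtype_injective).toEquiv]
    exact card_dvd_of_le (le_inf (map_subtype_le _) hle)
  by_cases hr3 : r = 3
  · subst hr3
    intro k hk
    have hjA : P.j ∈ P.Q₈ := ⟨nR F, by
      rw [show nR F = wR F * wR F from Subtype.ext (wM_sq (F := F)).symm]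
      exact mem_sup_left (mul_mem (mem_zpowers _) (mem_zpowers _)), rfl⟩
    obtain ⟨s₀, hs₀⟩ : ∃ s₀, s₀ = P.j * k * P.j⁻¹ * k⁻¹ := ⟨_, rfl⟩
    have hs₀P : s₀ ∈ (S : Subgroup P.K).map P.K.subtype :=
      hs₀ ▸ mul_mem ((mem_normalizer_iff.1 (hS hjA) k).1 hk) (inv_mem hk)
    by_cases hs1 : s₀ = 1
    · rw [hs₀, mul_inv_eq_one, mul_inv_eq_iff_eq_mul] at hs1
      exact mem_centralizer_singleton_iff.2 hs1.symm
    exfalso
    have hinv₀ : P.j * s₀ * P.j⁻¹ = s₀⁻¹ := by
      rw [hs₀]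
      simp only [P.j_inv, mul_inv_rev, inv_inv]
      simp only [← mul_assoc, P.j_mul_self, one_mul, P.j_inv]
    obtain ⟨e, he⟩ := (S.2.map P.K.subtype) ⟨s₀, hs₀P⟩
    have he' : s₀ ^ 3 ^ e = 1 := by simpa using congrArg Subtype.val he
    obtain ⟨i, -, hi⟩ := (Nat.dvd_prime_pow Nat.prime_three).1 (orderOf_dvd_of_pow_eq_one he')
    have hi0 : i ≠ 0 := fun h0 => hs1 (orderOf_eq_one_iff.1 (by rw [hi, h0, pow_zero]))
    obtain ⟨s, hs⟩ : ∃ s, s = s₀ ^ 3 ^ (i - 1) := ⟨_, rfl⟩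
    have hs3 : s ^ 3 = 1 := by
      rw [hs, ← pow_mul, ← pow_succ, Nat.sub_add_cancel (by omega), ← hi, pow_orderOf_eq_one]
    have hsne : s ≠ 1 := fun h => by
      rw [hs, ← orderOf_dvd_iff_pow_eq_one, hi, Nat.pow_dvd_pow_iff_le_right (by norm_num)] at h
      omega
    have hsinv : P.j * s * P.j⁻¹ = s⁻¹ := by rw [hs, ← conj_pow, hinv₀, inv_pow]
    have hsK : s ∈ P.K := hs ▸ pow_mem (map_subtype_le _ hs₀P) _
    obtain ⟨g, hg, hg1, hgq⟩ := P.exists_quadratic (P.K_le hsK) hs3 hsne hsinv P.K hsK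
      fun r' k' hk' => P.K_normal.conj_mem k' hk' _
    exact hg1 (by rw [P.eq_one_of_quadratic hg hgq, map_one])
  · exact P.le_centralizer_of_pGroup hr3 _ _ le_rfl (map_subtype_le _) (S.2.map _) hS

/-- The involution centralizes `X`. -/
theorem j_comm {y : Γ} (hy : y ∈ P.X) : P.j * y = y * P.j := by
  obtain ⟨k, hk⟩ : ∃ k, k = P.j * y * P.j⁻¹ * y⁻¹ := ⟨_, rfl⟩
  have hkK : k ∈ P.K := hk ▸ P.comm_mem_K hy
  have h1 := mem_centralizer_singleton_iff.1 (P.K_le_centralizer hkK)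
  have h2 : P.j * k * P.j⁻¹ = k⁻¹ := by
    rw [hk]
    simp only [P.j_inv, mul_inv_rev, inv_inv]
    simp only [← mul_assoc, P.j_mul_self, one_mul, P.j_inv]
  rw [← h1, mul_inv_cancel_right] at h2
  have hk1 : k = 1 := by
    refine orderOf_eq_one_iff.1 (Nat.eq_one_of_dvd_coprimes (Nat.coprime_two_left.2 P.K_odd)
      (orderOf_dvd_of_pow_eq_one ?_) ?_)
    · rw [sq]; nth_rewrite 1 [h2]; rw [inv_mul_cancel]
    · rw [show orderOf k = orderOf (⟨k, hkK⟩ : P.K) from (Subgroup.orderOf_mk _ _).symm]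
      exact orderOf_dvd_natCard _
  rw [hk1, eq_comm, mul_inv_eq_one, mul_inv_eq_iff_eq_mul] at hk
  exact hk

/-- The conclusion: a twist fixes the image of `ψ`. -/
theorem twist_eq (t : P.Twist) (r : ↥(commutator (Matrix.SpecialLinearGroup (Fin 2) F))) :
    t.σ (P.ψ r) = P.ψ r := by
  have hj0 : t.σ P.j * P.j⁻¹ ∈ P.X := t.hX _
  have hcj : P.j * t.σ P.j = t.σ P.j * P.j := by
    have h := P.j_comm hj0
    calc P.j * t.σ P.j = P.j * (t.σ P.j * P.j⁻¹) * P.j := by group
      _ = t.σ P.j * P.j⁻¹ * P.j * P.j := by rw [h]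
      _ = t.σ P.j * P.j := by group
  have heq := P.eq_of_commute t fun u => by rw [← P.ρ_mul, hcj, P.ρ_mul]
  have hσj : t.σ P.j = P.j := mul_inv_eq_one.1 (P.faithful _ hj0 (by
    rw [map_mul, heq, ← map_mul, mul_inv_cancel, map_one]))
  have hτ : ∀ {u}, P.ρ P.j u = u → P.ρ P.j (t.τ.symm u) = t.τ.symm u := fun {u} hu => by
    apply t.τ.injective
    rw [← t.hρ, t.τ.apply_symm_apply, hσj, hu]
  let K₅ : Subgroup Γ :=
    { carrier := {k | k ∈ P.X ∧ ∀ u, P.ρ P.j u = u → P.ρ k u = u}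
      one_mem' := ⟨one_mem _, fun u _ => P.ρ_one u⟩
      mul_mem' := fun {a b} ha hb => ⟨mul_mem ha.1 hb.1, fun u hu => by rw [P.ρ_mul, hb.2 u hu, ha.2 u hu]⟩
      inv_mem' := fun {a} ha => ⟨inv_mem ha.1, fun u hu => by nth_rewrite 1 [← ha.2 u hu]; rw [P.inv_ρ]⟩ }
  have hn : ∀ r', ∀ k ∈ K₅, P.ψ r' * k * (P.ψ r')⁻¹ ∈ K₅ := fun r' k hk =>
    ⟨P.X_normal.conj_mem k hk.1 _, fun u hu => by
      have h1 : P.ρ (P.ψ r')⁻¹ u = u := by rw [← map_inv]; exact P.ψ_fix _ u hu
      rw [P.ρ_mul, P.ρ_mul, h1, hk.2 u hu, P.ψ_fix r' u hu]⟩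
  obtain ⟨c, hc⟩ : ∃ c, c = t.σ (P.ψ r) * (P.ψ r)⁻¹ := ⟨_, rfl⟩
  have hc5 : c ∈ K₅ := by
    refine ⟨hc ▸ t.hX r, fun u hu => ?_⟩
    have h1 : P.ρ (P.ψ r)⁻¹ u = u := by rw [← map_inv]; exact P.ψ_fix _ u hu
    rw [hc, P.ρ_mul, h1]
    calc P.ρ (t.σ (P.ψ r)) u = t.τ (P.ρ (P.ψ r) (t.τ.symm u)) := by rw [← t.hρ, t.τ.apply_symm_apply]
      _ = u := by rw [P.ψ_fix r _ (hτ hu), t.τ.apply_symm_apply]
  rcases P.plane_group K₅ (fun k hk => P.j_comm hk.1) hn with h | ⟨k, hk, h⟩
  · have h1 : c = 1 := P.faithful c hc5.1 (P.ext_plane (fun z => h c hc5 z) fun u hu => hc5.2 u hu)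
    rw [hc, mul_inv_eq_one] at h1
    exact h1
  · refine absurd (P.ext_plane (fun z => ?_) fun u hu => ?_) (P.split k hk.1)
    · rw [h]; exact (P.j_f z).symm
    · rw [hk.2 u hu]; exact hu.symm

end CfsgLib.LocalEven.Baumann.Pairing
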