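import Cfsg.Agent.Lib.LocalEven.Baumann.ExcTools
import Cfsg.Agent.Lib.LocalEven.Baumann.PairingMain
import Cfsg.Agent.Lib.PLocal.QdRankTwo

/-!
An exceptional block inside `L = N(W_E)`: the involution, and `O_3(L)` when it contains `O_3(E)`.
-/

set_option autoImplicit false
set_option linter.unusedSectionVars false

namespace CfsgLib.LocalEven.Baumann

open Subgroup CfsgLib.LocalEven ThreeSL
open scoped commutatorElement

variable {G : Type*} [Group G]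

/-- `O_3(N(W_E))`. -/
abbrev OL (E : Subgroup G) : Subgroup G := Cfsg.pCoreOf 3 (normalizer (WE 3 E : Set G))

/-- `Ω₁(Z(O_3(N(W_E))))`. -/
abbrev VL (E : Subgroup G) : Subgroup G := Cfsg.omegaOneCenter 3 (OL E)

theorem mem_normalizer_OL {E : Subgroup G} {g : G} (hg : g ∈ normalizer (WE 3 E : Set G)) :
    g ∈ normalizer (OL E : Set G) := mem_normalizer_pCoreOf (le_normalizer hg)

theorem mem_normalizer_VL {E : Subgroup G} {g : G} (hg : g ∈ normalizer (WE 3 E : Set G)) :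
    g ∈ normalizer (VL E : Set G) := mem_normalizer_omegaOneCenter (mem_normalizer_OL hg)

variable [Finite G] [Fact (Nat.Prime 3)]

/-- The data of an exceptional block. -/
structure ExcData (T : Sylow 3 G) (E : Subgroup G) (F : Type) [Field F] [Fintype F] where
  n : ℕ
  hn : 0 < n
  hcard : Fintype.card F = 3 ^ n
  hG : centralizer (Cfsg.pCore 3 G : Set G) ≤ Cfsg.pCore 3 G
  hE : Cfsg.IsBaumannBlock 3 (T : Subgroup G) E
  Db : NatSec 3 E (WW 3 E) (ZZ 3 E) F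
  Dt : NatSec 3 E (QE 3 E) (WW 3 E) F
  hcomm : ⁅QE 3 E, QE 3 E⁆ = ZZ 3 E
  hcen : E ⊓ centralizer (E : Set G) = ZZ 3 E
  hZcard : Nat.card ↥(ZZ 3 E) = 3 ^ n
  hquad : ∀ b : G, b ∈ Cfsg.baumannSubgroupOf 3 (T : Subgroup G) → b ∉ centralizer (WW 3 E : Set G) →
      ¬ ⁅⁅QE 3 E, zpowers b⁆, zpowers b⁆ ≤ E ⊓ centralizer (E : Set G)

namespace ExcData

variable {T : Sylow 3 G} {E : Subgroup G} {F : Type} [Field F] [Fintype F] [CharP F 3] (X : ExcData T E F)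

include X

theorem exists_j : ∃ j : ↥E, (j : G) * j = 1 ∧ X.Db.rho j = nM F ∧ X.Dt.rho j = nM F := by
  obtain ⟨e, he⟩ : nM F ∈ X.Db.rho.range := by rw [X.Db.range]; exact nM_mem
  have h2 : X.Db.rho (e * e) = 1 := by rw [map_mul, he, nM_sq]
  have hq : ((e * e : ↥E) : G) ∈ QE 3 E := X.Db.ker _ h2
  have ht : X.Dt.rho e = nM F := by
    have h := X.Dt.qe_ker _ hq
    rw [map_mul] at h
    rcases CfsgLib.Classical.sl2_sq_eq_one two_ne_zero' h with h1 | h1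
    · exact absurd (he.symm.trans (X.Db.qe_ker _ (X.Dt.ker e (Subtype.ext h1)))) nM_ne_one
    · exact Subtype.ext h1
  obtain ⟨k, hk⟩ := isPGroup_QE E ⟨_, hq⟩
  obtain ⟨m, hm⟩ : Odd (3 ^ k) := Odd.pow (by decide)
  have hpow : (nM F) ^ (3 ^ k) = nM F := by
    rw [hm, pow_succ, pow_mul, sq, nM_sq, one_pow, one_mul]
  refine ⟨e ^ 3 ^ k, ?_, by rw [map_pow, he, hpow], by rw [map_pow, ht, hpow]⟩
  have := congrArg Subtype.val hk
  simp only [SubmonoidClass.coe_pow, OneMemClass.coe_one, Subgroup.coe_mul] at this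
  rw [SubmonoidClass.coe_pow, ← (Commute.refl (e : G)).mul_pow]
  exact this

/-- The involution. -/
noncomputable def j : ↥E := X.exists_j.choose

theorem j_sq : (X.j : G) * X.j = 1 := X.exists_j.choose_spec.1

theorem j_bot : X.Db.rho X.j = nM F := X.exists_j.choose_spec.2.1

theorem j_top : X.Dt.rho X.j = nM F := X.exists_j.choose_spec.2.2

theorem j_inv : (X.j : G)⁻¹ = X.j := inv_eq_of_mul_eq_one_right X.j_sq

theorem ww_pow {w : G} (hw : w ∈ WW 3 E) : w ^ 3 = 1 := exponent_ww E w hw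

theorem ww_comm {a b : G} (ha : a ∈ WW 3 E) (hb : b ∈ WW 3 E) : a * b = b * a :=
  ww_commute ha (ww_le E hb)

theorem j_mul_mem_zz {w : G} (hw : w ∈ WW 3 E) : (X.j : G) * w * (X.j : G)⁻¹ * w ∈ ZZ 3 E := by
  have hn := X.Db.norm X.j.2
  have hc := X.Db.S.conj_mem hn hw
  rw [← X.Db.S.ker _ (mul_mem hc hw), X.Db.S.map_mul _ hc _ hw, ← X.Db.S.act_f hn hw, X.Db.act_rho,
    X.j_bot, mv_apply, nM_coe, Matrix.neg_mulVec, Matrix.one_mulVec, neg_add_cancel]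

theorem j_conj_we {w : G} (hw : w ∈ WE 3 E) : (X.j : G) * w * (X.j : G)⁻¹ = w⁻¹ := by
  have hjW : ∀ v ∈ WW 3 E, (X.j : G) * v * (X.j : G)⁻¹ ∈ WW 3 E := fun v hv =>
    X.Db.S.conj_mem (X.Db.norm X.j.2) hv
  let I : Subgroup G :=
    { carrier := {v | v ∈ WW 3 E ∧ (X.j : G) * v * (X.j : G)⁻¹ = v⁻¹}
      one_mem' := ⟨one_mem _, by simp⟩
      mul_mem' := fun {a b} ha hb => ⟨mul_mem ha.1 hb.1, by
        rw [show (X.j : G) * (a * b) * (X.j : G)⁻¹ = ((X.j : G) * a * (X.j : G)⁻¹) * ((X.j : G) * b * (X.j : G)⁻¹) by group,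
          ha.2, hb.2, ← mul_inv_rev, X.ww_comm hb.1 ha.1]⟩
      inv_mem' := fun {a} ha => ⟨inv_mem ha.1, by
        rw [← conj_inv, ha.2]⟩ }
  suffices h : WE 3 E ≤ I from (h hw).2
  change ⁅WW 3 E, E⁆ ≤ I
  rw [commutator_le]
  intro v hv e he
  -- `v = i z`
  obtain ⟨u, hu⟩ : ∃ u, u = (X.j : G) * v * (X.j : G)⁻¹ := ⟨_, rfl⟩
  have huW : u ∈ WW 3 E := hu ▸ hjW v hv
  have hju : (X.j : G) * u * (X.j : G)⁻¹ = v := by
    rw [hu, show (X.j : G) * (X.j * v * (X.j : G)⁻¹) * (X.j : G)⁻¹ = ((X.j : G) * X.j) * v * ((X.j : G) * X.j)⁻¹ by group,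
      X.j_sq]; group
  have hi : (v * u⁻¹) ^ 2 ∈ I := I.pow_mem (x := v * u⁻¹) ⟨mul_mem hv (inv_mem huW), by
    rw [show (X.j : G) * (v * u⁻¹) * (X.j : G)⁻¹
      = ((X.j : G) * v * (X.j : G)⁻¹) * ((X.j : G) * u * (X.j : G)⁻¹)⁻¹ by group, ← hu, hju]
    group⟩ 2
  have hz : (v * u) ^ 2 ∈ ZZ 3 E := pow_mem (by rw [X.ww_comm hv huW, hu]; exact X.j_mul_mem_zz hv) 2
  have hdec : v = (v * u⁻¹) ^ 2 * (v * u) ^ 2 := by
    have c1 : Commute v u := X.ww_comm hv huW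
    have c3 : Commute u⁻¹ v := c1.symm.inv_left
    have h4 : v ^ 4 = v := by rw [pow_succ, X.ww_pow hv, one_mul]
    calc v = v ^ 4 := h4.symm
      _ = v ^ 2 * v ^ 2 * ((u⁻¹) ^ 2 * u ^ 2) := by rw [inv_pow, inv_mul_cancel, mul_one, ← pow_add]
      _ = v ^ 2 * ((u⁻¹) ^ 2 * v ^ 2) * u ^ 2 := by
        rw [(c3.pow_pow 2 2).eq]; simp only [mul_assoc]
      _ = _ := by
        rw [c3.symm.mul_pow, c1.mul_pow]; simp only [mul_assoc]
  obtain ⟨i, hi', z, hz', hvz⟩ : ∃ i, i ∈ I ∧ ∃ z, z ∈ ZZ 3 E ∧ v = i * z := ⟨_, hi, _, hz, hdec⟩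
  have h1 : ⁅v, e⁆ = i * (e * i⁻¹ * e⁻¹) := by
    rw [commutatorElement_def, hvz]
    calc i * z * e * (i * z)⁻¹ * e⁻¹ = i * (z * e) * z⁻¹ * i⁻¹ * e⁻¹ := by group
      _ = i * (e * z) * z⁻¹ * i⁻¹ * e⁻¹ := by rw [zz_commute hz' he]
      _ = _ := by group
  rw [h1]
  refine mul_mem hi' ?_
  obtain ⟨hiW, hii⟩ := I.inv_mem hi'
  refine ⟨(mem_normalizer_iff.1 (mem_normalizer_WW (le_normalizer he)) _).1 hiW, ?_⟩
  -- `e⁻¹ j e = q j`
  obtain ⟨q, hq⟩ : ∃ q, q = e⁻¹ * (X.j : G) * e * (X.j : G)⁻¹ := ⟨_, rfl⟩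
  have hqQ : q ∈ QE 3 E := by
    have := X.Db.ker (⟨e, he⟩⁻¹ * X.j * ⟨e, he⟩ * X.j⁻¹) (by
      simp only [map_mul, map_inv, X.j_bot]
      rw [mul_assoc _ (nM F) (X.Db.rho ⟨e, he⟩), nM_comm]
      group)
    rw [hq]; exact this
  have hje : (X.j : G) * e = e * q * X.j := by rw [hq]; group
  calc (X.j : G) * (e * i⁻¹ * e⁻¹) * (X.j : G)⁻¹ = ((X.j : G) * e) * i⁻¹ * ((X.j : G) * e)⁻¹ := by group
    _ = e * (q * ((X.j : G) * i⁻¹ * (X.j : G)⁻¹) * q⁻¹) * e⁻¹ := by rw [hje]; group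
    _ = (e * i⁻¹ * e⁻¹)⁻¹ := by
      rw [hii, ← ww_commute (inv_mem hiW) hqQ, mul_inv_cancel_right]; group

theorem we_inf_zz : WE 3 E ⊓ ZZ 3 E = ⊥ := by
  rw [eq_bot_iff]
  intro w hw
  have h := X.j_conj_we hw.1
  rw [← zz_commute hw.2 X.j.2, mul_inv_cancel_right] at h
  rw [Subgroup.mem_bot, ← orderOf_eq_one_iff]
  exact Nat.eq_one_of_dvd_coprimes (by norm_num : Nat.Coprime 2 3)
    (orderOf_dvd_of_pow_eq_one (by rw [sq]; nth_rewrite 1 [h]; rw [inv_mul_cancel]))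
    (orderOf_dvd_of_pow_eq_one (X.ww_pow (we_le_ww E hw.1)))

theorem le_L {e : G} (he : e ∈ E) : e ∈ normalizer (WE 3 E : Set G) := mem_normalizer_WE (le_normalizer he)

theorem oo_le_ol : OO 3 G ≤ OL E :=
  le_pCoreOf (fun _ ho => mem_normalizer_WE (oo_le_normalizer X.hG X.hE ho))
    (fun g _ => mem_normalizer_of_normal g) isPGroup_OO

theorem ol_le_L : OL E ≤ normalizer (WE 3 E : Set G) := pCoreOf_le _ _

theorem isPGroup_ol : IsPGroup 3 (OL E) := isPGroup_pCoreOf _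

theorem ol_le_normalizer : OL E ≤ normalizer (E : Set G) :=
  Cfsg.Agent.S2983.result X.hG T E X.hE (OL E) X.isPGroup_ol
    (fun _ hb => mem_normalizer_OL (mem_normalizer_WE (baumann_le_normalizer X.hE hb)))
    (fun _ he => mem_normalizer_OL (X.le_L he))

theorem ol_comm_mem_qe {o e : G} (ho : o ∈ OL E) (he : e ∈ E) : o * e * o⁻¹ * e⁻¹ ∈ QE 3 E := by
  refine le_pCoreOf (N := OL E ⊓ E) inf_le_right
    (fun x hx => mem_normalizer_inf (mem_normalizer_OL (X.le_L hx)) (le_normalizer hx))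
    (X.isPGroup_ol.to_le inf_le_left)
    (Subgroup.mem_inf.2 ⟨?_, mul_mem ((mem_normalizer_iff.1 (X.ol_le_normalizer ho) e).1 he) (inv_mem he)⟩)
  rw [show o * e * o⁻¹ * e⁻¹ = o * (e * o⁻¹ * e⁻¹) by group]
  exact mul_mem ho ((mem_normalizer_iff.1 (mem_normalizer_OL (X.le_L he)) _).1 (inv_mem ho))

theorem centralizer_ol_le : centralizer (OL E : Set G) ≤ OL E :=
  ((centralizer_le (SetLike.coe_subset_coe.2 X.oo_le_ol)).trans X.hG).trans X.oo_le_ol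

theorem we_le_ol : WE 3 E ≤ OL E :=
  ((we_le_vv X.hG X.hE).trans (omegaOneCenter_le _)).trans X.oo_le_ol

/-- Either `[O_3(G), E] ≤ W_E` or `O_3(E) ≤ O_3(L)`. -/
theorem oo_or_qe_le : (∀ o ∈ OO 3 G, ∀ e ∈ E, o * e * o⁻¹ * e⁻¹ ∈ WE 3 E) ∨ QE 3 E ≤ OL E := by
  have hXQ : ⁅OL E, E⁆ ≤ QE 3 E := by
    rw [commutator_le]
    exact fun o ho e he => X.ol_comm_mem_qe ho he
  have hXn : E ≤ normalizer ((⁅OL E, E⁆ : Subgroup G) : Set G) := fun e he =>
    mem_normalizer_commutator (mem_normalizer_OL (X.le_L he)) (le_normalizer he)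
  rcases X.Dt.irred _ hXQ hXn with h | h
  · refine Or.inl fun o ho e he => ?_
    have hall : ∀ y ∈ E, y * o * y⁻¹ * o⁻¹ ∈ WW 3 E := fun y hy => by
      have := h (commutator_mem_commutator (X.oo_le_ol ho) hy)
      rw [commutatorElement_def] at this
      convert inv_mem this using 1
      group
    convert inv_mem (commutator_mem_we X.hG X.hE hall e he) using 1
    group
  · have hXO : ⁅OL E, E⁆ ≤ OL E := by
      rw [commutator_le]
      intro o ho e he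
      rw [commutatorElement_def, show o * e * o⁻¹ * e⁻¹ = o * (e * o⁻¹ * e⁻¹) by group]
      exact mul_mem ho ((mem_normalizer_iff.1 (mem_normalizer_OL (X.le_L he)) _).1 (inv_mem ho))
    have hdec : ∀ q ∈ QE 3 E, ∃ k ∈ OL E ⊓ QE 3 E, ∃ w ∈ WW 3 E, q = k * w := fun q hq => by
      have hn : ⁅OL E, E⁆ ≤ normalizer (WW 3 E : Set G) := fun x hx =>
        mem_normalizer_WW (le_normalizer (pCoreOf_le 3 E (hXQ hx)))
      have h1 := h hq
      rw [← SetLike.mem_coe, coe_mul_of_left_le_normalizer_right _ _ hn] at h1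
      obtain ⟨k, hk, w, hw, rfl⟩ := Set.mem_mul.1 h1
      exact ⟨k, ⟨hXO hk, hXQ hk⟩, w, hw, rfl⟩
    have hZ : ZZ 3 E ≤ OL E := by
      rw [← X.hcomm, commutator_le]
      intro a ha b hb
      obtain ⟨k, hk, w, hw, rfl⟩ := hdec a ha
      obtain ⟨l, hl, v, hv, rfl⟩ := hdec b hb
      have e1 : ⁅k * w, l * v⁆ = ⁅k, l⁆ := by
        simp only [commutatorElement_def]
        have c1 : w * (l * v) = l * v * w := ww_commute hw (mul_mem hl.2 (ww_le E hv))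
        have c2 : k⁻¹ * v⁻¹ = v⁻¹ * k⁻¹ := (ww_commute (inv_mem hv) (inv_mem hk.2)).symm
        calc k * w * (l * v) * (k * w)⁻¹ * (l * v)⁻¹ = k * (w * (l * v)) * w⁻¹ * (k⁻¹ * v⁻¹) * l⁻¹ := by group
          _ = _ := by rw [c1, c2]; group
      rw [e1, commutatorElement_def]
      exact mul_mem (mul_mem (mul_mem hk.1 hl.1) (inv_mem hk.1)) (inv_mem hl.1)
    have hW : WW 3 E ≤ OL E := by rw [ww_eq_sup X.hG X.hE]; exact sup_le X.we_le_ol hZ
    refine Or.inr fun q hq => ?_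
    obtain ⟨k, hk, w, hw, rfl⟩ := hdec q hq
    exact mul_mem hk.1 (hW hw)

variable (hQO : QE 3 E ≤ OL E)
include hQO

omit hQO in
theorem ol_centralizes_we : OL E ≤ centralizer (WE 3 E : Set G) := by
  have hne : WE 3 E ≠ ⊥ := fun h => we_not_le_zz X.hG X.hE (h ▸ bot_le)
  obtain ⟨d, hd, hd1, hdf⟩ := CfsgLib.PLocal.RankTwo.exists_fixed X.isPGroup_ol
    (X.isPGroup_ol.to_le X.we_le_ol) hne
    (fun x hx w hw => (mem_normalizer_iff.1 (X.ol_le_L hx) w).1 hw)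
  obtain ⟨C, hC⟩ : ∃ C, C = WE 3 E ⊓ centralizer (OL E : Set G) := ⟨_, rfl⟩
  have hCW : C ≤ WW 3 E := hC ▸ inf_le_left.trans (we_le_ww E)
  have hCn : E ≤ normalizer (C : Set G) := fun e he => hC ▸
    mem_normalizer_inf (X.le_L he) (normalizer_le_normalizer_centralizer _ (mem_normalizer_OL (X.le_L he)))
  have hdC : d ∈ C := hC ▸ ⟨hd, mem_centralizer_iff.2 fun x hx => hdf x hx⟩
  rcases X.Db.irred C hCW hCn with h | h
  · exact absurd ((Subgroup.mem_bot).1 (X.we_inf_zz ▸ Subgroup.mem_inf.2 ⟨hd, h hdC⟩)) hd1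
  · intro o ho
    have hoN := X.ol_le_normalizer ho
    refine centralizes_we_of_trivial X.hG X.hE hoN fun u hu => ?_
    have hn : C ≤ normalizer (ZZ 3 E : Set G) := fun x hx =>
      mem_normalizer_ZZ (le_normalizer (ww_le_self E (hCW hx)))
    have h1 := h hu
    rw [← SetLike.mem_coe, coe_mul_of_left_le_normalizer_right _ _ hn] at h1
    obtain ⟨c, hc, z, hz, rfl⟩ := Set.mem_mul.1 h1
    have hoc : o * c * o⁻¹ = c := by
      rw [mem_centralizer_iff.1 (hC ▸ hc).2 o ho, mul_inv_cancel_right]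
    have hz' : o * z * o⁻¹ * z⁻¹ ∈ ZZ 3 E :=
      mul_mem ((mem_normalizer_iff.1 (mem_normalizer_ZZ hoN) z).1 hz) (inv_mem hz)
    rw [show o * (c * z) * o⁻¹ * (c * z)⁻¹ = (o * c * o⁻¹) * (o * z * o⁻¹ * z⁻¹) * c⁻¹ by group, hoc,
      ← zz_commute hz' (ww_le_self E (hCW hc)), mul_inv_cancel_right]
    exact hz'

omit hQO in
theorem ol_top {o q : G} (ho : o ∈ OL E) (hq : q ∈ QE 3 E) : o * q * o⁻¹ * q⁻¹ ∈ WW 3 E := by
  have hoN := X.ol_le_normalizer ho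
  obtain ⟨c, hc⟩ := exists_scalar_top X.hG X.hE (three_le_of_exc rfl X.hn X.hcard) X.Dt hoN
    (X.ol_centralizes_we ho)
  obtain ⟨k, hk⟩ := X.isPGroup_ol ⟨o, ho⟩
  have hok : o ^ 3 ^ k = 1 := by simpa using congrArg Subtype.val hk
  have hon := mem_top_nrm X.Dt hoN
  have hpow : ∀ (m : ℕ) (v : Fin 2 → F), (X.Dt.S.act o ^ m) v = c ^ m • v := fun m => by
    induction m with
    | zero => intro v; rw [pow_zero, pow_zero, one_smul]; rfl
    | succ m ih => intro v; rw [pow_succ, pow_succ, eapp, hc, ih, smul_smul]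
  have hc1 : c ^ 3 ^ k = 1 := by
    have h := hpow (3 ^ k) ![1, 0]
    rw [← X.Dt.S.act_pow hon, hok, X.Dt.S.act_one] at h
    have h0 := congrFun h 0
    simp at h0
    exact h0.symm
  have hc' : c = 1 := by
    have h : (c - 1) ^ 3 ^ k = 0 := by rw [sub_pow_char_pow, one_pow, hc1, sub_self]
    exact sub_eq_zero.1 (eq_zero_of_pow_eq_zero h)
  refine (X.Dt.S.act_eq_one_iff hon).1 (DFunLike.ext _ _ fun v => ?_) q hq
  rw [hc, hc', one_smul]; rfl

omit hQO in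
theorem ol_centralizes_ww : OL E ≤ centralizer (WW 3 E : Set G) := fun _ ho =>
  mem_centralizer_ww_of_top X.hG X.hE X.hcomm (X.ol_centralizes_we ho) fun _ hq => X.ol_top ho hq

theorem ww_le_vl : WW 3 E ≤ VL E := fun w hw => mem_omegaOneCenter_iff.2
  ⟨hQO (ww_le E hw), mem_centralizer_iff.2 fun o ho => ((mem_centralizer_iff.1 (X.ol_centralizes_ww ho)) w hw).symm,
    X.ww_pow hw⟩

theorem vl_inf_qe : VL E ⊓ QE 3 E ≤ WW 3 E :=
  abelian_le_ww X.hG X.hE _ inf_le_right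
    (fun e he => mem_normalizer_inf (mem_normalizer_VL (X.le_L he)) (mem_normalizer_pCoreOf (le_normalizer he)))
    (fun a ha b hb => commute_omegaOneCenter ha.1 (omegaOneCenter_le _ hb.1))
    (fun a ha => (mem_omegaOneCenter_iff.1 ha.1).2.2)

end ExcData

end CfsgLib.LocalEven.Baumann
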