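import Cfsg.Agent.Lib.LocalEven.Baumann.ExcBlock

/-!
The class two section `R / Z₁` of `O = O_3(L)` and the group acting on it, for an exceptional block.
-/

set_option autoImplicit false
set_option linter.unusedSectionVars false

namespace CfsgLib.LocalEven.Baumann

open Subgroup CfsgLib.LocalEven ThreeSL
open scoped commutatorElement

variable {G : Type*} [Group G]

/-- `{r ∈ O | [r, O] ≤ V}`. -/
def RR (E : Subgroup G) : Subgroup G where
  carrier := {r | r ∈ OL E ∧ ∀ o ∈ OL E, r * o * r⁻¹ * o⁻¹ ∈ VL E}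
  one_mem' := ⟨one_mem _, fun o _ => by simp⟩
  mul_mem' := fun {a b} ha hb => ⟨mul_mem ha.1 hb.1, fun o ho => by
    rw [show a * b * o * (a * b)⁻¹ * o⁻¹ = (a * (b * o * b⁻¹ * o⁻¹) * a⁻¹) * (a * o * a⁻¹ * o⁻¹) by group,
      ← commute_omegaOneCenter (hb.2 o ho) ha.1, mul_inv_cancel_right]
    exact mul_mem (hb.2 o ho) (ha.2 o ho)⟩
  inv_mem' := fun {a} ha => ⟨inv_mem ha.1, fun o ho => by
    rw [show a⁻¹ * o * a⁻¹⁻¹ * o⁻¹ = a⁻¹ * (a * o * a⁻¹ * o⁻¹)⁻¹ * a by group,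
      ← commute_omegaOneCenter (inv_mem (ha.2 o ho)) (inv_mem ha.1), inv_mul_cancel_right]
    exact inv_mem (ha.2 o ho)⟩

theorem rr_le_ol (E : Subgroup G) : RR E ≤ OL E := fun _ h => h.1

theorem vl_le_rr (E : Subgroup G) : VL E ≤ RR E := fun v hv => ⟨omegaOneCenter_le _ hv, fun o ho => by
  rw [commute_omegaOneCenter hv ho, mul_inv_cancel_right, mul_inv_cancel]; exact one_mem _⟩

theorem mem_normalizer_RR [Finite G] {E : Subgroup G} {g : G} (hg : g ∈ normalizer (WE 3 E : Set G)) :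
    g ∈ normalizer (RR E : Set G) := by
  refine mem_normalizer_iff_map_conj_eq.2 (eq_of_le_of_card_ge ?_
    (Nat.card_congr (equivMapOfInjective _ _ (MulAut.conj g).injective).toEquiv).le)
  rintro _ ⟨r, hr, rfl⟩
  refine ⟨(mem_normalizer_iff.1 (mem_normalizer_OL hg) r).1 hr.1, fun o ho => ?_⟩
  have ho' : g⁻¹ * o * g ∈ OL E := by
    have := (mem_normalizer_iff.1 (mem_normalizer_OL (inv_mem hg)) o).1 ho; simpa using this
  have := (mem_normalizer_iff.1 (mem_normalizer_VL hg) _).1 (hr.2 _ ho')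
  show g * r * g⁻¹ * o * (g * r * g⁻¹)⁻¹ * o⁻¹ ∈ VL E
  convert this using 1
  group

variable [Finite G] [Fact (Nat.Prime 3)]

/-- An exceptional block with `O_3(E) ≤ O_3(L)`. -/
structure ExcCore (T : Sylow 3 G) (E : Subgroup G) (F : Type) [Field F] [Fintype F] extends ExcData T E F where
  hQO : QE 3 E ≤ OL E

namespace ExcCore

variable {T : Sylow 3 G} {E : Subgroup G} {F : Type} [Field F] [Fintype F] [CharP F 3] (C : ExcCore T E F)

include C

theorem ww_le_vl : WW 3 E ≤ VL E := C.toExcData.ww_le_vl C.hQO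

theorem qe_le_rr : QE 3 E ≤ RR E := fun q hq => ⟨C.hQO hq, fun o ho => by
  convert inv_mem (C.ww_le_vl (C.ol_top ho hq)) using 1
  group⟩

/-- The section. -/
def P : ClassTwo G where
  R := RR E
  V := VL E
  W := WE 3 E
  hWV := (we_le_ww E).trans C.ww_le_vl
  hVR := vl_le_rr E
  hRR := fun _ hr s hs => hr.2 s (rr_le_ol E hs)
  hcent := fun _ hv _ hr => commute_omegaOneCenter hv (rr_le_ol E hr)
  h3 := fun _ hv => (mem_omegaOneCenter_iff.1 hv).2.2

theorem cl_zero_conj {g r : G} (hg : g ∈ normalizer (WE 3 E : Set G)) (hr : r ∈ RR E) (h : C.P.cl r = 0) :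
    C.P.cl (g * r * g⁻¹) = 0 :=
  C.P.cl_conj_eq_zero (mem_normalizer_RR hg) hg hr h

/-- A class zero element of `O_3(E)` lies in `W`. -/
theorem qe_cl_zero {q : G} (hq : q ∈ QE 3 E) (h : C.P.cl q = 0) : q ∈ WW 3 E := by
  let Y : Subgroup G :=
    { carrier := {r | r ∈ QE 3 E ∧ C.P.cl r = 0}
      one_mem' := ⟨one_mem _, C.P.cl_eq_zero_of_mem (one_mem _)⟩
      mul_mem' := fun {a b} ha hb => ⟨mul_mem ha.1 hb.1, by
        rw [C.P.cl_mul (C.qe_le_rr ha.1) (C.qe_le_rr hb.1), ha.2, hb.2, add_zero]⟩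
      inv_mem' := fun {a} ha => ⟨inv_mem ha.1, by rw [C.P.cl_inv (C.qe_le_rr ha.1), ha.2, neg_zero]⟩ }
  have hY : E ≤ normalizer (Y : Set G) := fun e he => by
    refine mem_normalizer_iff_map_conj_eq.2 (eq_of_le_of_card_ge ?_
      (Nat.card_congr (equivMapOfInjective _ _ (MulAut.conj e).injective).toEquiv).le)
    rintro _ ⟨r, hr, rfl⟩
    exact ⟨(mem_normalizer_iff.1 (mem_normalizer_pCoreOf (le_normalizer he)) r).1 hr.1,
      C.cl_zero_conj (C.le_L he) (C.qe_le_rr hr.1) hr.2⟩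
  rcases C.Dt.irred Y (fun r hr => hr.1) hY with hle | hle
  · exact hle ⟨hq, h⟩
  exfalso
  have hcentr : ∀ y ∈ Y, ∀ s ∈ QE 3 E, ⁅y, s⁆ = 1 := fun y hy s hs => by
    have h1 := (C.P.cl_eq_zero (C.qe_le_rr hy.1)).1 hy.2 s (C.qe_le_rr hs)
    have h2 : ⁅y, s⁆ ∈ ZZ 3 E := C.hcomm.le (commutator_mem_commutator hy.1 hs)
    rw [← commutatorElement_def] at h1
    exact (Subgroup.mem_bot).1 (C.we_inf_zz ▸ Subgroup.mem_inf.2 ⟨h1, h2⟩)
  have hab : ⁅QE 3 E, QE 3 E⁆ = ⊥ := by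
    rw [commutator_eq_bot_iff_le_centralizer]
    refine hle.trans (sup_le (fun y hy => mem_centralizer_iff.2 fun s hs => ?_)
      fun w hw => mem_centralizer_iff.2 fun s hs => (ww_commute hw hs).symm)
    exact (commutatorElement_eq_one_iff_mul_comm.1 (hcentr y hy s hs)).symm
  have hc := C.hZcard
  rw [← C.hcomm, hab, Subgroup.card_bot] at hc
  exact absurd hc (Nat.one_lt_pow C.hn.ne' (by norm_num)).ne

/-- The part of `L` stabilizing the sections of `O`. -/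
def L₁ : Subgroup G where
  carrier := {g | g ∈ normalizer (WE 3 E : Set G) ∧ (∀ o ∈ OL E, g * o * g⁻¹ * o⁻¹ ∈ RR E) ∧
    (∀ r ∈ RR E, C.P.cl r = 0 → g * r * g⁻¹ * r⁻¹ ∈ VL E) ∧ ∀ v ∈ VL E, g * v * g⁻¹ * v⁻¹ ∈ WE 3 E}
  one_mem' := ⟨one_mem _, fun o _ => by simp, fun r _ _ => by simp, fun v _ => by simp⟩
  mul_mem' := fun {a b} ha hb => ⟨mul_mem ha.1 hb.1, fun o ho => by
      rw [show a * b * o * (a * b)⁻¹ * o⁻¹ = (a * (b * o * b⁻¹ * o⁻¹) * a⁻¹) * (a * o * a⁻¹ * o⁻¹) by group]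
      exact mul_mem ((mem_normalizer_iff.1 (mem_normalizer_RR ha.1) _).1 (hb.2.1 o ho)) (ha.2.1 o ho),
    fun r hr h => by
      rw [show a * b * r * (a * b)⁻¹ * r⁻¹ = (a * (b * r * b⁻¹ * r⁻¹) * a⁻¹) * (a * r * a⁻¹ * r⁻¹) by group]
      exact mul_mem ((mem_normalizer_iff.1 (mem_normalizer_VL ha.1) _).1 (hb.2.2.1 r hr h)) (ha.2.2.1 r hr h),
    fun v hv => by
      rw [show a * b * v * (a * b)⁻¹ * v⁻¹ = (a * (b * v * b⁻¹ * v⁻¹) * a⁻¹) * (a * v * a⁻¹ * v⁻¹) by group]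
      exact mul_mem ((mem_normalizer_iff.1 ha.1 _).1 (hb.2.2.2 v hv)) (ha.2.2.2 v hv)⟩
  inv_mem' := fun {a} ha => by
    have key : ∀ o : G, a⁻¹ * o * a⁻¹⁻¹ * o⁻¹ = (a * (a⁻¹ * o * a) * a⁻¹ * (a⁻¹ * o * a)⁻¹)⁻¹ := fun o => by group
    refine ⟨inv_mem ha.1, fun o ho => ?_, fun r hr h => ?_, fun v hv => ?_⟩
    · rw [key]
      refine inv_mem (ha.2.1 _ ?_)
      have := (mem_normalizer_iff.1 (mem_normalizer_OL (inv_mem ha.1)) o).1 ho; simpa using this
    · rw [key]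
      refine inv_mem (ha.2.2.1 _ ?_ ?_)
      · have := (mem_normalizer_iff.1 (mem_normalizer_RR (inv_mem ha.1)) r).1 hr; simpa using this
      · have := C.cl_zero_conj (inv_mem ha.1) hr h; simpa using this
    · rw [key]
      refine inv_mem (ha.2.2.2 _ ?_)
      have := (mem_normalizer_iff.1 (mem_normalizer_VL (inv_mem ha.1)) v).1 hv; simpa using this

theorem l1_conj {g l : G} (hg : g ∈ normalizer (WE 3 E : Set G)) (hl : l ∈ C.L₁) : g * l * g⁻¹ ∈ C.L₁ := by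
  have key : ∀ o : G, g * l * g⁻¹ * o * (g * l * g⁻¹)⁻¹ * o⁻¹
      = g * (l * (g⁻¹ * o * g) * l⁻¹ * (g⁻¹ * o * g)⁻¹) * g⁻¹ := fun o => by group
  refine ⟨mul_mem (mul_mem hg hl.1) (inv_mem hg), fun o ho => ?_, fun r hr h => ?_, fun v hv => ?_⟩
  · rw [key]
    refine (mem_normalizer_iff.1 (mem_normalizer_RR hg) _).1 (hl.2.1 _ ?_)
    have := (mem_normalizer_iff.1 (mem_normalizer_OL (inv_mem hg)) o).1 ho; simpa using this
  · rw [key]
    refine (mem_normalizer_iff.1 (mem_normalizer_VL hg) _).1 (hl.2.2.1 _ ?_ ?_)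
    · have := (mem_normalizer_iff.1 (mem_normalizer_RR (inv_mem hg)) r).1 hr; simpa using this
    · have := C.cl_zero_conj (inv_mem hg) hr h; simpa using this
  · rw [key]
    refine (mem_normalizer_iff.1 hg _).1 (hl.2.2.2 _ ?_)
    have := (mem_normalizer_iff.1 (mem_normalizer_VL (inv_mem hg)) v).1 hv; simpa using this

theorem le_l1 : E ≤ C.L₁ := fun e he => by
  have hoe : ∀ o ∈ OL E, e * o * e⁻¹ * o⁻¹ ∈ QE 3 E := fun o ho => by
    convert inv_mem (C.ol_comm_mem_qe ho he) using 1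
    group
  have hV : ∀ v ∈ VL E, ∀ y ∈ E, y * v * y⁻¹ * v⁻¹ ∈ WW 3 E := fun v hv y hy => C.vl_inf_qe C.hQO
    (Subgroup.mem_inf.2 ⟨mul_mem ((mem_normalizer_iff.1 (mem_normalizer_VL (C.le_L hy)) v).1 hv) (inv_mem hv), by
      convert inv_mem (C.ol_comm_mem_qe (omegaOneCenter_le _ hv) hy) using 1
      group⟩)
  refine ⟨C.le_L he, fun o ho => C.qe_le_rr (hoe o ho), fun r hr h => ?_, fun v hv =>
    commutator_mem_we C.hG C.hE (hV v hv) e he⟩
  refine C.ww_le_vl (C.qe_cl_zero (hoe r (rr_le_ol E hr)) ?_)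
  have hr' := (mem_normalizer_iff.1 (mem_normalizer_RR (C.le_L he)) r).1 hr
  rw [C.P.cl_mul hr' (inv_mem hr), C.cl_zero_conj (C.le_L he) hr h, C.P.cl_inv hr, h, neg_zero, add_zero]

/-- `O L₁`. -/
def MM : Subgroup G := OL E ⊔ C.L₁

theorem l1_le_normalizer_ol : C.L₁ ≤ normalizer (OL E : Set G) := fun _ hl => mem_normalizer_OL hl.1

theorem mem_mm {g : G} : g ∈ C.MM ↔ ∃ o ∈ OL E, ∃ l ∈ C.L₁, g = o * l :=
  mem_sup_of_normal C.l1_le_normalizer_ol

theorem ol_le_mm : OL E ≤ C.MM := le_sup_left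

theorem l1_le_mm : C.L₁ ≤ C.MM := le_sup_right

theorem mm_le_L : C.MM ≤ normalizer (WE 3 E : Set G) := sup_le C.ol_le_L fun _ h => h.1

theorem le_mm : E ≤ C.MM := C.le_l1.trans C.l1_le_mm

theorem mem_normalizer_MM {g : G} (hg : g ∈ normalizer (WE 3 E : Set G)) : g ∈ normalizer (C.MM : Set G) := by
  refine mem_normalizer_sup (mem_normalizer_OL hg) ?_
  refine mem_normalizer_iff_map_conj_eq.2 (eq_of_le_of_card_ge ?_
    (Nat.card_congr (equivMapOfInjective _ _ (MulAut.conj g).injective).toEquiv).le)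
  rintro _ ⟨l, hl, rfl⟩
  exact C.l1_conj hg hl

theorem mm_le_stab : C.MM ≤ C.P.stab := by
  refine sup_le (fun o ho => ?_) fun l hl => ?_
  · exact ⟨mem_normalizer_RR (C.ol_le_L ho), mem_normalizer_VL (C.ol_le_L ho), C.ol_le_L ho, fun v hv => by
      rw [← commute_omegaOneCenter hv ho, mul_inv_cancel_right, mul_inv_cancel]; exact one_mem _⟩
  · exact ⟨mem_normalizer_RR hl.1, mem_normalizer_VL hl.1, hl.1, hl.2.2.2⟩

instance normal_ol : ((OL E).subgroupOf C.MM).Normal :=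
  normal_subgroupOf_of_le_normalizer fun _ hg => mem_normalizer_OL (C.mm_le_L hg)

/-- `M / O`. -/
abbrev Gam : Type _ := ↥C.MM ⧸ (OL E).subgroupOf C.MM

/-- The action on the section. -/
noncomputable def rho : C.Gam →* AddMonoid.End ↥C.P.car :=
  QuotientGroup.lift _ (C.P.rep'.comp (inclusion C.mm_le_stab)) fun o ho => by
    refine MonoidHom.mem_ker.2 (C.P.rep'_of_mem fun r hr => ?_)
    show (o : G) * r * (o : G)⁻¹ * r⁻¹ ∈ VL E
    convert inv_mem (hr.2 _ (mem_subgroupOf.1 ho)) using 1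
    show (o : G) * r * (o : G)⁻¹ * r⁻¹ = (r * (o : G) * r⁻¹ * (o : G)⁻¹)⁻¹
    group

theorem rho_cl (m : ↥C.MM) {r : G} (hr : r ∈ RR E) :
    C.rho (QuotientGroup.mk m) (C.P.cl r) = C.P.cl ((m : G) * r * (m : G)⁻¹) :=
  C.P.rep'_cl (inclusion C.mm_le_stab m) hr

/-- `E → M / O`. -/
noncomputable def theta : ↥E →* C.Gam := (QuotientGroup.mk' _).comp (inclusion C.le_mm)

theorem theta_cl (e : ↥E) {r : G} (hr : r ∈ RR E) :
    C.rho (C.theta e) (C.P.cl r) = C.P.cl ((e : G) * r * (e : G)⁻¹) := C.rho_cl _ hr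

/-- `rho` onto the derived group. -/
noncomputable def rhoT : ↥E →* ↥(commutator (Matrix.SpecialLinearGroup (Fin 2) F)) :=
  C.Dt.rho.codRestrict _ fun e => C.Dt.range ▸ ⟨e, rfl⟩

theorem rhoT_surj : Function.Surjective C.rhoT := fun r => by
  obtain ⟨e, he⟩ : r.1 ∈ C.Dt.rho.range := by rw [C.Dt.range]; exact r.2
  exact ⟨e, Subtype.ext he⟩

/-- `SL₂(F)' → M / O`. -/
noncomputable def psi : ↥(commutator (Matrix.SpecialLinearGroup (Fin 2) F)) →* C.Gam :=
  C.rhoT.liftOfSurjective C.rhoT_surj ⟨C.theta, fun e he => by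
    rw [MonoidHom.mem_ker] at he ⊢
    exact (QuotientGroup.eq_one_iff _).2 (mem_subgroupOf.2 (C.hQO (C.Dt.ker e (congrArg Subtype.val he))))⟩

theorem psi_rhoT (e : ↥E) : C.psi (C.rhoT e) = C.theta e :=
  MonoidHom.liftOfRightInverse_comp_apply _ _ _ _ _

theorem psi_nR : C.psi (nR F) = C.theta C.j := by
  rw [show nR F = C.rhoT C.j from Subtype.ext C.j_top.symm, psi_rhoT]

/-- The plane. -/
noncomputable def plane : (Fin 2 → F) →+ ↥C.P.car :=
  AddMonoidHom.mk' (fun x => C.P.cl (C.Dt.S.surj x).choose) fun x y => by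
    obtain ⟨hx, ex⟩ := (C.Dt.S.surj x).choose_spec
    obtain ⟨hy, ey⟩ := (C.Dt.S.surj y).choose_spec
    obtain ⟨hz, ez⟩ := (C.Dt.S.surj (x + y)).choose_spec
    rw [← C.P.cl_mul (C.qe_le_rr hx) (C.qe_le_rr hy)]
    exact C.P.cl_eq_of_mul_inv_mem (C.qe_le_rr hz) (C.qe_le_rr (mul_mem hx hy))
      (C.ww_le_vl ((C.Dt.S.f_eq_iff hz (mul_mem hx hy)).1 (by rw [ez, C.Dt.S.map_mul _ hx _ hy, ex, ey])))

theorem plane_f {q : G} (hq : q ∈ QE 3 E) : C.plane (C.Dt.S.f q) = C.P.cl q := by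
  obtain ⟨hx, ex⟩ := (C.Dt.S.surj (C.Dt.S.f q)).choose_spec
  exact C.P.cl_eq_of_mul_inv_mem (C.qe_le_rr hx) (C.qe_le_rr hq) (C.ww_le_vl ((C.Dt.S.f_eq_iff hx hq).1 ex))

theorem psi_plane (r : ↥(commutator (Matrix.SpecialLinearGroup (Fin 2) F))) (x : Fin 2 → F) :
    C.rho (C.psi r) (C.plane x) = C.plane (r.1.1.mulVec x) := by
  obtain ⟨e, rfl⟩ := C.rhoT_surj r
  obtain ⟨q, hq, rfl⟩ := C.Dt.S.surj x
  rw [C.plane_f hq, C.psi_rhoT, C.theta_cl e (C.qe_le_rr hq),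
    ← C.plane_f (C.Dt.S.conj_mem (C.Dt.norm e.2) hq), ← C.Dt.S.act_f (C.Dt.norm e.2) hq, C.Dt.act_rho]
  rfl

theorem rho_iso (g : C.Gam) (u v : ↥C.P.car) : C.P.pair (C.rho g u) (C.rho g v) = C.P.pair u v := by
  obtain ⟨m, rfl⟩ := QuotientGroup.mk_surjective g
  exact C.P.rep'_iso (inclusion C.mm_le_stab m) u v

/-- The pairing read on the plane. -/
noncomputable def omega : (Fin 2 → F) →+ (Fin 2 → F) →+ C.P.Val :=
  AddMonoidHom.mk' (fun x => (C.P.pair (C.plane x)).comp C.plane) fun x y => by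
    ext z
    simp

theorem omega_apply (x y : Fin 2 → F) : C.omega x y = C.P.pair (C.plane x) (C.plane y) := rfl

/-- The scalar reading. -/
noncomputable def lam : F →+ C.P.Val :=
  AddMonoidHom.mk' (fun a => C.omega ![a, 0] ![0, 1]) fun a b => by
    rw [← AddMonoidHom.add_apply, ← map_add]
    congr 2
    ext i; fin_cases i <;> simp

theorem pair_plane (x y : Fin 2 → F) : C.P.pair (C.plane x) (C.plane y) = C.lam (dt x y) :=
  form_det (F := F) C.hn (by rw [Nat.card_eq_fintype_card]; exact C.hcard) C.omega (fun x => C.P.pair_self _)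
    (fun r hr x y => by
      rw [omega_apply, omega_apply, ← C.psi_plane ⟨r, hr⟩ x, ← C.psi_plane ⟨r, hr⟩ y, C.rho_iso]) x y

theorem lam_injective : Function.Injective C.lam := by
  -- every value on `Z = [Q, Q]` is read
  have hmem : ∀ z ∈ ZZ 3 E, C.P.cls z ∈ C.lam.range := by
    intro z hz
    suffices h : ZZ 3 E ≤
        { carrier := {v | v ∈ VL E ∧ C.P.cls v ∈ C.lam.range}
          one_mem' := ⟨one_mem _, by rw [C.P.cls_one]; exact zero_mem _⟩
          mul_mem' := fun {a b} ha hb => ⟨mul_mem ha.1 hb.1, by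
            rw [C.P.cls_mul ha.1 hb.1]; exact add_mem ha.2 hb.2⟩
          inv_mem' := fun {a} ha => ⟨inv_mem ha.1, by
            rw [C.P.cls_inv ha.1]; exact neg_mem ha.2⟩ : Subgroup G } from (h hz).2
    rw [← C.hcomm, commutator_le]
    intro a ha b hb
    refine ⟨C.ww_le_vl (zz_le_ww E (C.hcomm.le (commutator_mem_commutator ha hb))), ?_⟩
    refine ⟨dt (C.Dt.S.f a) (C.Dt.S.f b), ?_⟩
    rw [← C.pair_plane, C.plane_f ha, C.plane_f hb, C.P.pair_cl (C.qe_le_rr ha) (C.qe_le_rr hb),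
      ClassTwo.br, commutatorElement_def]
  let g : ↥(ZZ 3 E) → Set.range C.lam := fun z => ⟨C.P.cls (z : G), hmem z z.2⟩
  have hg : Function.Injective g := fun z z' h => by
    have h' := congrArg Subtype.val h
    have hv := fun u : ↥(ZZ 3 E) => C.ww_le_vl (zz_le_ww E u.2)
    have h1 := (C.P.cls_eq_iff (hv z) (hv z')).1 h'
    exact Subtype.ext (mul_inv_eq_one.1 ((Subgroup.mem_bot).1
      (C.we_inf_zz ▸ Subgroup.mem_inf.2 ⟨h1, mul_mem z.2 (inv_mem z'.2)⟩)))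
  haveI : Finite (Set.range C.lam) := Set.finite_range _ |>.to_subtype
  have hsur : Function.Surjective (Set.rangeFactorization C.lam) := Set.rangeFactorization_surjective
  have h1 := Nat.card_le_card_of_injective g hg
  rw [C.hZcard, ← C.hcard, ← Nat.card_eq_fintype_card] at h1
  have h2 := (Nat.bijective_iff_surjective_and_card _).2 ⟨hsur, le_antisymm h1 (Nat.card_le_card_of_surjective _ hsur)⟩
  exact fun a b h => h2.1 (Subtype.ext h)

theorem plane_j (x : Fin 2 → F) : C.rho (C.psi (nR F)) (C.plane x) = -C.plane x := by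
  rw [C.psi_plane, show ((nR F).1).1 = -1 from rfl, Matrix.neg_mulVec, Matrix.one_mulVec, map_neg]

theorem psi_moves (r : ↥(commutator (Matrix.SpecialLinearGroup (Fin 2) F))) (u : ↥C.P.car) :
    ∃ x, C.rho (C.psi r) u = u + C.plane x := by
  obtain ⟨e, rfl⟩ := C.rhoT_surj r
  obtain ⟨s, hs, rfl⟩ := C.P.cl_surj u
  have hd : (e : G) * s * (e : G)⁻¹ * s⁻¹ ∈ QE 3 E := by
    convert inv_mem (C.ol_comm_mem_qe (rr_le_ol E hs) e.2) using 1
    group
  refine ⟨C.Dt.S.f ((e : G) * s * (e : G)⁻¹ * s⁻¹), ?_⟩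
  rw [C.psi_rhoT, C.theta_cl e hs, C.plane_f hd, add_comm, ← C.P.cl_mul (C.qe_le_rr hd) hs,
    inv_mul_cancel_right]

theorem psi_fix (r : ↥(commutator (Matrix.SpecialLinearGroup (Fin 2) F))) (u : ↥C.P.car)
    (hu : C.rho (C.psi (nR F)) u = u) : C.rho (C.psi r) u = u := by
  obtain ⟨x, hx⟩ := C.psi_moves r u
  have hc : C.psi (nR F) * C.psi r = C.psi r * C.psi (nR F) := by rw [← map_mul, ← map_mul, nR_comm]
  have h1 := DFunLike.congr_fun (congrArg C.rho hc) u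
  rw [map_mul, map_mul] at h1
  change C.rho (C.psi (nR F)) (C.rho (C.psi r) u) = C.rho (C.psi r) (C.rho (C.psi (nR F)) u) at h1
  rw [hu, hx, map_add, hu, C.plane_j, add_right_inj] at h1
  have h3 := C.P.car_three (C.plane x)
  rw [show C.plane x + C.plane x = 0 by nth_rewrite 1 [← h1]; exact neg_add_cancel _, zero_add] at h3
  rw [hx, h3, add_zero]

end ExcCore

end CfsgLib.LocalEven.Baumann
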