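import Cfsg.Agent.Lib.LocalEven.Baumann.ExcCore
import Cfsg.Agent.Lib.PLocal.Offender

/-!
No inverting element: the distinguished part of `M / O` is faithful, reduced and does not contain the involution.
Then `C(W_E)` normalizes `E`.
-/

set_option autoImplicit false
set_option linter.unusedSectionVars false

namespace CfsgLib.LocalEven.Baumann

open Subgroup CfsgLib.LocalEven CfsgLib.PLocal ThreeSL
open scoped commutatorElement

variable {G : Type*} [Group G] [Finite G]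

/-- A `p`-power of an element stabilizing `A ⊇ B ⊇ D` moves `A` into `D`. -/
theorem pow_descend {p : ℕ} [Fact p.Prime] {A : Set G} {B D : Subgroup G} {c : G} (hB : IsPGroup p B)
    (hcD : c ∈ normalizer (D : Set G)) (hA : ∀ a ∈ A, c * a * c⁻¹ * a⁻¹ ∈ B)
    (hcB : ∀ b ∈ B, c * b * c⁻¹ * b⁻¹ ∈ D) :
    ∃ k : ℕ, ∀ a ∈ A, c ^ p ^ k * a * (c ^ p ^ k)⁻¹ * a⁻¹ ∈ D := by
  obtain ⟨k, hk⟩ := IsPGroup.iff_card.1 hB
  refine ⟨k, fun a ha => ?_⟩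
  obtain ⟨z, hz⟩ : ∃ z, z = c * a * c⁻¹ * a⁻¹ := ⟨_, rfl⟩
  have hzB : z ∈ B := hz ▸ hA a ha
  have hit : ∀ n : ℕ, ∃ d ∈ D, c ^ n * a * (c ^ n)⁻¹ * a⁻¹ = d * z ^ n := fun n => by
    induction n with
    | zero => exact ⟨1, one_mem _, by simp⟩
    | succ n ih =>
      obtain ⟨d, hd, hn⟩ := ih
      refine ⟨(c * d * c⁻¹) * (c * z ^ n * c⁻¹ * (z ^ n)⁻¹),
        mul_mem ((mem_normalizer_iff.1 hcD d).1 hd) (hcB _ (pow_mem hzB n)), ?_⟩
      calc c ^ (n + 1) * a * (c ^ (n + 1))⁻¹ * a⁻¹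
          = (c * (c ^ n * a * (c ^ n)⁻¹ * a⁻¹) * c⁻¹) * z := by rw [pow_succ', hz]; group
        _ = _ := by rw [hn, pow_succ]; group
  obtain ⟨d, hd, hn⟩ := hit (p ^ k)
  have h1 : z ^ p ^ k = 1 := by
    have h3 : (⟨z, hzB⟩ : B) ^ Nat.card B = 1 := pow_card_eq_one'
    rw [hk] at h3
    simpa using congrArg Subtype.val h3
  rw [hn, h1, mul_one]
  exact hd

variable [Fact (Nat.Prime 3)]

namespace ExcCore

variable {T : Sylow 3 G} {E : Subgroup G} {F : Type} [Field F] [Fintype F] [CharP F 3] (C : ExcCore T E F)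

include C

/-- The kernel of `R → U`. -/
def Z₁ : Subgroup G where
  carrier := {r | r ∈ RR E ∧ C.P.cl r = 0}
  one_mem' := ⟨one_mem _, C.P.cl_eq_zero_of_mem (one_mem _)⟩
  mul_mem' := fun {a b} ha hb => ⟨mul_mem ha.1 hb.1, by rw [C.P.cl_mul ha.1 hb.1, ha.2, hb.2, add_zero]⟩
  inv_mem' := fun {a} ha => ⟨inv_mem ha.1, by rw [C.P.cl_inv ha.1, ha.2, neg_zero]⟩

theorem vl_le_z1 : VL E ≤ C.Z₁ := fun v hv => ⟨vl_le_rr E hv, C.P.cl_eq_zero_of_mem hv⟩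

theorem cl_eq_iff_z1 {g r : G} (hg : g ∈ normalizer (WE 3 E : Set G)) (hr : r ∈ RR E) :
    C.P.cl (g * r * g⁻¹) = C.P.cl r ↔ g * r * g⁻¹ * r⁻¹ ∈ C.Z₁ := by
  have hr' := (mem_normalizer_iff.1 (mem_normalizer_RR hg) r).1 hr
  constructor
  · intro h
    exact ⟨mul_mem hr' (inv_mem hr), by rw [C.P.cl_mul hr' (inv_mem hr), C.P.cl_inv hr, h, add_neg_cancel]⟩
  · intro h
    have h2 := h.2
    rw [C.P.cl_mul hr' (inv_mem hr), C.P.cl_inv hr, ← sub_eq_add_neg, sub_eq_zero] at h2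
    exact h2

theorem rho_eq_one_iff (m : ↥C.MM) :
    C.rho (QuotientGroup.mk m) = 1 ↔ ∀ r ∈ RR E, C.P.cl ((m : G) * r * (m : G)⁻¹) = C.P.cl r := by
  constructor
  · intro h r hr
    rw [← C.rho_cl m hr, h]; rfl
  · intro h
    refine DFunLike.ext _ _ fun u => ?_
    obtain ⟨r, hr, rfl⟩ := C.P.cl_surj u
    rw [C.rho_cl m hr, h r hr]; rfl

/-- The stabilizer of the chain. -/
def P₀ : Subgroup G where
  carrier := {g | g ∈ C.L₁ ∧ g ∈ centralizer (WE 3 E : Set G) ∧ ∀ r ∈ RR E, C.P.cl (g * r * g⁻¹) = C.P.cl r}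
  one_mem' := ⟨one_mem _, one_mem _, fun r _ => by simp⟩
  mul_mem' := fun {a b} ha hb => ⟨mul_mem ha.1 hb.1, mul_mem ha.2.1 hb.2.1, fun r hr => by
    rw [show a * b * r * (a * b)⁻¹ = a * (b * r * b⁻¹) * a⁻¹ by group,
      ha.2.2 _ ((mem_normalizer_iff.1 (mem_normalizer_RR hb.1.1) r).1 hr), hb.2.2 r hr]⟩
  inv_mem' := fun {a} ha => ⟨inv_mem ha.1, inv_mem ha.2.1, fun r hr => by
    have hr' := (mem_normalizer_iff.1 (mem_normalizer_RR (inv_mem ha.1.1)) r).1 hr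
    conv_rhs => rw [show r = a * (a⁻¹ * r * a⁻¹⁻¹) * a⁻¹ by group]
    rw [ha.2.2 _ hr']⟩

theorem p0_le_ol : C.P₀ ≤ OL E := by
  refine le_pCoreOf (fun g hg => hg.1.1) (fun g hg => ?_) (isPGroup_of_pow_mem (Q := OL E) C.isPGroup_ol ?_)
  · refine mem_normalizer_iff_map_conj_eq.2 (eq_of_le_of_card_ge ?_
      (Nat.card_congr (equivMapOfInjective _ _ (MulAut.conj g).injective).toEquiv).le)
    rintro _ ⟨c, hc, rfl⟩
    refine ⟨C.l1_conj hg hc.1, (mem_normalizer_iff.1 (normalizer_le_normalizer_centralizer _ hg) c).1 hc.2.1,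
      fun r hr => ?_⟩
    have hr' : g⁻¹ * r * g ∈ RR E := by
      have := (mem_normalizer_iff.1 (mem_normalizer_RR (inv_mem hg)) r).1 hr; simpa using this
    have h1 := C.P.cl_conj_congr (mem_normalizer_RR hg) hg
      ((mem_normalizer_iff.1 (mem_normalizer_RR hc.1.1) _).1 hr') hr' (hc.2.2 _ hr')
    show C.P.cl (g * c * g⁻¹ * r * (g * c * g⁻¹)⁻¹) = C.P.cl r
    convert h1 using 2 <;> group
  · intro c hc
    have hRp : IsPGroup 3 (RR E) := C.isPGroup_ol.to_le (rr_le_ol E)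
    obtain ⟨k₁, h1⟩ := pow_descend (A := (OL E : Set G)) (D := C.Z₁) hRp (c := c)
      (mem_normalizer_iff_map_conj_eq.2 (eq_of_le_of_card_ge (by
        rintro _ ⟨r, hr, rfl⟩
        exact ⟨(mem_normalizer_iff.1 (mem_normalizer_RR hc.1.1) r).1 hr.1, C.cl_zero_conj hc.1.1 hr.1 hr.2⟩)
        (Nat.card_congr (equivMapOfInjective _ _ (MulAut.conj c).injective).toEquiv).le))
      hc.1.2.1 (fun r hr => (C.cl_eq_iff_z1 hc.1.1 hr).1 (hc.2.2 r hr))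
    obtain ⟨c₁, hc₁⟩ : ∃ c₁, c₁ = c ^ 3 ^ k₁ := ⟨_, rfl⟩
    rw [← hc₁] at h1
    have hc₁P : c₁ ∈ C.P₀ := hc₁ ▸ pow_mem hc _
    obtain ⟨k₂, h2⟩ := pow_descend (A := (OL E : Set G)) (B := C.Z₁) (D := VL E)
      (hRp.to_le fun r hr => hr.1) (mem_normalizer_VL hc₁P.1.1) h1
      (fun r hr => hc₁P.1.2.2.1 r hr.1 hr.2)
    obtain ⟨c₂, hc₂⟩ : ∃ c₂, c₂ = c₁ ^ 3 ^ k₂ := ⟨_, rfl⟩
    rw [← hc₂] at h2
    have hc₂P : c₂ ∈ C.P₀ := hc₂ ▸ pow_mem hc₁P _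
    obtain ⟨k₃, h3⟩ := pow_descend (A := (OL E : Set G)) (D := WE 3 E)
      (C.isPGroup_ol.to_le (omegaOneCenter_le _)) hc₂P.1.1 h2 (fun v hv => hc₂P.1.2.2.2 v hv)
    obtain ⟨c₃, hc₃⟩ : ∃ c₃, c₃ = c₂ ^ 3 ^ k₃ := ⟨_, rfl⟩
    rw [← hc₃] at h3
    have hc₃P : c₃ ∈ C.P₀ := hc₃ ▸ pow_mem hc₂P _
    obtain ⟨k₄, h4⟩ := exists_pow_mem_centralizer (C.isPGroup_ol.to_le C.we_le_ol) h3 hc₃P.2.1
    refine ⟨k₁ + k₂ + k₃ + k₄, ?_⟩
    rw [pow_add, pow_add, pow_add, pow_mul, pow_mul, pow_mul, ← hc₁, ← hc₂, ← hc₃]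
    exact C.centralizer_ol_le h4

/-- The distinguished part of `M / O`. -/
def XX : Subgroup C.Gam :=
  ((centralizer (WE 3 E : Set G)).subgroupOf C.MM).map (QuotientGroup.mk' _)

theorem xx_normal : C.XX.Normal := by
  haveI : ((centralizer (WE 3 E : Set G)).subgroupOf C.MM).Normal :=
    normal_subgroupOf_of_le_normalizer fun g hg => normalizer_le_normalizer_centralizer _ (C.mm_le_L hg)
  exact Subgroup.Normal.map inferInstance _ (QuotientGroup.mk'_surjective _)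

theorem exists_l1 {x : C.Gam} (hx : x ∈ C.XX) : ∃ (l : G) (hl : l ∈ C.L₁),
    l ∈ centralizer (WE 3 E : Set G) ∧ QuotientGroup.mk (⟨l, C.l1_le_mm hl⟩ : ↥C.MM) = x := by
  obtain ⟨g, hg, rfl⟩ := hx
  obtain ⟨o, ho, l, hl, hgl⟩ := C.mem_mm.1 g.2
  have hl' : l = o⁻¹ * (g : G) := by rw [hgl]; group
  refine ⟨l, hl, hl' ▸ mul_mem (inv_mem (C.ol_centralizes_we ho)) (mem_subgroupOf.1 hg), ?_⟩
  refine (QuotientGroup.eq.2 ?_)
  rw [mem_subgroupOf]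
  show (l : G)⁻¹ * (g : G) ∈ OL E
  rw [hgl, show l⁻¹ * (o * l) = l⁻¹ * o * l⁻¹⁻¹ by group]
  exact (mem_normalizer_iff.1 (mem_normalizer_OL (inv_mem hl.1)) o).1 ho

theorem xx_faithful {x : C.Gam} (hx : x ∈ C.XX) (h : C.rho x = 1) : x = 1 := by
  obtain ⟨l, hl, hlW, rfl⟩ := C.exists_l1 hx
  exact (QuotientGroup.eq_one_iff _).2 (mem_subgroupOf.2
    (C.p0_le_ol ⟨hl, hlW, (C.rho_eq_one_iff _).1 h⟩))

theorem xx_pcore (N : Subgroup C.Gam) (hN : N.Normal) (hNp : IsPGroup 3 N) : N = ⊥ := by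
  obtain ⟨N', hN'⟩ : ∃ N', N' = N.comap (QuotientGroup.mk' ((OL E).subgroupOf C.MM)) := ⟨_, rfl⟩
  have hp : IsPGroup 3 N' := hN' ▸ hNp.comap_of_ker_isPGroup _ (by
    rw [QuotientGroup.ker_mk']
    exact C.isPGroup_ol.comap_of_injective C.MM.subtype C.MM.subtype_injective)
  haveI : N'.Normal := hN' ▸ hN.comap _
  have h1 : N'.map C.MM.subtype ≤ Cfsg.pCoreOf 3 C.MM := map_mono (le_sSup ⟨inferInstance, hp⟩)
  have h2 : Cfsg.pCoreOf 3 C.MM ≤ OL E :=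
    le_pCoreOf ((pCoreOf_le _ _).trans C.mm_le_L)
      (fun g hg => mem_normalizer_pCoreOf (C.mem_normalizer_MM hg)) (isPGroup_pCoreOf _)
  rw [eq_bot_iff]
  intro x hx
  obtain ⟨m, rfl⟩ := QuotientGroup.mk_surjective x
  rw [Subgroup.mem_bot]
  exact (QuotientGroup.eq_one_iff _).2 (mem_subgroupOf.2 (h2 (h1 ⟨m, hN' ▸ mem_comap.2 hx, rfl⟩)))

omit C in
theorem we_pow {w : G} (hw : w ∈ WE 3 E) : w ^ 3 = 1 := exponent_ww E w (we_le_ww E hw)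

theorem eq_one_of_ol_sq {o : G} (ho : o ∈ OL E) (h : o * o = 1) : o = 1 := by
  obtain ⟨k, hk⟩ := C.isPGroup_ol ⟨o, ho⟩
  exact eq_one_of_sq_of_three (n := k) (by simpa using congrArg Subtype.val hk) (by rw [sq, h])

/-- An element of `B(T)` moving `W_E`, quadratic on `W_E` and on `Q / W`. -/
theorem exists_quad_elt : ∃ b ∈ Cfsg.baumannSubgroupOf 3 (T : Subgroup G),
    b ∉ centralizer (WE 3 E : Set G) ∧
    (∀ w ∈ WE 3 E, b * (b * w * b⁻¹ * w⁻¹) * b⁻¹ * (b * w * b⁻¹ * w⁻¹)⁻¹ = 1) ∧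
    ∀ q ∈ QE 3 E, b * (b * q * b⁻¹ * q⁻¹) * b⁻¹ * (b * q * b⁻¹ * q⁻¹)⁻¹ ∈ WW 3 E := by
  have hG := C.hG
  have hE := C.hE
  have hVe : Cfsg.IsElementaryAbelian 3 (WE 3 E) :=
    ⟨⟨⟨fun a c => Subtype.ext (C.ww_comm (we_le_ww E a.2) (we_le_ww E c.2))⟩⟩, fun a ha => we_pow ha⟩
  have hVT : WE 3 E ≤ (T : Subgroup G) :=
    (we_le_vv hG hE).trans ((omegaOneCenter_le _).trans (CfsgLib.Base.pCore_le_sylow T))
  obtain ⟨A, hA, hAW⟩ : ∃ A ∈ maxEAOf 3 (T : Subgroup G), ¬ A ≤ centralizer (WE 3 E : Set G) := by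
    by_contra h
    push Not at h
    obtain ⟨j, hj, hjW⟩ := exists_jElt hG hE
    rw [thompsonSubgroupOf_eq_sSup] at hj
    exact hjW ((sSup_le h : _ ≤ _) hj)
  have hAN : A ≤ normalizer (WE 3 E : Set G) := fun a ha => mem_normalizer_WE
    (baumann_le_normalizer hE (thompson_le_baumann (T : Subgroup G) (le_thompsonSubgroupOf hA ha)))
  obtain ⟨h1, h2, h3⟩ := maxEA_replacement hVe hVT hA.1 hA hAN
  have hne : ⁅WE 3 E, A⁆ ≠ ⊥ := fun h => hAW (by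
    rw [commutator_comm, commutator_eq_bot_iff_le_centralizer] at h; exact h)
  obtain ⟨A₀, hA₀⟩ : ∃ A₀, A₀ = ⁅WE 3 E, A⁆ ⊔ (A ⊓ centralizer ((⁅WE 3 E, A⁆ : Subgroup G) : Set G)) := ⟨_, rfl⟩
  rw [← hA₀] at h1 h2 h3
  obtain ⟨b, hb, hbW⟩ : ∃ b ∈ A₀, b ∉ centralizer (WE 3 E : Set G) := by
    by_contra h
    push Not at h
    refine h3 hne ?_
    rw [commutator_comm, commutator_eq_bot_iff_le_centralizer]
    exact h
  have hbB := thompson_le_baumann (T : Subgroup G) (le_thompsonSubgroupOf h1 hb)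
  have hbN := baumann_le_normalizer hE hbB
  have hq1 : ∀ w ∈ WE 3 E, b * (b * w * b⁻¹ * w⁻¹) * b⁻¹ * (b * w * b⁻¹ * w⁻¹)⁻¹ = 1 := by
    intro w hw
    have hc : ⁅w, b⁆ ∈ ⁅WE 3 E, A₀⁆ := commutator_mem_commutator hw hb
    have hcb := (mem_centralizer_iff.1 ((commutator_eq_bot_iff_le_centralizer.1 h2) hc)) b hb
    rw [show b * w * b⁻¹ * w⁻¹ = (⁅w, b⁆)⁻¹ by rw [commutatorElement_def]; group,
      (Commute.inv_right (hcb : Commute b ⁅w, b⁆)).eq]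
    group
  refine ⟨b, hbB, hbW, hq1, ?_⟩
  have hb3 : b ^ 3 ^ 1 = 1 := by rw [pow_one]; exact h1.2.1.2 b hb
  have hbn := mem_bot_nrm C.Db hbN
  obtain ⟨σ, hσ⟩ := C.Db.exists_semilinear (four_le_or_prime C.hn C.hcard) hbN hbn
  have hlin : IsLin (C.Db.S.act b) := by
    refine isLin_of_quad two_ne_zero' (C.Db.S.act_injective_apply hbn) σ hσ fun v => ?_
    obtain ⟨u, hu, rfl⟩ := C.Db.S.surj v
    have hnZ : WE 3 E ≤ normalizer (ZZ 3 E : Set G) := fun x hx =>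
      mem_normalizer_ZZ (le_normalizer (we_le_self E hx))
    have hu' := hu
    rw [ww_eq_sup hG hE, ← SetLike.mem_coe, coe_mul_of_left_le_normalizer_right _ _ hnZ] at hu'
    obtain ⟨w, hw, z, hz, rfl⟩ := Set.mem_mul.1 hu'
    have hwW := we_le_ww E hw
    have hfw : C.Db.S.f (w * z) = C.Db.S.f w := by
      rw [C.Db.S.map_mul _ hwW _ (zz_le_ww E hz), (C.Db.S.ker z (zz_le_ww E hz)).2 hz, add_zero]
    have hbw := C.Db.S.conj_mem hbn hwW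
    have hd : b * w * b⁻¹ * w⁻¹ ∈ WW 3 E := mul_mem hbw (inv_mem hwW)
    have hfd : C.Db.S.act b (C.Db.S.f w) - C.Db.S.f w = C.Db.S.f (b * w * b⁻¹ * w⁻¹) := by
      rw [C.Db.S.act_f hbn hwW, C.Db.S.map_mul _ hbw _ (inv_mem hwW), C.Db.S.f_inv hwW, sub_eq_add_neg]
    rw [hfw, hfd, C.Db.S.act_f hbn hd, mul_inv_eq_one.1 (hq1 w hw)]
  have htl := top_isLin hG hE C.hn C.hcard C.Db C.Dt hbN hlin hb3
  have hbt := mem_top_nrm C.Dt hbN
  obtain ⟨M, hM, hMsq⟩ := exists_SL_of_isLin C.Dt.S hbt htl hb3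
  intro u hu
  have hbu := C.Dt.S.conj_mem hbt hu
  have hy : b * u * b⁻¹ * u⁻¹ ∈ QE 3 E := mul_mem hbu (inv_mem hu)
  have hby := C.Dt.S.conj_mem hbt hy
  rw [← C.Dt.S.ker _ (mul_mem hby (inv_mem hy)), C.Dt.S.map_mul _ hby _ (inv_mem hy), C.Dt.S.f_inv hy,
    ← C.Dt.S.act_f hbt hy, C.Dt.S.map_mul _ hbu _ (inv_mem hu), C.Dt.S.f_inv hu, ← C.Dt.S.act_f hbt hu, hM]
  have h0 : (M.1 - 1).mulVec ((M.1 - 1).mulVec (C.Dt.S.f u)) = 0 := by
    rw [Matrix.mulVec_mulVec, hMsq, Matrix.zero_mulVec]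
  simp only [Matrix.sub_mulVec, Matrix.one_mulVec, Matrix.mulVec_sub] at h0
  simp only [mv_apply, ← sub_eq_add_neg, Matrix.mulVec_sub]
  exact h0

/-- No involution inverts `W_E` and centralizes `O / W_E`. -/
theorem no_involution {z : G} (hzL : z ∈ C.L₁) (hz : z * z = 1)
    (hinv : ∀ w ∈ WE 3 E, z * w * z⁻¹ = w⁻¹) (htr : ∀ o ∈ OL E, z * o * z⁻¹ * o⁻¹ ∈ WE 3 E) : False := by
  have hG := C.hG
  have hE := C.hE
  have hzi : z⁻¹ = z := inv_eq_of_mul_eq_one_right hz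
  have hWc : ∀ w ∈ WE 3 E, ∀ o ∈ OL E, w * o = o * w := fun w hw o ho =>
    mem_centralizer_iff.1 (C.ol_centralizes_we ho) w hw
  have hfix : ∀ w ∈ WE 3 E, z * w = w * z → w = 1 := fun w hw h => by
    have h1 := hinv w hw
    rw [h, mul_inv_cancel_right] at h1
    exact C.eq_one_of_ol_sq (C.we_le_ol hw) (by nth_rewrite 1 [h1]; rw [inv_mul_cancel])
  have hdec : ∀ o ∈ OL E, ∃ u ∈ WE 3 E, ∃ o₀ ∈ OL E, o = u * o₀ ∧ z * o₀ = o₀ * z := by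
    intro o ho
    obtain ⟨w, hw⟩ : ∃ w, w = z * o * z⁻¹ * o⁻¹ := ⟨_, rfl⟩
    have hwW : w ∈ WE 3 E := hw ▸ htr o ho
    refine ⟨w, hwW, w⁻¹ * o, mul_mem (inv_mem (C.we_le_ol hwW)) ho, by group, ?_⟩
    have h1 : z * o * z⁻¹ = w * o := by rw [hw]; group
    have h3 : w * w = w⁻¹ := eq_inv_of_mul_eq_one_left (by rw [← sq, ← pow_succ]; exact we_pow hwW)
    rw [← mul_inv_eq_iff_eq_mul, show z * (w⁻¹ * o) * z⁻¹ = (z * w * z⁻¹)⁻¹ * (z * o * z⁻¹) by group,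
      hinv w hwW, inv_inv, h1, ← mul_assoc, h3]
  obtain ⟨b, hbB, hbW, hq1, hq2⟩ := C.exists_quad_elt
  have hbN := baumann_le_normalizer hE hbB
  have hbL := mem_normalizer_WE (p := 3) hbN
  -- `b` normalizes `C_O(z)`
  have hb₀ : ∀ o ∈ OL E, z * o = o * z → z * (b * o * b⁻¹) = b * o * b⁻¹ * z := by
    obtain ⟨z', hz'⟩ : ∃ z', z' = b * z * b⁻¹ := ⟨_, rfl⟩
    have hz'L : z' ∈ C.L₁ := hz' ▸ C.l1_conj hbL hzL
    have hz'2 : z' * z' = 1 := by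
      rw [hz', show b * z * b⁻¹ * (b * z * b⁻¹) = b * (z * z) * b⁻¹ by group, hz, mul_one, mul_inv_cancel]
    have hinv' : ∀ w ∈ WE 3 E, z' * w * z'⁻¹ = w⁻¹ := fun w hw => by
      have hw' : b⁻¹ * w * b ∈ WE 3 E := by
        have := (mem_normalizer_iff.1 (inv_mem hbL) w).1 hw; simpa using this
      rw [hz', show b * z * b⁻¹ * w * (b * z * b⁻¹)⁻¹ = b * (z * (b⁻¹ * w * b) * z⁻¹) * b⁻¹ by group,
        hinv _ hw']
      group
    have htr' : ∀ o ∈ OL E, z' * o * z'⁻¹ * o⁻¹ ∈ WE 3 E := fun o ho => by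
      have ho' : b⁻¹ * o * b ∈ OL E := by
        have := (mem_normalizer_iff.1 (mem_normalizer_OL (inv_mem hbL)) o).1 ho; simpa using this
      have := (mem_normalizer_iff.1 hbL _).1 (htr _ ho')
      rw [hz']
      convert this using 1
      group
    have hmP : z' * z ∈ C.P₀ := by
      refine ⟨mul_mem hz'L hzL, mem_centralizer_iff.2 fun w hw => ?_, fun r hr => ?_⟩
      · have h1 : z' * z * w * (z' * z)⁻¹ = w := by
          rw [show z' * z * w * (z' * z)⁻¹ = z' * (z * w * z⁻¹) * z'⁻¹ by group, hinv w hw,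
            hinv' _ (inv_mem hw), inv_inv]
        exact (mul_inv_eq_iff_eq_mul.1 h1).symm
      · have hr1 := (mem_normalizer_iff.1 (mem_normalizer_RR hzL.1) r).1 hr
        rw [show z' * z * r * (z' * z)⁻¹ = z' * (z * r * z⁻¹) * z'⁻¹ by group,
          C.P.cl_eq_of_mul_inv_mem ((mem_normalizer_iff.1 (mem_normalizer_RR hz'L.1) _).1 hr1) hr1
            (C.P.hWV (htr' _ (rr_le_ol E hr1))),
          C.P.cl_eq_of_mul_inv_mem hr1 hr (C.P.hWV (htr r (rr_le_ol E hr)))]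
    obtain ⟨w₁, hw₁, m₀, hm₀, hm, hmz⟩ := hdec _ (C.p0_le_ol hmP)
    have hm₀1 : m₀ = 1 := by
      refine C.eq_one_of_ol_sq hm₀ ?_
      have e : z' = w₁ * m₀ * z := by
        rw [← hm, mul_assoc, hz, mul_one]
      rw [← hz'2, e]
      have c1 : m₀ * z * w₁ = z * w₁ * m₀ := by
        rw [← hmz, mul_assoc, ← hWc w₁ hw₁ m₀ hm₀, mul_assoc]
      symm
      calc w₁ * m₀ * z * (w₁ * m₀ * z) = w₁ * (m₀ * z * w₁) * (m₀ * z) := by group
        _ = w₁ * (z * w₁ * z⁻¹) * (z * m₀ * m₀ * z) := by rw [c1]; group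
        _ = z * m₀ * m₀ * z := by rw [hinv w₁ hw₁, mul_inv_cancel, one_mul]
        _ = m₀ * z * m₀ * z := by rw [hmz]
        _ = m₀ * (z * m₀) * z := by group
        _ = m₀ * (m₀ * z) * z := by rw [hmz]
        _ = m₀ * m₀ := by rw [mul_assoc, mul_assoc, hz, mul_one]
    have hzw : z = w₁⁻¹ * z' := by
      have e : z' = w₁ * z := by
        rw [hm₀1, mul_one] at hm
        rw [← hm, mul_assoc, hz, mul_one]
      rw [e, inv_mul_cancel_left]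
    intro o ho hzo
    have hbo := (mem_normalizer_iff.1 (mem_normalizer_OL hbL) o).1 ho
    have h1 : z' * (b * o * b⁻¹) = b * o * b⁻¹ * z' := by
      rw [hz', show b * z * b⁻¹ * (b * o * b⁻¹) = b * (z * o) * b⁻¹ by group, hzo]; group
    rw [hzw, mul_assoc, h1, ← mul_assoc, hWc _ (inv_mem hw₁) _ hbo, mul_assoc]
  -- the centre of the block commutes with `z`
  have hZz : ∀ t ∈ ZZ 3 E, z * t = t * z := by
    suffices h : ZZ 3 E ≤ centralizer {z} from fun t ht => (mem_centralizer_singleton_iff.1 (h ht)).symm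
    rw [← C.hcomm, commutator_le]
    intro a ha c hc
    obtain ⟨u, hu, a₀, ha₀, rfl, hza⟩ := hdec a (C.hQO ha)
    obtain ⟨v, hv, c₀, hc₀, rfl, hzc⟩ := hdec c (C.hQO hc)
    have k2 : a₀ * v = v * a₀ := (hWc v hv a₀ ha₀).symm
    have k1 : u * (a₀ * c₀ * a₀⁻¹) = a₀ * c₀ * a₀⁻¹ * u :=
      hWc u hu _ (mul_mem (mul_mem ha₀ hc₀) (inv_mem ha₀))
    have k3 : u * v = v * u := hWc u hu v (C.we_le_ol hv)
    have k4 : v * (a₀ * c₀ * a₀⁻¹ * c₀⁻¹) = a₀ * c₀ * a₀⁻¹ * c₀⁻¹ * v :=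
      hWc v hv _ (mul_mem (mul_mem (mul_mem ha₀ hc₀) (inv_mem ha₀)) (inv_mem hc₀))
    have e1 : ⁅u * a₀, v * c₀⁆ = ⁅a₀, c₀⁆ := by
      simp only [commutatorElement_def]
      calc u * a₀ * (v * c₀) * (u * a₀)⁻¹ * (v * c₀)⁻¹
          = u * (a₀ * v) * c₀ * a₀⁻¹ * u⁻¹ * c₀⁻¹ * v⁻¹ := by group
        _ = (u * v) * (a₀ * c₀ * a₀⁻¹) * u⁻¹ * c₀⁻¹ * v⁻¹ := by rw [k2]; group
        _ = v * (u * (a₀ * c₀ * a₀⁻¹)) * u⁻¹ * c₀⁻¹ * v⁻¹ := by rw [k3]; group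
        _ = v * (a₀ * c₀ * a₀⁻¹ * c₀⁻¹) * v⁻¹ := by rw [k1]; group
        _ = _ := by rw [k4, mul_inv_cancel_right]
    rw [e1, mem_centralizer_singleton_iff, commutatorElement_def]
    have ca : Commute z a₀ := hza
    have cc : Commute z c₀ := hzc
    exact (((ca.mul_right cc).mul_right ca.inv_right).mul_right cc.inv_right).eq.symm
  refine C.hquad b hbB (fun h => hbW (centralizer_le (we_le_ww E) h)) ?_
  rw [C.hcen]
  refine commutator_commutator_le_of_quad (mem_normalizer_pCoreOf hbN) (mem_normalizer_ZZ hbN)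
    (fun q hq => mem_normalizer_ZZ (le_normalizer (pCoreOf_le 3 E hq)))
    (fun x hx y hy => C.hcomm.le (by rw [← commutatorElement_def]; exact commutator_mem_commutator hx hy)) ?_
  intro q hq
  obtain ⟨u, hu, q₀, hq₀, rfl, hzq⟩ := hdec q (C.hQO hq)
  have huQ : u ∈ QE 3 E := ww_le E (we_le_ww E hu)
  have hq₀Q : q₀ ∈ QE 3 E := by
    have := mul_mem (inv_mem huQ) hq
    rwa [inv_mul_cancel_left] at this
  have hbQ : ∀ x ∈ QE 3 E, b * x * b⁻¹ ∈ QE 3 E := fun x hx =>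
    (mem_normalizer_iff.1 (mem_normalizer_pCoreOf hbN) x).1 hx
  obtain ⟨cu, hcu⟩ : ∃ cu, cu = b * u * b⁻¹ * u⁻¹ := ⟨_, rfl⟩
  obtain ⟨cq, hcq⟩ : ∃ cq, cq = b * q₀ * b⁻¹ * q₀⁻¹ := ⟨_, rfl⟩
  have hcuW : cu ∈ WW 3 E := hcu ▸ we_le_ww E (mul_mem ((mem_normalizer_iff.1 hbL u).1 hu) (inv_mem hu))
  have hcqQ : cq ∈ QE 3 E := hcq ▸ mul_mem (hbQ _ hq₀Q) (inv_mem hq₀Q)
  have e1 : b * (u * q₀) * b⁻¹ * (u * q₀)⁻¹ = cu * cq := by
    rw [hcu, hcq]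
    have k : u⁻¹ * (b * q₀ * b⁻¹ * q₀⁻¹) = b * q₀ * b⁻¹ * q₀⁻¹ * u⁻¹ :=
      ww_commute (inv_mem (we_le_ww E hu)) (mul_mem (hbQ _ hq₀Q) (inv_mem hq₀Q))
    calc b * (u * q₀) * b⁻¹ * (u * q₀)⁻¹ = b * u * b⁻¹ * (b * q₀ * b⁻¹ * q₀⁻¹ * u⁻¹) := by group
      _ = b * u * b⁻¹ * (u⁻¹ * (b * q₀ * b⁻¹ * q₀⁻¹)) := by rw [k]
      _ = _ := by group
  rw [e1]
  have hbcu : b * cu * b⁻¹ = cu := by rw [hcu]; exact mul_inv_eq_one.1 (hq1 u hu)
  obtain ⟨v, hv⟩ : ∃ v, v = b * cq * b⁻¹ * cq⁻¹ := ⟨_, rfl⟩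
  have hvW : v ∈ WW 3 E := by rw [hv, hcq]; exact hq2 _ hq₀Q
  have e2 : b * (cu * cq) * b⁻¹ * (cu * cq)⁻¹ = v := by
    calc b * (cu * cq) * b⁻¹ * (cu * cq)⁻¹ = b * cu * b⁻¹ * (b * cq * b⁻¹ * cq⁻¹) * cu⁻¹ := by group
      _ = v := by rw [hbcu, ← hv, ww_commute hcuW (ww_le E hvW), mul_inv_cancel_right]
  rw [e2]
  have hzv : Commute z v := by
    have c1 : Commute z (b * q₀ * b⁻¹) := hb₀ _ hq₀ hzq
    have c2 : Commute z cq := hcq ▸ c1.mul_right (Commute.inv_right hzq)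
    have c3 : Commute z (b * cq * b⁻¹) := hb₀ _ (C.hQO hcqQ) c2
    exact hv ▸ c3.mul_right c2.inv_right
  have hnZ : WE 3 E ≤ normalizer (ZZ 3 E : Set G) := fun x hx => mem_normalizer_ZZ (le_normalizer (we_le_self E hx))
  rw [ww_eq_sup hG hE, ← SetLike.mem_coe, coe_mul_of_left_le_normalizer_right _ _ hnZ] at hvW
  obtain ⟨i, hi, t, ht, hit⟩ := Set.mem_mul.1 hvW
  have hzi' : Commute z i := by
    have : Commute z (v * t⁻¹) := hzv.mul_right (Commute.inv_right (hZz t ht))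
    rwa [← hit, mul_inv_cancel_right] at this
  rw [← hit, hfix i hi hzi', one_mul]
  exact ht

theorem xx_split {x : C.Gam} (hx : x ∈ C.XX) : C.rho x ≠ C.rho (C.psi (nR F)) := by
  intro hxj
  obtain ⟨l, hl, hlW, rfl⟩ := C.exists_l1 hx
  obtain ⟨z, hzdef⟩ : ∃ z, z = l * (C.j : G) := ⟨_, rfl⟩
  have hzL : z ∈ C.L₁ := hzdef ▸ mul_mem hl (C.le_l1 C.j.2)
  have hinv : ∀ w ∈ WE 3 E, z * w * z⁻¹ = w⁻¹ := fun w hw => by
    rw [hzdef, show l * (C.j : G) * w * (l * (C.j : G))⁻¹ = l * ((C.j : G) * w * (C.j : G)⁻¹) * l⁻¹ by group,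
      C.j_conj_we hw, ← mem_centralizer_iff.1 hlW _ (inv_mem hw), mul_inv_cancel_right]
  have hz1 : C.rho (QuotientGroup.mk (⟨z, C.l1_le_mm hzL⟩ : ↥C.MM)) = 1 := by
    have e : (⟨z, C.l1_le_mm hzL⟩ : ↥C.MM) = ⟨l, C.l1_le_mm hl⟩ * inclusion C.le_mm C.j := Subtype.ext hzdef
    rw [e, QuotientGroup.mk_mul, map_mul, hxj,
      show (QuotientGroup.mk (inclusion C.le_mm C.j) : C.Gam) = C.psi (nR F) by rw [C.psi_nR]; rfl,
      ← map_mul, ← map_mul, show nR F * nR F = 1 from Subtype.ext nM_sq, map_one, map_one]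
  have hzcl := (C.rho_eq_one_iff _).1 hz1
  have hz2W : z * z ∈ centralizer (WE 3 E : Set G) := mem_centralizer_iff.2 fun w hw => by
    have h1 : z * z * w * (z * z)⁻¹ = w := by
      rw [show z * z * w * (z * z)⁻¹ = z * (z * w * z⁻¹) * z⁻¹ by group, hinv w hw, hinv _ (inv_mem hw), inv_inv]
    exact (mul_inv_eq_iff_eq_mul.1 h1).symm
  have hz2 : z * z ∈ OL E := C.p0_le_ol ⟨mul_mem hzL hzL, hz2W, fun r hr => by
    have hr1 := (mem_normalizer_iff.1 (mem_normalizer_RR hzL.1) r).1 hr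
    rw [show z * z * r * (z * z)⁻¹ = z * (z * r * z⁻¹) * z⁻¹ by group, hzcl _ hr1, hzcl r hr]⟩
  obtain ⟨k, hk⟩ := C.isPGroup_ol ⟨_, hz2⟩
  obtain ⟨m, hm⟩ : Odd (3 ^ k) := Odd.pow (by decide)
  obtain ⟨z₀, hz₀⟩ : ∃ z₀, z₀ = z ^ 3 ^ k := ⟨_, rfl⟩
  have hsq : z₀ * z₀ = 1 := by
    have h := congrArg Subtype.val hk
    simp only [SubmonoidClass.coe_pow, OneMemClass.coe_one] at h
    rw [hz₀, ← (Commute.refl z).mul_pow]
    exact h
  have hz₀L : z₀ ∈ C.L₁ := hz₀ ▸ pow_mem hzL _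
  have hz₀e : z₀ = (z * z) ^ m * z := by rw [hz₀, hm, pow_succ, pow_mul, sq]
  have hinv₀ : ∀ w ∈ WE 3 E, z₀ * w * z₀⁻¹ = w⁻¹ := fun w hw => by
    rw [hz₀e, show (z * z) ^ m * z * w * ((z * z) ^ m * z)⁻¹ = (z * z) ^ m * (z * w * z⁻¹) * ((z * z) ^ m)⁻¹ by group,
      hinv w hw, ← mem_centralizer_iff.1 (pow_mem hz2W m) _ (inv_mem hw), mul_inv_cancel_right]
  have hcl₀ : ∀ r ∈ RR E, C.P.cl (z₀ * r * z₀⁻¹) = C.P.cl r := by
    refine (C.rho_eq_one_iff ⟨z₀, C.l1_le_mm hz₀L⟩).1 ?_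
    rw [show (⟨z₀, C.l1_le_mm hz₀L⟩ : ↥C.MM) = ⟨z, C.l1_le_mm hzL⟩ ^ 3 ^ k from Subtype.ext (by simp [hz₀]),
      QuotientGroup.mk_pow, map_pow, hz1, one_pow]
  have hodd : ∀ r ∈ OL E, (orderOf r).Coprime 2 := fun r hr => by
    obtain ⟨i, hi⟩ := C.isPGroup_ol ⟨r, hr⟩
    exact Nat.Coprime.coprime_dvd_left (orderOf_dvd_of_pow_eq_one (n := 3 ^ i) (by simpa using congrArg Subtype.val hi))
      ((by norm_num : Nat.Coprime 3 2).pow_left i)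
  refine C.no_involution hz₀L hsq hinv₀ fun o ho => ?_
  have h1 : z₀ * o * z₀⁻¹ * o⁻¹ ∈ C.Z₁ := sq_descend hsq (hz₀L.2.1 o ho)
    (fun r hr => (C.cl_eq_iff_z1 hz₀L.1 hr).1 (hcl₀ r hr)) (fun r hr => hodd r (rr_le_ol E hr))
  have h2 : z₀ * o * z₀⁻¹ * o⁻¹ ∈ VL E := sq_descend hsq h1
    (fun r hr => hz₀L.2.2.1 r hr.1 hr.2) (fun r hr => hodd r (rr_le_ol E hr.1))
  exact sq_descend hsq h2 (fun v hv => hz₀L.2.2.2 v hv) (fun v hv => hodd v (omegaOneCenter_le _ hv))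

/-- The pairing. -/
noncomputable def pairing : Pairing C.Gam ↥C.P.car C.P.Val F where
  β := C.P.pair
  alt := C.P.pair_self
  nd := C.P.pair_nd
  three := C.P.car_three
  three' := C.P.val_three
  deg := C.n
  deg_pos := C.hn
  card_eq := by rw [Nat.card_eq_fintype_card]; exact C.hcard
  ρ := C.rho
  iso := C.rho_iso
  f := C.plane
  lam := C.lam
  lam_inj := C.lam_injective
  β_f := C.pair_plane
  ψ := C.psi
  ψ_f := C.psi_plane
  ψ_fix := C.psi_fix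
  j_mem := C.psi_moves (nR F)
  X := C.XX
  X_normal := C.xx_normal
  faithful := fun _ hx h => C.xx_faithful hx h
  split := fun _ hx => C.xx_split hx
  pcore := fun N hN _ hp => C.xx_pcore N hN hp

/-- Conjugation by an element of `C(W_E)` on `M / O`. -/
noncomputable def sigma {x : G} (hx : x ∈ centralizer (WE 3 E : Set G)) : C.Gam →* C.Gam :=
  QuotientGroup.map _ _
    (((MulAut.conj x).toMonoidHom.comp C.MM.subtype).codRestrict C.MM fun m =>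
      (mem_normalizer_iff.1 (C.mem_normalizer_MM (centralizer_le_normalizer _ hx)) _).1 m.2)
    fun o ho => mem_comap.2 (mem_subgroupOf.2
      ((mem_normalizer_iff.1 (mem_normalizer_OL (centralizer_le_normalizer _ hx)) _).1 (mem_subgroupOf.1 ho)))

/-- The twist of an element of `C(W_E)`. -/
noncomputable def twist {x : G} (hx : x ∈ centralizer (WE 3 E : Set G)) : C.pairing.Twist where
  σ := C.sigma hx
  τ := C.P.transport x (mem_normalizer_RR (centralizer_le_normalizer _ hx)) (centralizer_le_normalizer _ hx)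
  hρ g u := by
    obtain ⟨m, rfl⟩ := QuotientGroup.mk_surjective g
    obtain ⟨r, hr, rfl⟩ := C.P.cl_surj u
    have hxn := centralizer_le_normalizer _ hx
    have hm := C.mm_le_L m.2
    have hR : x ∈ normalizer (C.P.R : Set G) := mem_normalizer_RR hxn
    have hr' : (m : G) * r * (m : G)⁻¹ ∈ C.P.R := (mem_normalizer_iff.1 (mem_normalizer_RR hm) r).1 hr
    refine (congrArg (C.rho (C.sigma hx (QuotientGroup.mk m))) (C.P.transport_cl hR hxn hr)).trans ?_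
    refine Eq.trans ?_ (congrArg (C.P.transport x hR hxn) (C.rho_cl m hr)).symm
    refine Eq.trans ?_ (C.P.transport_cl hR hxn hr').symm
    refine (C.rho_cl ⟨x * (m : G) * x⁻¹, (mem_normalizer_iff.1 (C.mem_normalizer_MM hxn) _).1 m.2⟩
      ((mem_normalizer_iff.1 (mem_normalizer_RR hxn) r).1 hr)).trans ?_
    congr 1
    group
  horth u v h := C.P.transport_perp _ _ u v h
  hX r := by
    obtain ⟨e, rfl⟩ := C.rhoT_surj r
    show C.sigma hx (C.psi (C.rhoT e)) * (C.psi (C.rhoT e))⁻¹ ∈ C.XX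
    rw [C.psi_rhoT]
    have hxn := centralizer_le_normalizer _ hx
    refine ⟨⟨x * (e : G) * x⁻¹, (mem_normalizer_iff.1 (C.mem_normalizer_MM hxn) _).1 (C.le_mm e.2)⟩ *
      (inclusion C.le_mm e)⁻¹, mem_subgroupOf.2 (conj_comm_mem_centralizer hx (C.le_L e.2)), ?_⟩
    rw [map_mul, map_inv]
    rfl

/-- `C(W_E)` normalizes `E`. -/
theorem centralizer_we_le : centralizer (WE 3 E : Set G) ≤ normalizer (E : Set G) := by
  intro x hx
  refine mem_normalizer_of_sup_pgroup C.hE C.ol_le_normalizer C.isPGroup_ol fun e he => ?_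
  have h : C.sigma hx (C.psi (C.rhoT ⟨e, he⟩)) = C.psi (C.rhoT ⟨e, he⟩) := C.pairing.twist_eq (C.twist hx) _
  rw [C.psi_rhoT] at h
  have h1 : x * e * x⁻¹ * e⁻¹ ∈ OL E := by
    have h' := mul_inv_eq_one.2 h
    have hm := (mem_normalizer_iff.1 (C.mem_normalizer_MM (centralizer_le_normalizer _ hx)) _).1 (C.le_mm he)
    have h2 : (QuotientGroup.mk ((⟨x * e * x⁻¹, hm⟩ : ↥C.MM) * ⟨e, C.le_mm he⟩⁻¹) : C.Gam) = 1 := h'
    exact mem_subgroupOf.1 ((QuotientGroup.eq_one_iff _).1 h2)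
  rw [show x * e * x⁻¹ = (x * e * x⁻¹ * e⁻¹) * e by group]
  exact mul_mem (mem_sup_right h1) (mem_sup_left he)

end ExcCore

end CfsgLib.LocalEven.Baumann
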