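import Cfsg.Agent.Lib.LocalEven.Baumann.Basic

/-!
The commutator pairing on a class two section: `U = R / {r | [r, R] ≤ W}` as additive functions
on `R` with values in `V / W`.
-/

set_option autoImplicit false
set_option linter.unusedSectionVars false

namespace CfsgLib.LocalEven.Baumann

open Subgroup

variable {G : Type*} [Group G]

/-- `W ≤ V ≤ R`, `V` central in `R` of exponent three, `[R, R] ≤ V`. -/
structure ClassTwo (G : Type*) [Group G] where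
  R : Subgroup G
  V : Subgroup G
  W : Subgroup G
  hWV : W ≤ V
  hVR : V ≤ R
  hRR : ∀ r ∈ R, ∀ s ∈ R, r * s * r⁻¹ * s⁻¹ ∈ V
  hcent : ∀ v ∈ V, ∀ r ∈ R, v * r = r * v
  h3 : ∀ v ∈ V, v ^ 3 = 1

namespace ClassTwo

variable (P : ClassTwo G)

instance commV : CommGroup ↥P.V :=
  { (inferInstance : Group ↥P.V) with mul_comm := fun a b => Subtype.ext (P.hcent a a.2 b (P.hVR b.2)) }

/-- `V / W`, additively. -/
abbrev Val := Additive (↥P.V ⧸ P.W.subgroupOf P.V)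

/-- The class of an element of `V`. -/
noncomputable def cls (v : G) : P.Val :=
  haveI := Classical.dec (v ∈ P.V)
  if h : v ∈ P.V then Additive.ofMul (QuotientGroup.mk ⟨v, h⟩) else 0

theorem cls_mk {v : G} (hv : v ∈ P.V) : P.cls v = Additive.ofMul (QuotientGroup.mk ⟨v, hv⟩) := by
  rw [cls, dif_pos hv]

theorem cls_mul {a b : G} (ha : a ∈ P.V) (hb : b ∈ P.V) : P.cls (a * b) = P.cls a + P.cls b := by
  rw [P.cls_mk ha, P.cls_mk hb, P.cls_mk (mul_mem ha hb)]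
  rfl

theorem cls_eq_zero {a : G} (ha : a ∈ P.V) : P.cls a = 0 ↔ a ∈ P.W := by
  rw [P.cls_mk ha, ← ofMul_one, Additive.ofMul.apply_eq_iff_eq, QuotientGroup.eq_one_iff, mem_subgroupOf]

theorem cls_one : P.cls 1 = 0 := (P.cls_eq_zero (one_mem _)).2 (one_mem _)

theorem cls_inv {a : G} (ha : a ∈ P.V) : P.cls a⁻¹ = -P.cls a := by
  rw [eq_neg_iff_add_eq_zero, ← P.cls_mul (inv_mem ha) ha, inv_mul_cancel, P.cls_one]

theorem cls_eq_iff {a b : G} (ha : a ∈ P.V) (hb : b ∈ P.V) : P.cls a = P.cls b ↔ a * b⁻¹ ∈ P.W := by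
  rw [← sub_eq_zero, sub_eq_add_neg, ← P.cls_inv hb, ← P.cls_mul ha (inv_mem hb),
    P.cls_eq_zero (mul_mem ha (inv_mem hb))]

theorem val_three (a : P.Val) : a + a + a = 0 := by
  obtain ⟨q, rfl⟩ := Additive.ofMul.surjective a
  obtain ⟨⟨v, hv⟩, rfl⟩ := QuotientGroup.mk_surjective q
  rw [← P.cls_mk hv, ← P.cls_mul hv hv, ← P.cls_mul (mul_mem hv hv) hv,
    show v * v * v = v ^ 3 by rw [pow_succ, pow_two], P.h3 v hv, P.cls_one]

/-- The pairing on `R`. -/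
noncomputable def br (r s : G) : P.Val := P.cls (r * s * r⁻¹ * s⁻¹)

theorem br_mul_left {r r' s : G} (hr : r ∈ P.R) (hr' : r' ∈ P.R) (hs : s ∈ P.R) :
    P.br (r * r') s = P.br r s + P.br r' s := by
  have h2 := P.hRR r' hr' s hs
  rw [br, br, br, add_comm, ← P.cls_mul h2 (P.hRR r hr s hs),
    show r * r' * s * (r * r')⁻¹ * s⁻¹ = (r * (r' * s * r'⁻¹ * s⁻¹) * r⁻¹) * (r * s * r⁻¹ * s⁻¹) by group,
    ← P.hcent _ h2 r hr, mul_inv_cancel_right]

theorem br_mul_right {r s s' : G} (hr : r ∈ P.R) (hs : s ∈ P.R) (hs' : s' ∈ P.R) :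
    P.br r (s * s') = P.br r s + P.br r s' := by
  have h2 := P.hRR r hr s' hs'
  rw [br, br, br, ← P.cls_mul (P.hRR r hr s hs) h2,
    show r * (s * s') * r⁻¹ * (s * s')⁻¹ = (r * s * r⁻¹ * s⁻¹) * (s * (r * s' * r⁻¹ * s'⁻¹) * s⁻¹) by group,
    ← P.hcent _ h2 s hs, mul_inv_cancel_right]

theorem br_self (r : G) : P.br r r = 0 := by
  rw [br, mul_inv_cancel_right, mul_inv_cancel, P.cls_one]

theorem br_swap {r s : G} (hr : r ∈ P.R) (hs : s ∈ P.R) : P.br s r = -P.br r s := by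
  rw [br, br, ← P.cls_inv (P.hRR r hr s hs)]
  congr 1
  group

/-- `r ↦ [r, -]`. -/
noncomputable def psi : ↥P.R →* Multiplicative (↥P.R → P.Val) where
  toFun r := Multiplicative.ofAdd fun s => P.br r s
  map_one' := by
    rw [← ofAdd_zero]
    congr 1
    funext s
    show P.br ((1 : P.R) : G) (s : G) = 0
    rw [br, OneMemClass.coe_one, one_mul, inv_one, mul_one, mul_inv_cancel, P.cls_one]
  map_mul' r r' := by
    rw [← ofAdd_add]
    congr 1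
    funext s
    exact P.br_mul_left r.2 r'.2 s.2

/-- `U`. -/
noncomputable def car : AddSubgroup (↥P.R → P.Val) := P.psi.range.toAddSubgroup'

theorem mem_car {φ : ↥P.R → P.Val} : φ ∈ P.car ↔ ∃ r : ↥P.R, ∀ s, φ s = P.br r s := by
  constructor
  · rintro ⟨r, hr⟩
    exact ⟨r, fun s => (congrFun (Multiplicative.ofAdd.injective hr) s).symm⟩
  · rintro ⟨r, hr⟩
    exact ⟨r, congrArg Multiplicative.ofAdd (funext fun s => (hr s).symm)⟩

/-- The image of an element of `R`. -/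
noncomputable def cl (r : G) : ↥P.car :=
  haveI := Classical.dec (r ∈ P.R)
  if h : r ∈ P.R then ⟨fun s => P.br r s, P.mem_car.2 ⟨⟨r, h⟩, fun _ => rfl⟩⟩ else 0

theorem cl_apply {r : G} (hr : r ∈ P.R) (s : ↥P.R) : (P.cl r).1 s = P.br r s := by
  rw [cl, dif_pos hr]

theorem cl_surj (u : ↥P.car) : ∃ r ∈ P.R, P.cl r = u := by
  obtain ⟨r, hr⟩ := P.mem_car.1 u.2
  exact ⟨r, r.2, Subtype.ext (funext fun s => by rw [P.cl_apply r.2, hr])⟩

theorem cl_mul {a b : G} (ha : a ∈ P.R) (hb : b ∈ P.R) : P.cl (a * b) = P.cl a + P.cl b :=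
  Subtype.ext (funext fun s => by
    show _ = (P.cl a).1 s + (P.cl b).1 s
    rw [P.cl_apply (mul_mem ha hb), P.cl_apply ha, P.cl_apply hb, P.br_mul_left ha hb s.2])

theorem cl_eq_zero {a : G} (ha : a ∈ P.R) : P.cl a = 0 ↔ ∀ s ∈ P.R, a * s * a⁻¹ * s⁻¹ ∈ P.W := by
  constructor
  · intro h s hs
    have h1 := P.cl_apply ha ⟨s, hs⟩
    rw [h] at h1
    exact (P.cls_eq_zero (P.hRR a ha s hs)).1 h1.symm
  · intro h
    refine Subtype.ext (funext fun s => ?_)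
    rw [P.cl_apply ha]
    exact (P.cls_eq_zero (P.hRR a ha s s.2)).2 (h s s.2)

theorem cl_eq_zero_of_mem {v : G} (hv : v ∈ P.V) : P.cl v = 0 :=
  (P.cl_eq_zero (P.hVR hv)).2 fun s hs => by
    rw [P.hcent v hv s hs, mul_inv_cancel_right, mul_inv_cancel]; exact one_mem _

theorem cl_inv {a : G} (ha : a ∈ P.R) : P.cl a⁻¹ = -P.cl a := by
  rw [eq_neg_iff_add_eq_zero, ← P.cl_mul (inv_mem ha) ha, inv_mul_cancel, P.cl_eq_zero_of_mem (one_mem _)]

theorem cl_eq_of_mul_inv_mem {a b : G} (ha : a ∈ P.R) (hb : b ∈ P.R) (h : a * b⁻¹ ∈ P.V) :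
    P.cl a = P.cl b := by
  rw [show a = a * b⁻¹ * b by group, P.cl_mul (P.hVR h) hb, P.cl_eq_zero_of_mem h, zero_add]

theorem cl_sub_eq_zero {a b : G} (ha : a ∈ P.R) (hb : b ∈ P.R) (h : P.cl a = P.cl b) :
    ∀ s ∈ P.R, (a * b⁻¹) * s * (a * b⁻¹)⁻¹ * s⁻¹ ∈ P.W :=
  (P.cl_eq_zero (mul_mem ha (inv_mem hb))).1 (by rw [P.cl_mul ha (inv_mem hb), P.cl_inv hb, h, add_neg_cancel])

/-- A representative. -/
noncomputable def rep (u : ↥P.car) : ↥P.R := ⟨(P.cl_surj u).choose, (P.cl_surj u).choose_spec.1⟩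

theorem cl_rep (u : ↥P.car) : P.cl (P.rep u) = u := (P.cl_surj u).choose_spec.2

theorem apply_congr (u : ↥P.car) {s t : ↥P.R} (h : P.cl s = P.cl (t : G)) : u.1 s = u.1 t := by
  obtain ⟨r, hr, rfl⟩ := P.cl_surj u
  rw [P.cl_apply hr, P.cl_apply hr, P.br_swap s.2 hr, P.br_swap t.2 hr, ← P.cl_apply s.2 ⟨r, hr⟩, h,
    P.cl_apply t.2 ⟨r, hr⟩]

/-- The pairing on `U`. -/
noncomputable def pair : ↥P.car →+ ↥P.car →+ P.Val :=
  AddMonoidHom.mk' (fun u => AddMonoidHom.mk' (fun v => u.1 (P.rep v)) fun v v' => by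
      obtain ⟨r, hr, rfl⟩ := P.cl_surj u
      rw [P.apply_congr (P.cl r) (t := ⟨P.rep v * P.rep v', mul_mem (P.rep v).2 (P.rep v').2⟩)
        (by rw [P.cl_rep, P.cl_mul (P.rep v).2 (P.rep v').2, P.cl_rep, P.cl_rep]),
        P.cl_apply hr, P.cl_apply hr, P.cl_apply hr, P.br_mul_right hr (P.rep v).2 (P.rep v').2])
    fun u u' => AddMonoidHom.ext fun v => rfl

theorem pair_cl {r s : G} (hr : r ∈ P.R) (hs : s ∈ P.R) : P.pair (P.cl r) (P.cl s) = P.br r s := by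
  show (P.cl r).1 (P.rep (P.cl s)) = _
  rw [P.apply_congr (P.cl r) (t := ⟨s, hs⟩) (P.cl_rep _), P.cl_apply hr]

theorem pair_self (u : ↥P.car) : P.pair u u = 0 := by
  obtain ⟨r, hr, rfl⟩ := P.cl_surj u
  rw [P.pair_cl hr hr, P.br_self]

theorem pair_nd (u : ↥P.car) (h : ∀ v, P.pair u v = 0) : u = 0 := by
  obtain ⟨r, hr, rfl⟩ := P.cl_surj u
  refine Subtype.ext (funext fun s => ?_)
  rw [P.cl_apply hr, ← P.pair_cl hr s.2, h]
  rfl

theorem car_three (u : ↥P.car) : u + u + u = 0 := Subtype.ext (funext fun s => P.val_three (u.1 s))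

/-- The elements acting on the section and trivially on `V / W`. -/
def stab : Subgroup G where
  carrier := {g | g ∈ normalizer (P.R : Set G) ∧ g ∈ normalizer (P.V : Set G) ∧
    g ∈ normalizer (P.W : Set G) ∧ ∀ v ∈ P.V, g * v * g⁻¹ * v⁻¹ ∈ P.W}
  one_mem' := ⟨one_mem _, one_mem _, one_mem _, fun v _ => by simp⟩
  mul_mem' := fun {a b} ha hb => ⟨mul_mem ha.1 hb.1, mul_mem ha.2.1 hb.2.1, mul_mem ha.2.2.1 hb.2.2.1,
    fun v hv => by
      rw [show a * b * v * (a * b)⁻¹ * v⁻¹ = (a * (b * v * b⁻¹ * v⁻¹) * a⁻¹) * (a * v * a⁻¹ * v⁻¹) by group]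
      exact mul_mem ((mem_normalizer_iff.1 ha.2.2.1 _).1 (hb.2.2.2 v hv)) (ha.2.2.2 v hv)⟩
  inv_mem' := fun {a} ha => ⟨inv_mem ha.1, inv_mem ha.2.1, inv_mem ha.2.2.1, fun v hv => by
    have hv' : a⁻¹ * v * a ∈ P.V := by
      have := (mem_normalizer_iff.1 (inv_mem ha.2.1) v).1 hv; simpa using this
    rw [show a⁻¹ * v * a⁻¹⁻¹ * v⁻¹ = (a * (a⁻¹ * v * a) * a⁻¹ * (a⁻¹ * v * a)⁻¹)⁻¹ by group]
    exact inv_mem (ha.2.2.2 _ hv')⟩

theorem stab_conj {g r : G} (hg : g ∈ P.stab) (hr : r ∈ P.R) : g * r * g⁻¹ ∈ P.R :=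
  (mem_normalizer_iff.1 hg.1 r).1 hr

theorem br_conj {g r s : G} (hg : g ∈ P.stab) (hr : r ∈ P.R) (hs : s ∈ P.R) :
    P.br (g * r * g⁻¹) (g * s * g⁻¹) = P.br r s := by
  have h := P.hRR r hr s hs
  rw [br, br, show g * r * g⁻¹ * (g * s * g⁻¹) * (g * r * g⁻¹)⁻¹ * (g * s * g⁻¹)⁻¹
    = g * (r * s * r⁻¹ * s⁻¹) * g⁻¹ by group, P.cls_eq_iff ((mem_normalizer_iff.1 hg.2.1 _).1 h) h]
  exact hg.2.2.2 _ h

/-- Conjugation on `U`. -/
noncomputable def conjEnd (g : ↥P.stab) : AddMonoid.End ↥P.car :=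
  { toFun := fun u => ⟨fun s => u.1 ⟨(g : G)⁻¹ * s * g, by
        have := P.stab_conj (inv_mem g.2) s.2; rwa [inv_inv] at this⟩, by
      obtain ⟨r, hr, rfl⟩ := P.cl_surj u
      refine P.mem_car.2 ⟨⟨_, P.stab_conj g.2 hr⟩, fun s => ?_⟩
      have hs' : (g : G)⁻¹ * s * g ∈ P.R := by
        have := P.stab_conj (inv_mem g.2) s.2; rwa [inv_inv] at this
      rw [P.cl_apply hr, ← P.br_conj g.2 hr hs']
      congr 1
      group⟩
    map_zero' := rfl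
    map_add' := fun _ _ => rfl }

theorem conjEnd_cl (g : ↥P.stab) {r : G} (hr : r ∈ P.R) :
    P.conjEnd g (P.cl r) = P.cl ((g : G) * r * (g : G)⁻¹) := by
  refine Subtype.ext (funext fun s => ?_)
  have hs' : (g : G)⁻¹ * s * g ∈ P.R := by
    have := P.stab_conj (inv_mem g.2) s.2; rwa [inv_inv] at this
  show (P.cl r).1 ⟨(g : G)⁻¹ * s * g, hs'⟩ = _
  rw [P.cl_apply hr, P.cl_apply (P.stab_conj g.2 hr), ← P.br_conj g.2 hr hs']
  congr 1
  group

/-- The representation. -/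
noncomputable def rep' : ↥P.stab →* AddMonoid.End ↥P.car where
  toFun := P.conjEnd
  map_one' := DFunLike.ext _ _ fun u => by
    obtain ⟨r, hr, rfl⟩ := P.cl_surj u
    rw [P.conjEnd_cl 1 hr, OneMemClass.coe_one, one_mul, inv_one, mul_one]
    rfl
  map_mul' g h := DFunLike.ext _ _ fun u => by
    obtain ⟨r, hr, rfl⟩ := P.cl_surj u
    show _ = P.conjEnd g (P.conjEnd h (P.cl r))
    rw [P.conjEnd_cl (g * h) hr, P.conjEnd_cl h hr, P.conjEnd_cl g (P.stab_conj h.2 hr)]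
    congr 1
    rw [Subgroup.coe_mul]
    group

theorem rep'_cl (g : ↥P.stab) {r : G} (hr : r ∈ P.R) :
    P.rep' g (P.cl r) = P.cl ((g : G) * r * (g : G)⁻¹) := P.conjEnd_cl g hr

theorem rep'_iso (g : ↥P.stab) (u v : ↥P.car) : P.pair (P.rep' g u) (P.rep' g v) = P.pair u v := by
  obtain ⟨r, hr, rfl⟩ := P.cl_surj u
  obtain ⟨s, hs, rfl⟩ := P.cl_surj v
  rw [P.rep'_cl g hr, P.rep'_cl g hs, P.pair_cl (P.stab_conj g.2 hr) (P.stab_conj g.2 hs), P.pair_cl hr hs,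
    P.br_conj g.2 hr hs]

/-- An element of `R` acts trivially. -/
theorem rep'_of_mem {o : ↥P.stab} (ho : ∀ r ∈ P.R, (o : G) * r * (o : G)⁻¹ * r⁻¹ ∈ P.V) : P.rep' o = 1 :=
  DFunLike.ext _ _ fun u => by
    obtain ⟨r, hr, rfl⟩ := P.cl_surj u
    rw [P.rep'_cl o hr]
    exact P.cl_eq_of_mul_inv_mem (P.stab_conj o.2 hr) hr (ho r hr)

end ClassTwo

end CfsgLib.LocalEven.Baumann
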