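import Cfsg.Agent.Lib.LocalEven.Baumann.Linear

/-!
Linearity on the top section of an exceptional block, and the part of `N(E)` trivial on both sections.
-/

set_option autoImplicit false
set_option linter.unusedSectionVars false

namespace CfsgLib.LocalEven.Baumann

open Subgroup CfsgLib.LocalEven CfsgLib.PLocal
open scoped commutatorElement

/-- A quadratic semilinear map in odd characteristic is linear. -/
theorem isLin_of_quad {F : Type*} [Field F] (h2 : (2 : F) ≠ 0) {φ : AddMonoid.End (Fin 2 → F)}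
    (hinj : Function.Injective φ) (σ : F ≃+* F) (hσ : ∀ (c : F) (v : Fin 2 → F), φ (c • v) = σ c • φ v)
    (hquad : ∀ v, φ (φ v - v) = φ v - v) : IsLin φ := by
  suffices h : ∀ c, σ c = c from fun c v => by rw [hσ, h]
  by_cases hv : ∃ v, ∀ k : F, φ v ≠ k • v
  · obtain ⟨v, hv⟩ := hv
    intro c
    have hq : ∀ u, φ (φ u) = φ u + (φ u - u) := fun u => by
      have := hquad u
      rw [map_sub, sub_eq_iff_eq_add] at this
      rw [this]; abel
    have e1 := hq (c • v)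
    rw [hσ, hσ, hq v] at e1
    have e2 : ((2 : F) * σ (σ c) - 2 * σ c) • φ v = (σ (σ c) - c) • v := by
      have e : σ (σ c) • (φ v + (φ v - v)) - (σ c • φ v + (σ c • φ v - c • v)) = 0 := sub_eq_zero.2 e1
      have e' : ((2 : F) * σ (σ c) - 2 * σ c) • φ v - (σ (σ c) - c) • v = 0 := by
        rw [← e]; module
      exact sub_eq_zero.1 e'
    have h0 : (2 : F) * σ (σ c) - 2 * σ c = 0 := by
      by_contra hne
      refine hv (((2 : F) * σ (σ c) - 2 * σ c)⁻¹ * (σ (σ c) - c)) ?_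
      rw [← smul_smul, ← e2, smul_smul, inv_mul_cancel₀ hne, one_smul]
    have hsc : σ (σ c) = σ c := sub_eq_zero.1 ((mul_eq_zero.1 (by rw [mul_sub]; exact h0)).resolve_left h2)
    exact σ.injective hsc
  · push Not at hv
    intro c
    obtain ⟨a, ha⟩ := hv ![1, 0]
    obtain ⟨b, hb⟩ := hv ![0, 1]
    obtain ⟨l, hl⟩ := hv (![1, 0] + ![0, 1])
    obtain ⟨k, hk⟩ := hv (c • ![1, 0] + ![0, 1])
    rw [map_add, ha, hb] at hl
    rw [map_add, hσ, ha, hb] at hk
    have a0 := congrFun hl 0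
    have a1 := congrFun hl 1
    have b0 := congrFun hk 0
    have b1 := congrFun hk 1
    simp at a0 a1 b0 b1
    have hane : a ≠ 0 := fun h => by
      rw [h, zero_smul] at ha
      have := congrFun (hinj (ha.trans (map_zero φ).symm)) 0
      simp at this
    exact mul_right_cancel₀ hane (by rw [b0, ← b1, a1, ← a0, mul_comm])

variable {G : Type*} [Group G] [Finite G] {p : ℕ} [Fact p.Prime]

theorem mem_sup_of_normal {E X : Subgroup G} (hX : X ≤ normalizer (E : Set G)) {g : G} :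
    g ∈ E ⊔ X ↔ ∃ e ∈ E, ∃ x ∈ X, g = e * x := by
  rw [← SetLike.mem_coe, coe_mul_of_right_le_normalizer_left E X hX, Set.mem_mul]
  exact ⟨fun ⟨e, he, x, hx, h⟩ => ⟨e, he, x, hx, h.symm⟩, fun ⟨e, he, x, hx, h⟩ => ⟨e, he, x, hx, h.symm⟩⟩

/-- The elements of `N(E)` trivial on `W_E` and on `O_p(E) / W`. -/
def topKer (p : ℕ) (E : Subgroup G) : Subgroup G where
  carrier := {c | c ∈ normalizer (E : Set G) ∧ c ∈ centralizer (WE p E : Set G) ∧
    ∀ q ∈ QE p E, c * q * c⁻¹ * q⁻¹ ∈ WW p E}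
  one_mem' := ⟨one_mem _, one_mem _, fun q _ => by simp⟩
  mul_mem' := fun {a b} ha hb => ⟨mul_mem ha.1 hb.1, mul_mem ha.2.1 hb.2.1, fun q hq => by
    rw [show a * b * q * (a * b)⁻¹ * q⁻¹ = (a * (b * q * b⁻¹ * q⁻¹) * a⁻¹) * (a * q * a⁻¹ * q⁻¹) by group]
    exact mul_mem ((mem_normalizer_iff.1 (mem_normalizer_WW ha.1) _).1 (hb.2.2 q hq)) (ha.2.2 q hq)⟩
  inv_mem' := fun {a} ha => ⟨inv_mem ha.1, inv_mem ha.2.1, fun q hq => by
    have hq' : a⁻¹ * q * a ∈ QE p E := by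
      have := (mem_normalizer_iff.1 (mem_normalizer_pCoreOf (inv_mem ha.1)) q).1 hq; simpa using this
    rw [show a⁻¹ * q * a⁻¹⁻¹ * q⁻¹ = (a * (a⁻¹ * q * a) * a⁻¹ * (a⁻¹ * q * a)⁻¹)⁻¹ by group]
    exact inv_mem (ha.2.2 _ hq')⟩

theorem topKer_le (E : Subgroup G) : topKer p E ≤ normalizer (E : Set G) := fun _ h => h.1

theorem mem_normalizer_topKer {E : Subgroup G} {g : G} (hg : g ∈ normalizer (E : Set G)) :
    ∀ c ∈ topKer p E, g * c * g⁻¹ ∈ topKer p E := fun c hc =>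
  ⟨mul_mem (mul_mem hg hc.1) (inv_mem hg),
    (mem_normalizer_iff.1 (normalizer_le_normalizer_centralizer _ (mem_normalizer_WE hg)) c).1 hc.2.1,
    fun q hq => by
      have hq' : g⁻¹ * q * g ∈ QE p E := by
        have := (mem_normalizer_iff.1 (mem_normalizer_pCoreOf (inv_mem hg)) q).1 hq; simpa using this
      rw [show g * c * g⁻¹ * q * (g * c * g⁻¹)⁻¹ * q⁻¹
        = g * (c * (g⁻¹ * q * g) * c⁻¹ * (g⁻¹ * q * g)⁻¹) * g⁻¹ by group]
      exact (mem_normalizer_iff.1 (mem_normalizer_WW hg) _).1 (hc.2.2 _ hq')⟩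

variable {T : Sylow p G} {E : Subgroup G}
variable (hG : centralizer (Cfsg.pCore p G : Set G) ≤ Cfsg.pCore p G)
  (hE : Cfsg.IsBaumannBlock p (T : Subgroup G) E)
include hG hE

/-- A linear `p`-element on `W / Z` is linear on the top section. -/
theorem top_isLin {F : Type} [Field F] [Fintype F] {n : ℕ} (hn : 0 < n) (hcard : Fintype.card F = p ^ n)
    (Db : NatSec p E (WW p E) (ZZ p E) F) (Dt : NatSec p E (QE p E) (WW p E) F) {g : G}
    (hg : g ∈ normalizer (E : Set G)) (hl : IsLin (Db.S.act g)) {k : ℕ} (hk : g ^ p ^ k = 1) :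
    IsLin (Dt.S.act g) := by
  rcases four_le_or_prime hn hcard with h4 | hprime
  swap
  · exact isLin_of_prime hprime _
  haveI := CfsgLib.LocalEven.Natural.charP_of_card (p := p) hcard
  obtain ⟨M, hM, -⟩ := exists_SL_of_isLin Db.S (mem_bot_nrm Db hg) hl hk
  obtain ⟨e, he⟩ : M ∈ Db.rho.range := by rw [Db.range, commutator_eq_top_of_four h4]; trivial
  have hc : (e : G)⁻¹ * g ∈ normalizer (E : Set G) := mul_mem (inv_mem (le_normalizer e.2)) hg
  have hcW : (e : G)⁻¹ * g ∈ centralizer (WE p E : Set G) :=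
    centralizes_we_of_trivial hG hE hc ((Db.S.act_eq_one_iff (mem_bot_nrm Db hc)).1
      ((Db.S.act_eq_iff (mem_bot_nrm Db hg) (Db.norm e.2)).1 (by rw [hM, Db.act_rho, he])))
  obtain ⟨c, hc'⟩ := exists_scalar_top hG hE (by omega) Dt hc hcW
  have h1 : Dt.S.act g = mv (Dt.rho e).1 * Dt.S.act ((e : G)⁻¹ * g) := by
    rw [← Dt.act_rho, ← Dt.S.act_mul (Dt.norm e.2) (mem_top_nrm Dt hc), mul_inv_cancel_left]
  rw [h1]
  exact (isLin_mv _).mul fun a v => by rw [hc', hc', smul_smul, smul_smul, mul_comm]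

/-- An element trivial on `W_E` modulo `Z` acts trivially on `W / Z`. -/
theorem mem_centralizer_we_of_we {g : G} (hg : g ∈ normalizer (E : Set G))
    (h : ∀ v ∈ WE p E, g * v * g⁻¹ * v⁻¹ ∈ ZZ p E) : g ∈ centralizer (WE p E : Set G) := by
  refine centralizes_we_of_trivial hG hE hg fun u hu => ?_
  rw [ww_eq_sup hG hE, ← SetLike.mem_coe, coe_mul_of_left_le_normalizer_right (WE p E) (ZZ p E)
    (fun x hx => mem_normalizer_ZZ (le_normalizer (we_le_self E hx)))] at hu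
  obtain ⟨v, hv, z, hz, rfl⟩ := Set.mem_mul.1 hu
  have hz' : g * z * g⁻¹ * z⁻¹ ∈ ZZ p E :=
    mul_mem ((mem_normalizer_iff.1 (mem_normalizer_ZZ hg) z).1 hz) (inv_mem hz)
  have hcz : v * (g * z * g⁻¹ * z⁻¹) * v⁻¹ = g * z * g⁻¹ * z⁻¹ := by
    rw [← zz_commute hz' (we_le_self E hv), mul_inv_cancel_right]
  rw [show g * (v * z) * g⁻¹ * (v * z)⁻¹
    = (g * v * g⁻¹ * v⁻¹) * (v * (g * z * g⁻¹ * z⁻¹) * v⁻¹) by group, hcz]
  exact mul_mem (h v hv) hz'

end CfsgLib.LocalEven.Baumann
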