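import Cfsg.Agent.Lib.LocalEven.Baumann.CaseB
import Cfsg.Agent.Lib.LocalEven.Baumann.TopAction
import Cfsg.Agent.Lib.LocalEven.Baumann.SecPairing

/-!
Tools for the centralizer of `W_E`: normalizing `E` through a `p`-group, the commutator with `W_E`,
coprime descent along a chain, and the transport of a pairing by a normalizing element.
-/

set_option autoImplicit false
set_option linter.unusedSectionVars false

namespace CfsgLib.LocalEven.Baumann

open Subgroup CfsgLib.LocalEven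
open scoped commutatorElement

variable {G : Type*} [Group G]

/-- An element of order two moving `a` into `B`, and `B` into `C`, moves `a` into `C`. -/
theorem sq_descend {z a : G} {B C : Subgroup G} (hz : z * z = 1)
    (ha : z * a * z⁻¹ * a⁻¹ ∈ B) (hB : ∀ b ∈ B, z * b * z⁻¹ * b⁻¹ ∈ C)
    (hodd : ∀ b ∈ B, (orderOf b).Coprime 2) : z * a * z⁻¹ * a⁻¹ ∈ C := by
  have hzi : z⁻¹ = z := inv_eq_of_mul_eq_one_right hz
  have h := hB _ ha
  rw [show z * (z * a * z⁻¹ * a⁻¹) * z⁻¹ * (z * a * z⁻¹ * a⁻¹)⁻¹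
    = (z * z) * a * z⁻¹ * a⁻¹ * z⁻¹ * (a * z * a⁻¹ * z⁻¹) by group, hz, one_mul, hzi] at h
  refine Subgroup.inv_mem_iff _ |>.1 (mem_of_pow_two_mem (x := (z * a * z⁻¹ * a⁻¹)⁻¹) ?_ ?_)
  · rw [orderOf_inv]; exact hodd _ ha
  · convert h using 1
    rw [pow_two, show (z * a * z⁻¹ * a⁻¹)⁻¹ = a * z * a⁻¹ * z⁻¹ by group, hzi]

/-- The image of `g ∈ N(R) ∩ N(W)` on the pairing module. -/
theorem ClassTwo.cl_conj_eq_zero (P : ClassTwo G) {g a : G} (hR : g ∈ normalizer (P.R : Set G))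
    (hW : g ∈ normalizer (P.W : Set G)) (ha : a ∈ P.R) (h : P.cl a = 0) : P.cl (g * a * g⁻¹) = 0 := by
  refine (P.cl_eq_zero ((mem_normalizer_iff.1 hR a).1 ha)).2 fun s hs => ?_
  have hs' : g⁻¹ * s * g ∈ P.R := by
    have := (mem_normalizer_iff.1 (inv_mem hR) s).1 hs; simpa using this
  have := (mem_normalizer_iff.1 hW _).1 ((P.cl_eq_zero ha).1 h _ hs')
  convert this using 1
  group

theorem ClassTwo.cl_conj_congr (P : ClassTwo G) {g a b : G} (hR : g ∈ normalizer (P.R : Set G))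
    (hW : g ∈ normalizer (P.W : Set G)) (ha : a ∈ P.R) (hb : b ∈ P.R) (h : P.cl a = P.cl b) :
    P.cl (g * a * g⁻¹) = P.cl (g * b * g⁻¹) := by
  have hga := (mem_normalizer_iff.1 hR a).1 ha
  have hgb := (mem_normalizer_iff.1 hR b).1 hb
  have h1 := P.cl_conj_eq_zero hR hW (mul_mem ha (inv_mem hb))
    (by rw [P.cl_mul ha (inv_mem hb), P.cl_inv hb, h, add_neg_cancel])
  rw [show g * (a * b⁻¹) * g⁻¹ = (g * a * g⁻¹) * (g * b * g⁻¹)⁻¹ by group,
    P.cl_mul hga (inv_mem hgb), P.cl_inv hgb, ← sub_eq_add_neg, sub_eq_zero] at h1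
  exact h1

/-- Conjugation by an element of `N(R) ∩ N(W)` on the pairing module. -/
noncomputable def ClassTwo.transport (P : ClassTwo G) (g : G) (hR : g ∈ normalizer (P.R : Set G))
    (hW : g ∈ normalizer (P.W : Set G)) : ↥P.car ≃+ ↥P.car :=
  have hc : ∀ r : ↥P.R, g * (r : G) * g⁻¹ ∈ P.R := fun r => (mem_normalizer_iff.1 hR _).1 r.2
  have hc' : ∀ r : ↥P.R, g⁻¹ * (r : G) * g⁻¹⁻¹ ∈ P.R := fun r => (mem_normalizer_iff.1 (inv_mem hR) _).1 r.2
  { toFun := fun u => P.cl (g * (P.rep u : G) * g⁻¹)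
    invFun := fun u => P.cl (g⁻¹ * (P.rep u : G) * g⁻¹⁻¹)
    left_inv := fun u => by
      show P.cl (g⁻¹ * ((P.rep (P.cl (g * (P.rep u : G) * g⁻¹))) : G) * g⁻¹⁻¹) = u
      rw [P.cl_conj_congr (inv_mem hR) (inv_mem hW) (P.rep _).2 (hc (P.rep u)) (P.cl_rep _)]
      simp [mul_assoc, P.cl_rep]
    right_inv := fun u => by
      show P.cl (g * ((P.rep (P.cl (g⁻¹ * (P.rep u : G) * g⁻¹⁻¹))) : G) * g⁻¹) = u
      rw [P.cl_conj_congr hR hW (P.rep _).2 (hc' (P.rep u)) (P.cl_rep _)]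
      simp [mul_assoc, P.cl_rep]
    map_add' := fun u v => by
      show P.cl _ = P.cl _ + P.cl _
      rw [P.cl_conj_congr hR hW (P.rep _).2 (mul_mem (P.rep u).2 (P.rep v).2)
        (by rw [P.cl_rep, P.cl_mul (P.rep u).2 (P.rep v).2, P.cl_rep, P.cl_rep]),
        ← P.cl_mul (hc _) (hc _)]
      congr 1
      group }

theorem ClassTwo.transport_cl (P : ClassTwo G) {g r : G} (hR : g ∈ normalizer (P.R : Set G))
    (hW : g ∈ normalizer (P.W : Set G)) (hr : r ∈ P.R) :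
    P.transport g hR hW (P.cl r) = P.cl (g * r * g⁻¹) :=
  P.cl_conj_congr hR hW (P.rep _).2 hr (P.cl_rep _)

/-- Perpendicularity is kept by transport. -/
theorem ClassTwo.transport_perp (P : ClassTwo G) {g : G} (hR : g ∈ normalizer (P.R : Set G))
    (hW : g ∈ normalizer (P.W : Set G)) (u v : ↥P.car) (h : P.pair u v = 0) :
    P.pair (P.transport g hR hW u) (P.transport g hR hW v) = 0 := by
  obtain ⟨r, hr, rfl⟩ := P.cl_surj u
  obtain ⟨s, hs, rfl⟩ := P.cl_surj v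
  have hgr := (mem_normalizer_iff.1 hR r).1 hr
  have hgs := (mem_normalizer_iff.1 hR s).1 hs
  rw [P.pair_cl hr hs, ClassTwo.br, P.cls_eq_zero (P.hRR r hr s hs)] at h
  rw [P.transport_cl hR hW hr, P.transport_cl hR hW hs, P.pair_cl hgr hgs, ClassTwo.br,
    P.cls_eq_zero (P.hRR _ hgr _ hgs)]
  have := (mem_normalizer_iff.1 hW _).1 h
  convert this using 1
  group

variable [Finite G] {p : ℕ} [Fact p.Prime]

/-- An element of order prime to `p` in `E X`, `X` a `p`-group normalizing `E`, lies in `E`. -/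
theorem mem_of_coprime_sup_pgroup {E X : Subgroup G} (hXn : X ≤ normalizer (E : Set G)) (hXp : IsPGroup p X)
    {x : G} (hx : x ∈ E ⊔ X) (hco : (orderOf x).Coprime p) : x ∈ E := by
  obtain ⟨e, he, y, hy, rfl⟩ := (mem_sup_of_normal hXn).1 hx
  let N := normalizer (E : Set G)
  haveI : (E.subgroupOf N).Normal := normal_in_normalizer
  let π : ↥N →* ↥N ⧸ E.subgroupOf N := QuotientGroup.mk' _
  obtain ⟨k, hk⟩ := hXp ⟨y, hy⟩
  have h1 : π ⟨e * y, mul_mem (le_normalizer he) (hXn hy)⟩ = π ⟨y, hXn hy⟩ := by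
    rw [show (⟨e * y, mul_mem (le_normalizer he) (hXn hy)⟩ : ↥N) = ⟨e, le_normalizer he⟩ * ⟨y, hXn hy⟩ from rfl,
      map_mul, show π ⟨e, le_normalizer he⟩ = 1 from (QuotientGroup.eq_one_iff _).2 (mem_subgroupOf.2 he), one_mul]
  have h2 : π ⟨e * y, mul_mem (le_normalizer he) (hXn hy)⟩ = 1 := by
    refine orderOf_eq_one_iff.1 (Nat.eq_one_of_dvd_coprimes (hco.pow_right k) ?_ ?_)
    · refine (orderOf_map_dvd _ _).trans ?_
      rw [Subgroup.orderOf_mk]
    · rw [h1]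
      refine orderOf_dvd_of_pow_eq_one ?_
      rw [← map_pow, show (⟨y, hXn hy⟩ : ↥N) ^ p ^ k = 1 from Subtype.ext (by simpa using congrArg Subtype.val hk),
        map_one]
  exact mem_subgroupOf.1 ((QuotientGroup.eq_one_iff _).1 h2)

variable {T : Sylow p G} {E : Subgroup G}
variable (hG : centralizer (Cfsg.pCore p G : Set G) ≤ Cfsg.pCore p G)
  (hE : Cfsg.IsBaumannBlock p (T : Subgroup G) E)
include hE

/-- What moves `E` inside `E X`, `X` a `p`-group normalizing `E`, normalizes `E`. -/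
theorem mem_normalizer_of_sup_pgroup {X : Subgroup G} (hXn : X ≤ normalizer (E : Set G)) (hXp : IsPGroup p X)
    {k : G} (h : ∀ e ∈ E, k * e * k⁻¹ ∈ E ⊔ X) : k ∈ normalizer (E : Set G) := by
  refine mem_normalizer_iff_map_conj_eq.2 (eq_of_le_of_card_ge ?_
    (Nat.card_congr (equivMapOfInjective E _ (MulAut.conj k).injective).toEquiv).le)
  rw [map_le_iff_le_comap]
  refine le_of_coprime_mem hE fun e he hco => mem_of_coprime_sup_pgroup hXn hXp (h e he) ?_
  show (orderOf (MulAut.conj k e)).Coprime p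
  rwa [MulEquiv.orderOf_eq]

include hG

/-- An element moving `E` only inside `W` moves it only inside `W_E`. -/
theorem commutator_mem_we {x : G} (hz : ∀ y ∈ E, y * x * y⁻¹ * x⁻¹ ∈ WW p E) :
    ∀ y ∈ E, y * x * y⁻¹ * x⁻¹ ∈ WE p E := by
  have hWEn : ∀ y ∈ E, ∀ w ∈ WE p E, y * w * y⁻¹ ∈ WE p E := fun y hy w hw =>
    (mem_normalizer_iff.1 (mem_normalizer_WE (le_normalizer hy)) w).1 hw
  have hfix : ∀ y ∈ E, ∀ w ∈ WW p E, y * w * y⁻¹ * w⁻¹ ∈ WE p E := fun y hy w hw => by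
    have := inv_mem (commutator_mem_commutator hw hy)
    rwa [commutatorElement_inv, commutatorElement_def] at this
  let S : Subgroup G :=
    { carrier := {y | y ∈ E ∧ y * x * y⁻¹ * x⁻¹ ∈ WE p E}
      one_mem' := ⟨one_mem _, by simp⟩
      mul_mem' := fun {a b} ha hb => ⟨mul_mem ha.1 hb.1, by
        rw [show a * b * x * (a * b)⁻¹ * x⁻¹ = (a * (b * x * b⁻¹ * x⁻¹) * a⁻¹) * (a * x * a⁻¹ * x⁻¹) by group]
        exact mul_mem (hWEn a ha.1 _ hb.2) ha.2⟩
      inv_mem' := fun {a} ha => ⟨inv_mem ha.1, by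
        rw [show a⁻¹ * x * a⁻¹⁻¹ * x⁻¹ = a⁻¹ * (a * x * a⁻¹ * x⁻¹)⁻¹ * a by group]
        have := hWEn a⁻¹ (inv_mem ha.1) _ (inv_mem ha.2)
        simpa using this⟩ }
  have hS : E ≤ S := le_of_coprime_mem hE fun y hy hco => ⟨hy, by
    obtain ⟨z, hzdef⟩ : ∃ z, z = y * x * y⁻¹ * x⁻¹ := ⟨_, rfl⟩
    have hzW : z ∈ WW p E := hzdef ▸ hz y hy
    have hit : ∀ j : ℕ, ∃ u ∈ WE p E, y ^ j * x * (y ^ j)⁻¹ * x⁻¹ = u * z ^ j := fun j => by
      induction j with
      | zero => exact ⟨1, one_mem _, by simp⟩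
      | succ j ih =>
        obtain ⟨u, hu, hj⟩ := ih
        refine ⟨(y * u * y⁻¹) * (y * z ^ j * y⁻¹ * (z ^ j)⁻¹), mul_mem (hWEn y hy u hu)
          (hfix y hy _ (pow_mem hzW j)), ?_⟩
        calc y ^ (j + 1) * x * (y ^ (j + 1))⁻¹ * x⁻¹
            = (y * (y ^ j * x * (y ^ j)⁻¹ * x⁻¹) * y⁻¹) * z := by rw [pow_succ', hzdef]; group
          _ = _ := by rw [hj, pow_succ]; group
    obtain ⟨u, hu, hn⟩ := hit (orderOf y)
    rw [pow_orderOf_eq_one, one_mul, inv_one, mul_one, mul_inv_cancel] at hn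
    have hzn : z ^ orderOf y ∈ WE p E := by
      rw [show z ^ orderOf y = u⁻¹ from eq_inv_of_mul_eq_one_right hn.symm]
      exact inv_mem hu
    rw [← hzdef]
    refine mem_of_pow_mem ?_ hzn
    exact Nat.Coprime.coprime_dvd_left (orderOf_dvd_of_pow_eq_one (exponent_ww E z hzW)) hco.symm⟩
  exact fun y hy => (hS hy).2

omit hG hE in
/-- Conjugating inside `N(W_E)` by an element centralizing `W_E` does not change the action there. -/
theorem conj_comm_mem_centralizer {x e : G} (hx : x ∈ centralizer (WE p E : Set G))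
    (he : e ∈ normalizer (WE p E : Set G)) : x * e * x⁻¹ * e⁻¹ ∈ centralizer (WE p E : Set G) := by
  have hn := normalizer_le_normalizer_centralizer _ he
  rw [show x * e * x⁻¹ * e⁻¹ = x * (e * x⁻¹ * e⁻¹) by group]
  exact mul_mem hx ((mem_normalizer_iff.1 hn _).1 (inv_mem hx))

/-- If `[O_p(G), E] ≤ W_E`, then `C(W_E)` normalizes `E`. -/
theorem centralizer_we_le_of_oo (h : ∀ o ∈ OO p G, ∀ e ∈ E, o * e * o⁻¹ * e⁻¹ ∈ WE p E) :
    centralizer (WE p E : Set G) ≤ normalizer (E : Set G) := by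
  have hWO : WE p E ≤ OO p G := (we_le_vv hG hE).trans (omegaOneCenter_le _)
  let P₀ : Subgroup G :=
    { carrier := {g | g ∈ centralizer (WE p E : Set G) ∧ ∀ o ∈ OO p G, g * o * g⁻¹ * o⁻¹ ∈ WE p E}
      one_mem' := ⟨one_mem _, fun o _ => by simp⟩
      mul_mem' := fun {a b} ha hb => ⟨mul_mem ha.1 hb.1, fun o ho => by
        rw [show a * b * o * (a * b)⁻¹ * o⁻¹ = (a * (b * o * b⁻¹ * o⁻¹) * a⁻¹) * (a * o * a⁻¹ * o⁻¹) by group]
        exact mul_mem ((mem_normalizer_iff.1 (centralizer_le_normalizer _ ha.1) _).1 (hb.2 o ho)) (ha.2 o ho)⟩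
      inv_mem' := fun {a} ha => ⟨inv_mem ha.1, fun o ho => by
        have ho' : a⁻¹ * o * a ∈ OO p G := by
          simpa using (inferInstance : (OO p G).Normal).conj_mem o ho a⁻¹
        have := (mem_normalizer_iff.1 (centralizer_le_normalizer _ (inv_mem ha.1)) _).1 (inv_mem (ha.2 o ho))
        convert this using 1
        group⟩ }
  have hP : IsPGroup p P₀ := isPGroup_of_stab (A := (OO p G : Set G)) (B := WE p E) (Q := OO p G)
    (isPGroup_OO.to_le hWO) isPGroup_OO (inf_le_left.trans hG) (fun c hc => hc.1) (fun c hc o ho => hc.2 o ho)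
  have hnorm : ∀ {g : G}, g ∈ normalizer (WE p E : Set G) → g ∈ normalizer (P₀ : Set G) := fun {g} hg => by
    refine mem_normalizer_iff_map_conj_eq.2 (eq_of_le_of_card_ge ?_
      (Nat.card_congr (equivMapOfInjective P₀ _ (MulAut.conj g).injective).toEquiv).le)
    rintro _ ⟨c, hc, rfl⟩
    refine ⟨(mem_normalizer_iff.1 (normalizer_le_normalizer_centralizer _ hg) c).1 hc.1, fun o ho => ?_⟩
    have ho' : g⁻¹ * o * g ∈ OO p G := by
      simpa using (inferInstance : (OO p G).Normal).conj_mem o ho g⁻¹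
    have := (mem_normalizer_iff.1 hg _).1 (hc.2 _ ho')
    show g * c * g⁻¹ * o * (g * c * g⁻¹)⁻¹ * o⁻¹ ∈ WE p E
    convert this using 1
    group
  have hPn : P₀ ≤ normalizer (E : Set G) := Cfsg.Agent.S2983.result hG T E hE P₀ hP
    (fun b hb => hnorm (mem_normalizer_WE (baumann_le_normalizer hE hb)))
    (fun e he => hnorm (mem_normalizer_WE (le_normalizer he)))
  intro x hx
  refine mem_normalizer_of_sup_pgroup hE hPn hP fun e he => ?_
  rw [show x * e * x⁻¹ = (x * e * x⁻¹ * e⁻¹) * e by group]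
  refine mul_mem (mem_sup_right ⟨conj_comm_mem_centralizer hx (mem_normalizer_WE (le_normalizer he)), ?_⟩)
    (mem_sup_left he)
  intro o ho
  have hxn := centralizer_le_normalizer _ hx
  obtain ⟨o', ho'def⟩ : ∃ o', o' = e⁻¹ * o * e := ⟨_, rfl⟩
  have ho' : o' ∈ OO p G := by
    rw [ho'def]; simpa using (inferInstance : (OO p G).Normal).conj_mem o ho e⁻¹
  obtain ⟨o'', ho''def⟩ : ∃ o'', o'' = x⁻¹ * o' * x := ⟨_, rfl⟩
  have ho'' : o'' ∈ OO p G := by
    rw [ho''def]; simpa using (inferInstance : (OO p G).Normal).conj_mem o' ho' x⁻¹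
  have h1 := (mem_normalizer_iff.1 hxn _).1 (inv_mem (h o'' ho'' e he))
  have h2 := h o' ho' e he
  rw [show x * e * x⁻¹ * e⁻¹ * o * (x * e * x⁻¹ * e⁻¹)⁻¹ * o⁻¹
    = (x * (o'' * e * o''⁻¹ * e⁻¹)⁻¹ * x⁻¹) * (o' * e * o'⁻¹ * e⁻¹) by
      rw [ho''def, ho'def]; group]
  exact mul_mem h1 h2

end CfsgLib.LocalEven.Baumann
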