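import Cfsg.Agent.Lib.LocalEven.Baumann.Shape

/-!
Consequences of the shape of a block: irreducibility, `[V, E] = W_E`, commutative commutants,
and the centralizing criteria.
-/

set_option autoImplicit false
set_option linter.unusedSectionVars false

namespace CfsgLib.LocalEven.Baumann

open Subgroup CfsgLib.LocalEven
open scoped commutatorElement

variable {G : Type*} [Group G] {p : ℕ}

theorem NatSec.img_eq {E U U₀ : Subgroup G} {F : Type} [Field F] [Finite F] (D : NatSec p E U U₀ F)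
    (X : Subgroup G) (hXU : X ≤ U) (hX : E ≤ normalizer (X : Set G)) :
    D.S.img X hXU = ⊥ ∨ D.S.img X hXU = ⊤ := by
  refine BlockModule.irred_commutator _ fun g hg x hx => ?_
  obtain ⟨u, hu, rfl⟩ := hx
  obtain ⟨e, rfl⟩ := D.range.symm ▸ hg
  refine ⟨(e : G) * u * (e : G)⁻¹, (mem_normalizer_iff.1 (hX e.2) u).1 hu, ?_⟩
  rw [← D.S.act_f (D.norm e.2) (hXU hu), D.act_rho]
  rfl

theorem NatSec.irred {E U U₀ : Subgroup G} {F : Type} [Field F] [Finite F] (D : NatSec p E U U₀ F)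
    (X : Subgroup G) (hXU : X ≤ U) (hX : E ≤ normalizer (X : Set G)) : X ≤ U₀ ∨ U ≤ X ⊔ U₀ := by
  rcases D.img_eq X hXU hX with h | h
  · refine Or.inl fun x hx => (D.S.ker x (hXU hx)).1 ?_
    have : D.S.f x ∈ D.S.img X hXU := ⟨x, hx, rfl⟩
    rwa [h, AddSubgroup.mem_bot] at this
  · refine Or.inr fun u hu => ?_
    obtain ⟨x, hx, hxu⟩ := (h ▸ AddSubgroup.mem_top _ : D.S.f u ∈ D.S.img X hXU)
    have := (D.S.f_eq_iff hu (hXU hx)).1 hxu.symm
    rw [show u = (u * x⁻¹) * x by group]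
    exact mul_mem (mem_sup_right this) (mem_sup_left hx)

variable [Finite G] [Fact p.Prime]

theorem exponent_ww (E : Subgroup G) : ∀ x ∈ WW p E, x ^ p = 1 := fun _ hx => pow_eq_one_of_mem_ww hx

/-- A section with coordinates over a field of characteristic `p` is nontrivial. -/
theorem NatSec.exists_not_mem {E U U₀ : Subgroup G} {F : Type} [Field F] (D : NatSec p E U U₀ F) :
    ∃ u ∈ U, u ∉ U₀ := by
  obtain ⟨u, hu, h⟩ := D.S.surj ![1, 0]
  refine ⟨u, hu, fun h0 => ?_⟩
  have := congrFun ((D.S.ker u hu).2 h0 ▸ h) 0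
  simp at this

variable {T : Sylow p G} {E : Subgroup G}
variable (hG : centralizer (Cfsg.pCore p G : Set G) ≤ Cfsg.pCore p G)
  (hE : Cfsg.IsBaumannBlock p (T : Subgroup G) E)

/-- In an exceptional block, an `E`-invariant abelian subgroup of exponent `p` of `Q` lies in `W`. -/
theorem le_ww_of_exc {F : Type} [Field F] [Finite F] (D : NatSec p E (QE p E) (WW p E) F) (X : Subgroup G)
    (hXQ : X ≤ QE p E) (hX : E ≤ normalizer (X : Set G)) (hcomm : ∀ x ∈ X, ∀ y ∈ X, x * y = y * x)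
    (hexp : ∀ x ∈ X, x ^ p = 1) : X ≤ WW p E := by
  rcases D.irred X hXQ hX with h | h
  · exact h
  exfalso
  obtain ⟨u, hu, hu'⟩ := D.exists_not_mem
  refine hu' (mem_omegaOneCenter_iff.2 ⟨hu, ?_⟩)
  have hXW : ∀ x ∈ X, ∀ w ∈ WW p E, x * w = w * x := fun x hx w hw => (ww_commute hw (hXQ hx)).symm
  have hWn : X ≤ normalizer (WW p E : Set G) := fun x hx =>
    mem_normalizer_WW (le_normalizer (pCoreOf_le p E (hXQ hx)))
  have hdec : ∀ q ∈ QE p E, ∃ x ∈ X, ∃ w ∈ WW p E, x * w = q := fun q hq => by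
    have := h hq
    rw [← SetLike.mem_coe, coe_mul_of_left_le_normalizer_right X (WW p E) hWn] at this
    exact Set.mem_mul.1 this
  obtain ⟨x, hx, w, hw, rfl⟩ := hdec u hu
  refine ⟨mem_centralizer_iff.2 fun q hq => ?_, ?_⟩
  · obtain ⟨y, hy, v, hv, rfl⟩ := hdec q hq
    have h1 : Commute y x := hcomm y hy x hx
    have h2 : Commute y w := hXW y hy w hw
    have h3 : Commute v x := (hXW x hx v hv).symm
    have h4 : Commute v w := ww_commute hv (ww_le E hw)
    exact ((h1.mul_right h2).mul_left (h3.mul_right h4)).eq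
  · rw [(show Commute x w from hXW x hx w hw).mul_pow, hexp x hx, exponent_ww E w hw, mul_one]

include hG hE

theorem abelian_le_ww (X : Subgroup G) (hXQ : X ≤ QE p E) (hX : E ≤ normalizer (X : Set G))
    (hcomm : ∀ x ∈ X, ∀ y ∈ X, x * y = y * x) (hexp : ∀ x ∈ X, x ^ p = 1) : X ≤ WW p E := by
  rcases shape hG hE with ⟨F, _, _, n, -, -, -, hQ | ⟨-, ⟨D⟩, -⟩⟩ | ⟨-, m, -, -, hQ⟩
  · exact hQ ▸ hXQ
  · exact le_ww_of_exc D X hXQ hX hcomm hexp
  · exact hQ ▸ hXQ

/-- `[V, E] = W_E`, elementwise. -/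
theorem vv_commutator_mem {x e : G} (hx : x ∈ VV p G) (he : e ∈ E) : x * e * x⁻¹ * e⁻¹ ∈ WE p E := by
  haveI := vv_normal (G := G) (p := p)
  set X := VV p G ⊓ QE p E with hX
  have hXW : X ≤ WW p E := abelian_le_ww hG hE X inf_le_right
    (fun y hy => mem_normalizer_inf (mem_normalizer_of_normal y) (mem_normalizer_pCoreOf (le_normalizer hy)))
    (fun a ha b hb => commute_omegaOneCenter ha.1 (omegaOneCenter_le _ hb.1))
    (fun a ha => (mem_omegaOneCenter_iff.1 ha.1).2.2)
  -- `z(e) = [e, x]` lies in `W`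
  have hz : ∀ y ∈ E, y * x * y⁻¹ * x⁻¹ ∈ WW p E := fun y hy => by
    refine hXW (Subgroup.mem_inf.2 ⟨mul_mem (‹(VV p G).Normal›.conj_mem x hx y) (inv_mem hx), ?_⟩)
    have := inv_mem (oo_commutator_le hG hE (omegaOneCenter_le _ hx) hy)
    simpa [mul_assoc] using this
  -- the elements moving `x` inside `W_E` only
  have hWEn : ∀ y ∈ E, ∀ w ∈ WE p E, y * w * y⁻¹ ∈ WE p E := fun y hy w hw =>
    (mem_normalizer_iff.1 (mem_normalizer_WE (le_normalizer hy)) w).1 hw
  have hfix : ∀ y ∈ E, ∀ w ∈ WW p E, y * w * y⁻¹ * w⁻¹ ∈ WE p E := fun y hy w hw => by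
    have := inv_mem (commutator_mem_commutator hw hy)
    rwa [commutatorElement_inv, commutatorElement_def] at this
  let S : Subgroup G :=
    { carrier := {y | y ∈ E ∧ y * x * y⁻¹ * x⁻¹ ∈ WE p E}
      one_mem' := ⟨one_mem _, by simp⟩
      mul_mem' := fun {a b} ha hb => ⟨mul_mem ha.1 hb.1, by
        rw [show a * b * x * (a * b)⁻¹ * x⁻¹ = (a * (b * x * b⁻¹ * x⁻¹) * a⁻¹) * (a * x * a⁻¹ * x⁻¹) by group]
        exact mul_mem (hWEn a ha.1 _ hb.2) ha.2⟩
      inv_mem' := fun {a} ha => ⟨inv_mem ha.1, by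
        rw [show a⁻¹ * x * a⁻¹⁻¹ * x⁻¹ = a⁻¹ * (a * x * a⁻¹ * x⁻¹)⁻¹ * a by group]
        have := hWEn a⁻¹ (inv_mem ha.1) _ (inv_mem ha.2)
        simpa using this⟩ }
  have hS : E ≤ S := le_of_coprime_mem hE fun y hy hco => ⟨hy, by
    set z := y * x * y⁻¹ * x⁻¹ with hzdef
    have hzW := hz y hy
    -- `y ^ j x y ^ -j x⁻¹ ≡ z ^ j`
    have hit : ∀ j : ℕ, ∃ u ∈ WE p E, y ^ j * x * (y ^ j)⁻¹ * x⁻¹ = u * z ^ j := fun j => by
      induction j with
      | zero => exact ⟨1, one_mem _, by simp⟩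
      | succ j ih =>
        obtain ⟨u, hu, hj⟩ := ih
        refine ⟨(y * u * y⁻¹) * (y * z ^ j * y⁻¹ * (z ^ j)⁻¹), mul_mem (hWEn y hy u hu)
          (hfix y hy _ (pow_mem hzW j)), ?_⟩
        calc y ^ (j + 1) * x * (y ^ (j + 1))⁻¹ * x⁻¹
            = (y * (y ^ j * x * (y ^ j)⁻¹ * x⁻¹) * y⁻¹) * z := by rw [pow_succ', hzdef]; group
          _ = _ := by rw [hj, pow_succ]; group
    obtain ⟨u, hu, hn⟩ := hit (orderOf y)
    rw [pow_orderOf_eq_one, one_mul, inv_one, mul_one, mul_inv_cancel] at hn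
    have hzn : z ^ orderOf y ∈ WE p E := by
      rw [show z ^ orderOf y = u⁻¹ by rw [eq_inv_iff_mul_eq_one]; rw [
        (show Commute (z ^ orderOf y) u from ww_commute (pow_mem hzW _) (ww_le E (we_le_ww E hu))).eq, ← hn]]
      exact inv_mem hu
    refine mem_of_pow_mem ?_ hzn
    refine Nat.Coprime.coprime_dvd_left (orderOf_dvd_of_pow_eq_one (exponent_ww E z hzW)) ?_
    exact hco.symm⟩
  have := (hS he).2
  have := inv_mem this
  rw [show (e * x * e⁻¹ * x⁻¹)⁻¹ = x * e * x⁻¹ * e⁻¹ by group] at this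
  exact this

/-- Elements normalizing `E` and moving it inside `O_p(E)` commute on `W / Z`. -/
theorem commutator_centralizes {g h : G} (hg : g ∈ normalizer (E : Set G)) (hh : h ∈ normalizer (E : Set G))
    (hge : ∀ e ∈ E, g * e * g⁻¹ * e⁻¹ ∈ QE p E) (hhe : ∀ e ∈ E, h * e * h⁻¹ * e⁻¹ ∈ QE p E) :
    ⁅g, h⁆ ∈ centralizer (WE p E : Set G) := by
  have hmem : ⁅g, h⁆ ∈ normalizer (E : Set G) :=
    commutatorElement_def g h ▸ mul_mem (mul_mem (mul_mem hg hh) (inv_mem hg)) (inv_mem hh)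
  refine centralizes_we_of_trivial hG hE hmem ?_
  rcases shape hG hE with ⟨F, _, _, n, -, hcard, ⟨D⟩, -⟩ | ⟨-, m, hm, ⟨D⟩, -⟩
  · have hn : ∀ {k : G}, k ∈ normalizer (E : Set G) → k ∈ D.S.nrm :=
      fun hk => ⟨mem_normalizer_WW hk, mem_normalizer_ZZ hk⟩
    have hc : ∀ {k : G}, k ∈ normalizer (E : Set G) → (∀ e ∈ E, k * e * k⁻¹ * e⁻¹ ∈ QE p E) →
        ∀ r ∈ commutator (Matrix.SpecialLinearGroup (Fin 2) F), D.S.act k * mv r.1 = mv r.1 * D.S.act k := by
      intro k hk hke r hr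
      obtain ⟨e, rfl⟩ := D.range.symm ▸ hr
      rw [← D.act_rho, ← D.S.act_mul (hn hk) (D.norm e.2), ← D.S.act_mul (D.norm e.2) (hn hk)]
      have he' : k * e * k⁻¹ ∈ E := (mem_normalizer_iff.1 hk e).1 e.2
      have h1 : D.rho ⟨_, he'⟩ = D.rho e := by
        rw [← mul_inv_eq_one, ← map_inv, ← map_mul]
        exact D.qe_ker _ (hke e e.2)
      rw [show k * (e : G) = (k * e * k⁻¹) * k by group, D.S.act_mul (D.norm he') (hn hk),
        D.S.act_mul (D.norm e.2) (hn hk), D.act_rho ⟨_, he'⟩, h1, D.act_rho]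
    have hcm : D.S.act g * D.S.act h = D.S.act h * D.S.act g := by
      rcases Nat.lt_or_ge (Nat.card F) 3 with h2 | h3
      · -- two elements
        have hq : Nat.card F = 2 := by have := Finite.one_lt_card (α := F); omega
        have hlin := isLin_of_prime (F := F) (by rw [hq]; norm_num)
        obtain ⟨c, hcdef⟩ : ∃ c : Matrix.SpecialLinearGroup (Fin 2) F,
            c = ⁅CfsgLib.Classical.uSL (1 : F), CfsgLib.Classical.lSL (1 : F)⁆ := ⟨_, rfl⟩
        have hcR : c ∈ commutator (Matrix.SpecialLinearGroup (Fin 2) F) :=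
          hcdef ▸ commutator_mem_commutator (mem_top _) (mem_top _)
        have : Fintype F := Fintype.ofFinite F
        have h2' : Fintype.card F = 2 := by rw [Fintype.card_eq_nat_card, hq]
        have : Fact (Nat.Prime 2) := ⟨Nat.prime_two⟩
        haveI : CharP F 2 := charP_of_card_eq_prime h2'
        have hc1 : c.1 = !![1, 1; 1, 0] := by
          have e1 : (CfsgLib.Classical.uSL (1 : F))⁻¹ = CfsgLib.Classical.uSL 1 :=
            inv_eq_of_mul_eq_one_right (by
              rw [← Matrix.SpecialLinearGroup.transvection_add, CharTwo.add_self_eq_zero,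
                Matrix.SpecialLinearGroup.transvection_coeff_zero])
          have e2 : (CfsgLib.Classical.lSL (1 : F))⁻¹ = CfsgLib.Classical.lSL 1 :=
            inv_eq_of_mul_eq_one_right (by
              rw [← Matrix.SpecialLinearGroup.transvection_add, CharTwo.add_self_eq_zero,
                Matrix.SpecialLinearGroup.transvection_coeff_zero])
          rw [hcdef, commutatorElement_def, e1, e2]
          simp only [Matrix.SpecialLinearGroup.coe_mul, CfsgLib.Classical.uSL_coe, CfsgLib.Classical.lSL_coe]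
          ext i j
          fin_cases i <;> fin_cases j <;> simp [Matrix.mul_apply, Fin.sum_univ_two, CharTwo.add_self_eq_zero]
        have hform : ∀ {k : G}, k ∈ normalizer (E : Set G) → (∀ e ∈ E, k * e * k⁻¹ * e⁻¹ ∈ QE p E) →
            ∃ a b : F, D.S.act k = mv !![a, b; b, a + b] := by
          intro k hk hke
          obtain ⟨M, hM⟩ := (hlin (D.S.act k)).exists_matrix
          refine ⟨M 0 0, M 0 1, ?_⟩
          have h := hc hk hke c hcR
          rw [hM, ← mv_mul, ← mv_mul, hc1] at h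
          have h := mv_injective h
          have h00 := congrFun (congrFun h 0) 0
          have h01 := congrFun (congrFun h 0) 1
          simp [Matrix.mul_apply, Fin.sum_univ_two] at h00 h01
          have h10 : M 1 0 = M 0 1 := h00.symm
          have h11 : M 1 1 = M 0 0 + M 0 1 := by
            rw [h01, add_comm (M 0 1), add_assoc, CharTwo.add_self_eq_zero, add_zero]
          rw [hM]
          congr 1
          ext i j
          fin_cases i <;> fin_cases j <;> simp [h10, h11]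
        obtain ⟨a, b, hab⟩ := hform hg hge
        obtain ⟨a', b', hab'⟩ := hform hh hhe
        rw [hab, hab', ← mv_mul, ← mv_mul]
        congr 1
        ext i j
        fin_cases i <;> fin_cases j <;> simp [Matrix.mul_apply, Fin.sum_univ_two] <;> ring
      · obtain ⟨a, ha⟩ := exists_scalar_of_commute h3 _ (hc hg hge)
        obtain ⟨b, hb⟩ := exists_scalar_of_commute h3 _ (hc hh hhe)
        refine DFunLike.ext _ _ fun v => ?_
        show D.S.act g (D.S.act h v) = D.S.act h (D.S.act g v)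
        rw [ha, hb, ha, hb, smul_comm]
    have h1 : D.S.act ⁅g, h⁆ = 1 := by
      rw [commutatorElement_def, D.S.act_mul (mul_mem (mul_mem (hn hg) (hn hh)) (inv_mem (hn hg))) (inv_mem (hn hh)),
        D.S.act_mul (mul_mem (hn hg) (hn hh)) (inv_mem (hn hg)), D.S.act_mul (hn hg) (hn hh), hcm,
        mul_assoc (D.S.act h), D.S.act_mul_inv (hn hg), mul_one, D.S.act_mul_inv (hn hh)]
    exact (D.S.act_eq_one_iff (hn hmem)).1 h1
  · have hn : ∀ {k : G}, k ∈ normalizer (E : Set G) → k ∈ D.S.nrm :=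
      fun hk => ⟨mem_normalizer_WW hk, mem_normalizer_ZZ hk⟩
    have hc : ∀ {k : G}, k ∈ normalizer (E : Set G) → (∀ e ∈ E, k * e * k⁻¹ * e⁻¹ ∈ QE p E) →
        D.S.act k = 1 := by
      intro k hk hke
      refine (scalar_of_commute hm (D.S.act k) fun σ hσ => ?_).resolve_left fun h0 => ?_
      · obtain ⟨e, rfl⟩ := D.range.symm ▸ hσ
        rw [← D.act_rho, ← D.S.act_mul (hn hk) (D.norm e.2), ← D.S.act_mul (D.norm e.2) (hn hk)]
        have he' : k * e * k⁻¹ ∈ E := (mem_normalizer_iff.1 hk e).1 e.2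
        have h1 : D.rho ⟨_, he'⟩ = D.rho e := by
          rw [← mul_inv_eq_one, ← map_inv, ← map_mul]
          exact D.qe_ker _ (hke e e.2)
        rw [show k * (e : G) = (k * e * k⁻¹) * k by group, D.S.act_mul (D.norm he') (hn hk),
          D.S.act_mul (D.norm e.2) (hn hk), D.act_rho ⟨_, he'⟩, h1, D.act_rho]
      · exact fPt_ne_zero (by omega) 0 (D.S.act_injective_apply (hn hk) (by rw [h0]; rfl))
    have h1 : D.S.act ⁅g, h⁆ = 1 := by
      rw [commutatorElement_def, D.S.act_mul (mul_mem (mul_mem (hn hg) (hn hh)) (inv_mem (hn hg))) (inv_mem (hn hh)),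
        D.S.act_mul (mul_mem (hn hg) (hn hh)) (inv_mem (hn hg)), D.S.act_mul (hn hg) (hn hh), hc hg hge,
        hc hh hhe, one_mul, one_mul]
      have a := D.S.act_mul_inv (hn hg)
      have b := D.S.act_mul_inv (hn hh)
      rw [hc hg hge, one_mul] at a
      rw [hc hh hhe, one_mul] at b
      rw [a, b, one_mul]
    exact (D.S.act_eq_one_iff (hn hmem)).1 h1

omit hG hE

/-- An element normalizing `E` and moving it only inside `O_p(E)` commutes with the action of `E`. -/
theorem NatSec.act_commute {U U₀ : Subgroup G} {F : Type} [Field F] (D : NatSec p E U U₀ F) {k : G}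
    (hk : k ∈ normalizer (E : Set G)) (hkn : k ∈ D.S.nrm)
    (hke : ∀ e ∈ E, k * e * k⁻¹ * e⁻¹ ∈ QE p E) :
    ∀ r ∈ commutator (Matrix.SpecialLinearGroup (Fin 2) F), D.S.act k * mv r.1 = mv r.1 * D.S.act k := by
  intro r hr
  obtain ⟨e, rfl⟩ := D.range.symm ▸ hr
  rw [← D.act_rho, ← D.S.act_mul hkn (D.norm e.2), ← D.S.act_mul (D.norm e.2) hkn]
  have he' : k * e * k⁻¹ ∈ E := (mem_normalizer_iff.1 hk e).1 e.2
  have h1 : D.rho ⟨_, he'⟩ = D.rho e := by
    rw [← mul_inv_eq_one, ← map_inv, ← map_mul]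
    exact D.qe_ker _ (hke e e.2)
  rw [show k * (e : G) = (k * e * k⁻¹) * k by group, D.S.act_mul (D.norm he') hkn,
    D.S.act_mul (D.norm e.2) hkn, D.act_rho ⟨_, he'⟩, h1, D.act_rho]

theorem mem_top_nrm {g : G} {F : Type} [Field F] (D : NatSec p E (QE p E) (WW p E) F)
    (hg : g ∈ normalizer (E : Set G)) : g ∈ D.S.nrm :=
  ⟨mem_normalizer_pCoreOf hg, mem_normalizer_WW hg⟩

theorem mem_bot_nrm {g : G} {F : Type} [Field F] (D : NatSec p E (WW p E) (ZZ p E) F)
    (hg : g ∈ normalizer (E : Set G)) : g ∈ D.S.nrm :=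
  ⟨mem_normalizer_WW hg, mem_normalizer_ZZ hg⟩

/-- The field of an exceptional block has at least three elements. -/
theorem three_le_of_exc {F : Type} [Field F] [Fintype F] {n : ℕ} (hp : p = 3) (hn : 0 < n)
    (hcard : Fintype.card F = p ^ n) : 3 ≤ Nat.card F := by
  rw [Nat.card_eq_fintype_card, hcard, hp]
  exact Nat.le_self_pow (by omega) 3

include hG hE

/-- On `Q / W` an element of `N(E) ∩ C(W_E)` is a scalar. -/
theorem exists_scalar_top {F : Type} [Field F] [Fintype F] (h3 : 3 ≤ Nat.card F)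
    (D : NatSec p E (QE p E) (WW p E) F) {k : G} (hk : k ∈ normalizer (E : Set G))
    (hkW : k ∈ centralizer (WE p E : Set G)) : ∃ c : F, ∀ v, D.S.act k v = c • v :=
  exists_scalar_of_commute h3 _ (D.act_commute hk (mem_top_nrm D hk) fun _ he => comm_mem_QE hG hE hk hkW he)

/-- An element of order prime to `p` that centralizes `W_E` and is trivial on `Q / W` centralizes `E`. -/
theorem centralizes_of_top {x : G} (hxE : x ∈ normalizer (E : Set G)) (hx : (orderOf x).Coprime p)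
    (hW : x ∈ centralizer (WE p E : Set G)) (htop : ∀ q ∈ QE p E, x * q * x⁻¹ * q⁻¹ ∈ WW p E) :
    x ∈ centralizer (E : Set G) := by
  refine centralizes_of_coprime hG hE hxE hx hW ?_
  rcases shape hG hE with ⟨F, _, _, n, -, -, -, hQ | ⟨-, ⟨D⟩, hcomm, -⟩⟩ | ⟨-, m, -, -, hQ⟩
  case inl.inr =>
    -- `Z = [Q, Q]` is centralized
    have hZ : ZZ p E ≤ centralizer {x} := by
      rw [← hcomm, commutator_le]
      intro a ha b hb
      rw [mem_centralizer_singleton_iff]
      set u := x * a * x⁻¹ * a⁻¹ with hu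
      set v := x * b * x⁻¹ * b⁻¹ with hv
      have huW := htop a ha
      have hvW := htop b hb
      have ha' : u * a ∈ QE p E := mul_mem (ww_le E huW) ha
      have h1 : x * ⁅a, b⁆ * x⁻¹ = ⁅u * a, v * b⁆ := by
        simp only [hu, hv, commutatorElement_def]; group
      have c1 : ∀ y ∈ QE p E, ⁅u * a, y⁆ = ⁅a, y⁆ := fun y hy => by
        have hy' : a * y * a⁻¹ ∈ QE p E := mul_mem (mul_mem ha hy) (inv_mem ha)
        simp only [commutatorElement_def]
        calc u * a * y * (u * a)⁻¹ * y⁻¹ = u * (a * y * a⁻¹) * u⁻¹ * y⁻¹ := by group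
          _ = _ := by rw [ww_commute huW hy', mul_inv_cancel_right]
      have c2 : ⁅a, v * b⁆ = ⁅a, b⁆ := by
        have e1 : a * v = v * a := (ww_commute hvW ha).symm
        have e2 : ⁅a, b⁆ ∈ QE p E := commutatorElement_def a b ▸
          mul_mem (mul_mem (mul_mem ha hb) (inv_mem ha)) (inv_mem hb)
        calc ⁅a, v * b⁆ = a * v * b * a⁻¹ * b⁻¹ * v⁻¹ := by simp only [commutatorElement_def]; group
          _ = v * ⁅a, b⁆ * v⁻¹ := by rw [e1]; simp only [commutatorElement_def]; group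
          _ = ⁅a, b⁆ := by rw [ww_commute hvW e2, mul_inv_cancel_right]
      calc ⁅a, b⁆ * x = ⁅u * a, v * b⁆ * x := by rw [c1 _ (mul_mem (ww_le E hvW) hb), c2]
        _ = x * ⁅a, b⁆ := by rw [← h1]; group
    have hWW : WW p E ≤ centralizer {x} := by
      rw [ww_eq_sup hG hE]
      exact sup_le (fun w hw => mem_centralizer_singleton_iff.2 ((mem_centralizer_iff.1 hW) w hw)) hZ
    rw [mem_centralizer_iff]
    intro q hq
    refine (comm_eq_of_coprime hx (z := x * q * x⁻¹ * q⁻¹) (by group) ?_ (isPGroup_QE E)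
      (ww_le E (htop q hq))).symm
    exact (mem_centralizer_singleton_iff.1 (hWW (htop q hq))).symm
  all_goals
    have h1 := qe_commutator hE
    rw [hQ] at h1 ⊢
    rw [← h1]
    exact hW

/-- A perfect group acting on `E` inside `O_p(E)` centralizes `E`. -/
theorem perfect_centralizes {K : Subgroup G} (hKN : K ≤ normalizer (E : Set G))
    (hgen : ∀ S : Subgroup G, (∀ e ∈ K, (orderOf e).Coprime p → e ∈ S) → K ≤ S)
    (hperf : K ≤ ⁅K, K⁆) (hKE : ∀ k ∈ K, ∀ e ∈ E, k * e * k⁻¹ * e⁻¹ ∈ QE p E) :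
    K ≤ centralizer (E : Set G) := by
  have hKW : K ≤ centralizer (WE p E : Set G) := hperf.trans (commutator_le.2 fun g hg h hh =>
    commutator_centralizes hG hE (hKN hg) (hKN hh) (hKE g hg) (hKE h hh))
  refine hgen _ fun x hx hco => centralizes_of_top hG hE (hKN hx) hco (hKW hx) fun q hq => ?_
  rcases shape hG hE with ⟨F, _, _, n, hn, hcard, -, hQ | ⟨hp, ⟨D⟩, -⟩⟩ | ⟨-, m, -, -, hQ⟩
  case inl.inr =>
    have h3 := three_le_of_exc hp hn hcard
    have hK1 : K ≤ D.S.actHom.ker.map D.S.nrm.subtype := by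
      refine hperf.trans (commutator_le.2 fun g hg h hh => ?_)
      have hgn := mem_top_nrm D (hKN hg)
      have hhn := mem_top_nrm D (hKN hh)
      refine ⟨⁅(⟨g, hgn⟩ : D.S.nrm), ⟨h, hhn⟩⁆, ?_, rfl⟩
      show D.S.actHom _ = 1
      obtain ⟨a, ha⟩ := exists_scalar_top hG hE h3 D (hKN hg) (hKW hg)
      obtain ⟨b, hb⟩ := exists_scalar_top hG hE h3 D (hKN hh) (hKW hh)
      have hcm : D.S.actHom ⟨g, hgn⟩ * D.S.actHom ⟨h, hhn⟩ = D.S.actHom ⟨h, hhn⟩ * D.S.actHom ⟨g, hgn⟩ :=
        DFunLike.ext _ _ fun v => by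
          show D.S.act g (D.S.act h v) = D.S.act h (D.S.act g v)
          rw [ha, hb, ha, hb, smul_comm]
      rw [commutatorElement_def, map_mul, map_mul, map_mul, hcm, mul_assoc (D.S.actHom ⟨h, hhn⟩), ← map_mul,
        mul_inv_cancel, map_one, mul_one, ← map_mul, mul_inv_cancel, map_one]
    obtain ⟨x', hx', rfl⟩ := hK1 hx
    exact (D.S.act_eq_one_iff x'.2).1 hx' q hq
  all_goals
    rw [← hQ]
    exact mul_mem ((mem_normalizer_iff.1 (mem_normalizer_pCoreOf (hKN hx)) q).1 hq) (inv_mem hq)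

end CfsgLib.LocalEven.Baumann
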