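import Cfsg.Agent.Lib.LocalEven.Baumann.TopAction

/-!
Every block lies in the product of a subnormal block and its centralizer.
-/

set_option autoImplicit false
set_option linter.unusedSectionVars false

namespace CfsgLib.LocalEven.Baumann

open Subgroup CfsgLib.LocalEven CfsgLib.PLocal
open scoped commutatorElement

variable {G : Type*} [Group G] [Finite G] {p : ℕ} [Fact p.Prime]
variable {T₀ : Sylow p G} {E : Subgroup G} {T : Sylow p G} {K : Subgroup G}
variable (hG : centralizer (Cfsg.pCore p G : Set G) ≤ Cfsg.pCore p G)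
  (hE : Cfsg.IsBaumannBlock p (T₀ : Subgroup G) E) (hEs : E.IsSubnormal)
  (hK : Cfsg.IsBaumannBlock p (T : Subgroup G) K)
include hG hE hEs hK

theorem block_le_normalizer : K ≤ normalizer (E : Set G) :=
  (le_baumannSubgroup hK).trans (baumann_le_normalizer_all hG hE hEs)

/-- A block acts on `W / Z` as part of `E`. -/
theorem le_mul_centralizer :
    K ≤ E ⊔ (normalizer (E : Set G) ⊓ centralizer (WE p E : Set G)) := by
  have hKN := block_le_normalizer hG hE hEs hK
  rcases shape hG hE with ⟨F, fF, fin, n, hn, hcard, ⟨D⟩, -⟩ | ⟨hp, m, hm, ⟨D⟩, -⟩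
  · haveI := CfsgLib.LocalEven.Natural.charP_of_card (p := p) hcard
    let S : Subgroup G :=
      { carrier := {g | g ∈ D.S.nrm ∧ ∃ M : Matrix.SpecialLinearGroup (Fin 2) F, D.S.act g = mv M.1}
        one_mem' := ⟨one_mem _, 1, by rw [D.S.act_one, Matrix.SpecialLinearGroup.coe_one, mv_one]⟩
        mul_mem' := fun {a b} ha hb => by
          obtain ⟨ha1, M, hM⟩ := ha
          obtain ⟨hb1, N, hN⟩ := hb
          exact ⟨mul_mem ha1 hb1, M * N, by rw [D.S.act_mul ha1 hb1, hM, hN, ← mv_mul]; rfl⟩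
        inv_mem' := fun {a} ha => by
          obtain ⟨ha1, M, hM⟩ := ha
          refine ⟨inv_mem ha1, M⁻¹, ?_⟩
          calc D.S.act a⁻¹ = D.S.act a⁻¹ * (mv M.1 * mv (M⁻¹).1) := by
                rw [← mv_mul, ← Matrix.SpecialLinearGroup.coe_mul, mul_inv_cancel,
                  Matrix.SpecialLinearGroup.coe_one, mv_one, mul_one]
            _ = _ := by rw [← mul_assoc, ← hM, D.S.act_inv_mul ha1, one_mul] }
    have hBS : Cfsg.baumannSubgroup p G ≤ S := iSup_le fun T' b hb => by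
      have hbn := mem_bot_nrm D (baumannOf_le_normalizer hG hE hEs T' hb)
      obtain ⟨k, hk⟩ := T'.2 ⟨b, hb.1⟩
      obtain ⟨M, hM, -⟩ := exists_SL_of_isLin D.S hbn (baumann_isLin hG hE hEs hn hcard D T' hb)
        (by simpa using congrArg Subtype.val hk)
      exact ⟨hbn, M, hM⟩
    refine le_of_coprime_mem hK fun x hx hco => (mem_sup_of_normal inf_le_left).2 ?_
    obtain ⟨hxn, M, hM⟩ := hBS (le_baumannSubgroup hK hx)
    have hMo : M ^ orderOf x = 1 := Subtype.ext (mv_injective (by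
      have e : ∀ k : ℕ, mv (M.1 ^ k) = D.S.act x ^ k := fun k => by
        induction k with
        | zero => rw [pow_zero, pow_zero, mv_one]
        | succ k ih => rw [pow_succ, pow_succ, mv_mul, ih, hM]
      rw [Matrix.SpecialLinearGroup.coe_pow, e, ← D.S.act_pow hxn, pow_orderOf_eq_one, D.S.act_one,
        Matrix.SpecialLinearGroup.coe_one, mv_one]))
    obtain ⟨e, he⟩ : M ∈ D.rho.range := D.range ▸
      mem_commutator_of_coprime (p := p) (Nat.Coprime.coprime_dvd_left (orderOf_dvd_of_pow_eq_one hMo) hco)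
    have hc : (e : G)⁻¹ * x ∈ normalizer (E : Set G) := mul_mem (inv_mem (le_normalizer e.2)) (hKN hx)
    refine ⟨e, e.2, (e : G)⁻¹ * x, Subgroup.mem_inf.2 ⟨hc, ?_⟩, by group⟩
    refine centralizes_we_of_trivial hG hE hc ((D.S.act_eq_one_iff (mem_bot_nrm D hc)).1 ?_)
    exact (D.S.act_eq_iff hxn (D.norm e.2)).1 (by rw [hM, D.act_rho, he])
  · conv_lhs => rw [← hK.2.1]
    rw [commutator_le]
    intro f hf b hb
    rw [mem_sup_of_normal inf_le_left]
    have hbN := baumannOf_le_normalizer hG hE hEs T hb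
    have hn : ∀ {g : G}, g ∈ normalizer (E : Set G) → g ∈ D.S.nrm :=
      fun hg => ⟨mem_normalizer_WW hg, mem_normalizer_ZZ hg⟩
    obtain ⟨σ, hσ, -⟩ := D.exists_perm hm (hKN hf) (hn (hKN hf))
    obtain ⟨τ, hτ, -⟩ := D.exists_perm hm hbN (hn hbN)
    obtain ⟨σ', hσ', -⟩ := D.exists_perm hm (inv_mem (hKN hf)) (hn (inv_mem (hKN hf)))
    obtain ⟨τ', hτ', -⟩ := D.exists_perm hm (inv_mem hbN) (hn (inv_mem hbN))
    have e1 : σ' = σ⁻¹ := eq_inv_of_mul_eq_one_left (pa_injective (by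
      rw [pa_mul, ← hσ, ← hσ', D.S.act_inv_mul (hn (hKN hf)), pa_one]))
    have e2 : τ' = τ⁻¹ := eq_inv_of_mul_eq_one_left (pa_injective (by
      rw [pa_mul, ← hτ, ← hτ', D.S.act_inv_mul (hn hbN), pa_one]))
    have hmemN : ⁅f, b⁆ ∈ normalizer (E : Set G) := commutatorElement_def f b ▸
      mul_mem (mul_mem (mul_mem (hKN hf) hbN) (inv_mem (hKN hf))) (inv_mem hbN)
    have hact : D.S.act ⁅f, b⁆ = pa ⁅σ, τ⁆ := by
      rw [commutatorElement_def, commutatorElement_def,
        D.S.act_mul (hn (mul_mem (mul_mem (hKN hf) hbN) (inv_mem (hKN hf)))) (hn (inv_mem hbN)),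
        D.S.act_mul (hn (mul_mem (hKN hf) hbN)) (hn (inv_mem (hKN hf))),
        D.S.act_mul (hn (hKN hf)) (hn hbN), hσ, hτ, hσ', hτ', e1, e2, ← pa_mul, ← pa_mul, ← pa_mul]
    obtain ⟨e, he⟩ : ⁅σ, τ⁆ ∈ D.rho.range := by
      rw [D.range, Equiv.Perm.mem_alternatingGroup, commutatorElement_def, map_mul, map_mul, map_mul, map_inv,
        map_inv, mul_comm (Equiv.Perm.sign σ), mul_inv_cancel_right, mul_inv_cancel]
    have hc : (e : G)⁻¹ * ⁅f, b⁆ ∈ normalizer (E : Set G) := mul_mem (inv_mem (le_normalizer e.2)) hmemN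
    refine ⟨e, e.2, (e : G)⁻¹ * ⁅f, b⁆, Subgroup.mem_inf.2 ⟨hc, ?_⟩, by group⟩
    refine centralizes_we_of_trivial hG hE hc ((D.S.act_eq_one_iff (hn hc)).1 ?_)
    exact (D.S.act_eq_iff (hn hmemN) (D.norm e.2)).1 (by rw [hact, D.act_rho, he])

/-- A block lies in `E` times the elements trivial on both sections. -/
theorem le_mul_topKer : K ≤ E ⊔ topKer p E := by
  have hG1 := le_mul_centralizer hG hE hEs hK
  have hnone : QE p E = WW p E → K ≤ E ⊔ topKer p E := fun hQ => by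
    refine hG1.trans (sup_le_sup_left (fun c hc => ⟨hc.1, hc.2, fun q hq => ?_⟩) E)
    rw [← hQ]
    exact mul_mem ((mem_normalizer_iff.1 (mem_normalizer_pCoreOf hc.1) q).1 hq) (inv_mem hq)
  rcases shape hG hE with ⟨F, fF, fin, n, hn, hcard, ⟨D⟩, hQ | ⟨hp, ⟨Dt⟩, -⟩⟩ | ⟨-, m, -, -, hQ⟩
  · exact hnone hQ
  swap
  · exact hnone hQ
  haveI := CfsgLib.LocalEven.Natural.charP_of_card (p := p) hcard
  conv_lhs => rw [← hK.2.1]
  rw [commutator_le]
  intro f hf b hb
  obtain ⟨e, he, c, hc, rfl⟩ := (mem_sup_of_normal inf_le_left).1 (hG1 hf)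
  have hbN := baumannOf_le_normalizer hG hE hEs T hb
  have hbn := mem_top_nrm Dt hbN
  have hcn := mem_top_nrm Dt hc.1
  obtain ⟨k, hk⟩ := T.2 ⟨b, hb.1⟩
  have hlin := top_isLin hG hE hn hcard D Dt hbN (baumann_isLin hG hE hEs hn hcard D T hb)
    (by simpa using congrArg Subtype.val hk)
  obtain ⟨l, hl⟩ := exists_scalar_top hG hE (three_le_of_exc hp hn hcard) Dt hc.1 hc.2
  have hcomm : Dt.S.act c * Dt.S.act b = Dt.S.act b * Dt.S.act c := DFunLike.ext _ _ fun v => by
    rw [eapp, eapp, hl, hl, hlin]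
  have hmem : ⁅c, b⁆ ∈ topKer p E := by
    have hN : ⁅c, b⁆ ∈ normalizer (E : Set G) := commutatorElement_def c b ▸
      mul_mem (mul_mem (mul_mem hc.1 hbN) (inv_mem hc.1)) (inv_mem hbN)
    refine ⟨hN, ?_, (Dt.S.act_eq_one_iff (mem_top_nrm Dt hN)).1 ?_⟩
    · rw [commutatorElement_def, mul_assoc, mul_assoc, ← mul_assoc b]
      exact mul_mem hc.2 ((mem_normalizer_iff.1 (normalizer_le_normalizer_centralizer _
        (mem_normalizer_WE hbN)) _).1 (inv_mem hc.2))
    · rw [commutatorElement_def, Dt.S.act_mul (mul_mem (mul_mem hcn hbn) (inv_mem hcn)) (inv_mem hbn),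
        Dt.S.act_mul (mul_mem hcn hbn) (inv_mem hcn), Dt.S.act_mul hcn hbn, hcomm, mul_assoc (Dt.S.act b),
        Dt.S.act_mul_inv hcn, mul_one, Dt.S.act_mul_inv hbn]
  have heb : ⁅e, b⁆ ∈ E := by
    rw [commutatorElement_def, show e * b * e⁻¹ * b⁻¹ = e * (b * e⁻¹ * b⁻¹) by group]
    exact mul_mem he ((mem_normalizer_iff.1 hbN _).1 (inv_mem he))
  rw [show ⁅e * c, b⁆ = (e * ⁅c, b⁆ * e⁻¹) * ⁅e, b⁆ by simp only [commutatorElement_def]; group]
  exact mul_mem (mem_sup_right (mem_normalizer_topKer (le_normalizer he) _ hmem)) (mem_sup_left heb)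

/-- An element of order prime to `p` of a block is in `E C(E)`. -/
theorem coprime_mem_sup {x : G} (hx : x ∈ K) (hco : (orderOf x).Coprime p) :
    x ∈ E ⊔ (normalizer (E : Set G) ⊓ centralizer (E : Set G)) := by
  obtain ⟨e, he, c, hc, rfl⟩ := (mem_sup_of_normal (topKer_le E)).1 (le_mul_topKer hG hE hEs hK hx)
  set a := (orderOf c).factorization p with ha
  have hco' : (orderOf (c ^ p ^ a)).Coprime p := by
    rw [orderOf_pow' _ (pow_ne_zero _ (Fact.out : p.Prime).ne_zero), Nat.gcd_eq_right (Nat.ordProj_dvd _ _)]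
    exact ((Nat.Prime.coprime_iff_not_dvd Fact.out).2
      (Nat.not_dvd_ordCompl Fact.out (orderOf_pos _).ne')).symm
  have hk := pow_mem hc (p ^ a)
  have hcE := centralizes_of_top hG hE hk.1 hco' hk.2.1 hk.2.2
  refine mem_of_pow_mem (hco.pow_right a) ((mem_sup_of_normal inf_le_left).2 ?_)
  have key : ∀ i : ℕ, ∃ e' ∈ E, (e * c) ^ i = e' * c ^ i := fun i => by
    induction i with
    | zero => exact ⟨1, one_mem _, by simp⟩
    | succ i ih =>
      obtain ⟨e', he', h⟩ := ih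
      refine ⟨e' * (c ^ i * e * (c ^ i)⁻¹), mul_mem he' ((mem_normalizer_iff.1 (pow_mem hc.1 i) e).1 he), ?_⟩
      rw [pow_succ, h, pow_succ]; group
  obtain ⟨e', he', h⟩ := key (p ^ a)
  exact ⟨e', he', _, Subgroup.mem_inf.2 ⟨hk.1, hcE⟩, h⟩

/-- A block centralizing `W_E` centralizes `E`. -/
theorem commutes_of_centralizes (hKW : K ≤ centralizer (WE p E : Set G)) : K ≤ centralizer (E : Set G) := by
  have hKN := block_le_normalizer hG hE hEs hK
  refine le_of_coprime_mem hK fun x hx hco => ?_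
  obtain ⟨e, he, c, hc, hxe⟩ := (mem_sup_of_normal (topKer_le E)).1 (le_mul_topKer hG hE hEs hK hx)
  have heQ : e ∈ QE p E := mem_QE_of_centralizes hG hE he (by
    rw [show e = x * c⁻¹ by rw [hxe, mul_inv_cancel_right]]
    exact mul_mem (hKW hx) (inv_mem hc.2.1))
  have heT : e ∈ topKer p E := by
    refine ⟨le_normalizer he, mem_centralizer_iff.2 fun w hw => ww_commute (we_le_ww E hw) heQ, fun q hq => ?_⟩
    rcases shape hG hE with ⟨F, fF, fin, n, hn, hcard, -, hQ | ⟨-, -, hcomm, -⟩⟩ | ⟨-, m, -, -, hQ⟩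
    case inl.inr =>
      refine zz_le_ww E (hcomm.le ?_)
      rw [← commutatorElement_def]
      exact commutator_mem_commutator heQ hq
    all_goals
      rw [← hQ]
      exact mul_mem (mul_mem (mul_mem heQ hq) (inv_mem heQ)) (inv_mem hq)
  have hxT : x ∈ topKer p E := hxe ▸ mul_mem heT hc
  exact centralizes_of_top hG hE hxT.1 hco hxT.2.1 hxT.2.2

end CfsgLib.LocalEven.Baumann
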