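import Cfsg.Agent.Lib.LocalEven.Baumann.Average
import Cfsg.Agent.Lib.PLocal.QdRankTwo
import Cfsg.Agent.Lib.LocalEven.SubnormalSylow

/-!
A `p`-group normalizing a block fixes an element of `W_E` outside the centre of the block.
-/

set_option autoImplicit false
set_option linter.unusedSectionVars false

namespace CfsgLib.LocalEven.Baumann

open Subgroup CfsgLib.LocalEven
open scoped commutatorElement

variable {G : Type*} [Group G] [Finite G] {p : ℕ} [Fact p.Prime]

/-- Without a fixed vector unless of order dividing `p`. -/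
theorem no_fixed_of_pow_ne_one {F : Type*} [Field F] [CharP F p] {r : Matrix.SpecialLinearGroup (Fin 2) F}
    (hr : r ^ p ≠ 1) {v : Fin 2 → F} (hv : r.1.mulVec v = v) : v = 0 := by
  by_contra hne
  apply hr
  set N := r.1 - 1 with hN
  have hdN : N.det = 0 := Matrix.exists_mulVec_eq_zero_iff.1 ⟨v, hne, by
    rw [hN, Matrix.sub_mulVec, Matrix.one_mulVec, hv, sub_self]⟩
  have htr : N.trace = 0 := by
    have h1 : (1 + N).det = 1 := by rw [hN, add_sub_cancel]; exact r.2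
    rw [Matrix.det_fin_two] at h1 hdN
    simp [Matrix.trace_fin_two] at h1 ⊢
    linear_combination h1 - hdN
  have hsq : N * N = 0 := by
    rw [Matrix.det_fin_two] at hdN
    rw [Matrix.trace_fin_two] at htr
    have h11 : N 1 1 = -N 0 0 := by linear_combination htr
    ext i j
    fin_cases i <;> fin_cases j <;>
      simp [Matrix.mul_apply, Fin.sum_univ_two, h11] at hdN ⊢ <;>
      first | ring1 | linear_combination -hdN | linear_combination hdN
  apply Subtype.ext
  rw [Matrix.SpecialLinearGroup.coe_pow, show r.1 = 1 + N by rw [hN, add_sub_cancel],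
    add_pow_char_of_commute _ (Commute.one_left N), one_pow, ← Nat.sub_add_cancel (Fact.out : p.Prime).two_le,
    pow_add, sq, hsq, mul_zero, add_zero]
  rfl

open CfsgLib.Classical in
/-- The normalizer in `SL₂(F)'` of a Sylow `p`-subgroup is not of exponent `p`. -/
theorem exists_pow_ne_one {F : Type} [Field F] [Fintype F] [CharP F p] {n : ℕ} (hn : 0 < n)
    (hcard : Fintype.card F = p ^ n) (X : Subgroup (Matrix.SpecialLinearGroup (Fin 2) F))
    (hX : X ≤ commutator (Matrix.SpecialLinearGroup (Fin 2) F)) (hXp : IsPGroup p X)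
    (hXi : ¬ p ∣ X.relIndex (commutator (Matrix.SpecialLinearGroup (Fin 2) F))) :
    ∃ r ∈ commutator (Matrix.SpecialLinearGroup (Fin 2) F), (∀ x ∈ X, r * x * r⁻¹ ∈ X) ∧ r ^ p ≠ 1 := by
  have hp := (Fact.out : p.Prime)
  rcases Nat.lt_or_ge (Nat.card F) 4 with h4 | h4
  · have hq : Nat.card F = p := by
      rw [Nat.card_eq_fintype_card, hcard]
      rcases eq_or_ne n 1 with rfl | h1
      · rw [pow_one]
      · exfalso
        rw [Nat.card_eq_fintype_card, hcard] at h4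
        have h2 : p ^ 2 ≤ p ^ n := Nat.pow_le_pow_right hp.pos (by omega)
        have h3 : 2 ^ 2 ≤ p ^ 2 := Nat.pow_le_pow_left hp.two_le 2
        omega
    set R := commutator (Matrix.SpecialLinearGroup (Fin 2) F) with hR
    have hnd : ¬ p ∣ Nat.card R ∧ Nat.card R ≠ 1 := by
      rcases card_commutator_of_small hq h4 with ⟨rfl, h⟩ | ⟨rfl, h⟩ <;> rw [hR, h] <;> norm_num
    have hX1 : X = ⊥ := by
      refine eq_bot_of_card_eq X ?_
      obtain ⟨k, hk⟩ := IsPGroup.iff_card.1 hXp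
      rcases k with _ | k
      · rwa [pow_zero] at hk
      · exact absurd ((hk ▸ dvd_pow_self p k.succ_ne_zero).trans (Subgroup.card_dvd_of_le hX)) hnd.1
    obtain ⟨r, hr, hr1⟩ : ∃ r ∈ R, r ≠ 1 := by
      by_contra h
      push Not at h
      exact hnd.2 (by rw [show R = ⊥ from (Subgroup.eq_bot_iff_forall _).2 h, Subgroup.card_bot])
    refine ⟨r, hr, fun x hx => ?_, fun hrp => hr1 ?_⟩
    · rw [hX1, Subgroup.mem_bot] at hx
      rw [hx, mul_one, mul_inv_cancel]; exact one_mem _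
    · refine orderOf_eq_one_iff.1 (Nat.eq_one_of_dvd_coprimes ((Nat.Prime.coprime_iff_not_dvd hp).2 hnd.1)
        (orderOf_dvd_of_pow_eq_one hrp) ?_)
      exact (Subgroup.orderOf_mk r hr) ▸ orderOf_dvd_natCard (⟨r, hr⟩ : R)
  · rw [commutator_eq_top_of_four h4, relIndex_top_right] at hXi
    let P : Sylow p (Matrix.SpecialLinearGroup (Fin 2) F) := Sylow.ofCard (uSubgroup F) (isSylow_uSubgroup p)
    obtain ⟨g, hg⟩ := MulAction.exists_smul_eq (Matrix.SpecialLinearGroup (Fin 2) F) P (hXp.toSylow hXi)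
    have hgX : (uSubgroup F).map (MulAut.conj g).toMonoidHom = X := by
      rw [CfsgLib.Base.map_conj_eq_smul]
      exact congrArg Sylow.toSubgroup hg
    obtain ⟨l, hl⟩ : ∃ l : Fˣ, l ≠ 1 := by
      by_contra h
      push Not at h
      have hs : Nat.card Fˣ ≤ 1 := Finite.card_le_one_iff_subsingleton.2 ⟨fun a b => (h a).trans (h b).symm⟩
      rw [Nat.card_units] at hs
      omega
    obtain ⟨d, hdv⟩ : ∃ d : Matrix.SpecialLinearGroup (Fin 2) F, d.1 = !![(l : F), 0; 0, ((l⁻¹ : Fˣ) : F)] :=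
      ⟨⟨!![(l : F), 0; 0, ((l⁻¹ : Fˣ) : F)], by simp [Matrix.det_fin_two]⟩, rfl⟩
    refine ⟨g * d * g⁻¹, by rw [commutator_eq_top_of_four h4]; trivial, fun x hx => ?_, fun h => ?_⟩
    · rw [← hgX] at hx ⊢
      obtain ⟨y, hy, rfl⟩ := hx
      obtain ⟨t, rfl⟩ := mem_uSubgroup_iff.1 hy
      refine ⟨uSL ((l : F) * (l : F) * t), mem_uSubgroup_iff.2 ⟨_, rfl⟩, ?_⟩
      have hd : d * uSL t = uSL ((l : F) * (l : F) * t) * d := by
        apply Subtype.ext
        simp only [Matrix.SpecialLinearGroup.coe_mul, uSL_coe, hdv]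
        ext i j
        fin_cases i <;> fin_cases j <;> simp [Matrix.mul_apply, Fin.sum_univ_two]
        field_simp
      simp only [MulEquiv.coe_toMonoidHom, MulAut.conj_apply]
      rw [show g * d * g⁻¹ * (g * uSL t * g⁻¹) * (g * d * g⁻¹)⁻¹ = g * (d * uSL t * d⁻¹) * g⁻¹ by group,
        hd, mul_inv_cancel_right]
    · apply hl
      rw [show (g * d * g⁻¹) ^ p = g * d ^ p * g⁻¹ by rw [conj_pow], mul_inv_eq_one] at h
      have hd1 : d ^ p = 1 := by
        calc d ^ p = g⁻¹ * (g * d ^ p) := by group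
          _ = 1 := by rw [h, inv_mul_cancel]
      have hpow : ∀ k : ℕ, (d.1 ^ k) 0 0 = (l : F) ^ k ∧ (d.1 ^ k) 1 0 = 0 := fun k => by
        induction k with
        | zero => simp
        | succ k ih =>
          rw [hdv] at ih ⊢
          generalize ((l⁻¹ : Fˣ) : F) = l' at ih ⊢
          rw [pow_succ _ k]
          simp [Matrix.mul_apply, Fin.sum_univ_two, ih.1, ih.2, pow_succ]
      have hlp : (l : F) ^ p = 1 := by rw [← (hpow p).1, ← Matrix.SpecialLinearGroup.coe_pow, hd1]; simp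
      have : ((l : F) - 1) ^ p = 0 := by rw [sub_pow_char, hlp, one_pow, sub_self]
      exact Units.ext (sub_eq_zero.1 (eq_zero_of_pow_eq_zero this))

open CfsgLib.Classical in
/-- Every scalar on a vector fixed by a Sylow subgroup of `SL₂(F)` comes from its normalizer. -/
theorem exists_scale {F : Type} [Field F] [Fintype F] [CharP F p] (X : Subgroup (Matrix.SpecialLinearGroup (Fin 2) F))
    (hXp : IsPGroup p X) (hXi : ¬ p ∣ X.index) {v : Fin 2 → F} (hv : ∀ x ∈ X, x.1.mulVec v = v) (l : Fˣ) :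
    ∃ r : Matrix.SpecialLinearGroup (Fin 2) F, (∀ x ∈ X, r * x * r⁻¹ ∈ X) ∧ r.1.mulVec v = (l : F) • v := by
  let P : Sylow p (Matrix.SpecialLinearGroup (Fin 2) F) := Sylow.ofCard (uSubgroup F) (isSylow_uSubgroup p)
  obtain ⟨g, hg⟩ := MulAction.exists_smul_eq (Matrix.SpecialLinearGroup (Fin 2) F) P (hXp.toSylow hXi)
  have hgX : (uSubgroup F).map (MulAut.conj g).toMonoidHom = X := by
    rw [CfsgLib.Base.map_conj_eq_smul]
    exact congrArg Sylow.toSubgroup hg
  obtain ⟨d, hdv⟩ : ∃ d : Matrix.SpecialLinearGroup (Fin 2) F, d.1 = !![(l : F), 0; 0, ((l⁻¹ : Fˣ) : F)] :=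
    ⟨⟨!![(l : F), 0; 0, ((l⁻¹ : Fˣ) : F)], by simp [Matrix.det_fin_two]⟩, rfl⟩
  refine ⟨g * d * g⁻¹, fun x hx => ?_, ?_⟩
  · rw [← hgX] at hx ⊢
    obtain ⟨y, hy, rfl⟩ := hx
    obtain ⟨t, rfl⟩ := mem_uSubgroup_iff.1 hy
    refine ⟨uSL ((l : F) * (l : F) * t), mem_uSubgroup_iff.2 ⟨_, rfl⟩, ?_⟩
    have hd : d * uSL t = uSL ((l : F) * (l : F) * t) * d := by
      apply Subtype.ext
      simp only [Matrix.SpecialLinearGroup.coe_mul, uSL_coe, hdv]
      ext i j
      fin_cases i <;> fin_cases j <;> simp [Matrix.mul_apply, Fin.sum_univ_two]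
      field_simp
    simp only [MulEquiv.coe_toMonoidHom, MulAut.conj_apply]
    rw [show g * d * g⁻¹ * (g * uSL t * g⁻¹) * (g * d * g⁻¹)⁻¹ = g * (d * uSL t * d⁻¹) * g⁻¹ by group,
      hd, mul_inv_cancel_right]
  · -- the vector lies on the fixed line
    set w := (g⁻¹).1.mulVec v with hw
    have hgw : g.1.mulVec w = v := by
      rw [hw, Matrix.mulVec_mulVec, ← Matrix.SpecialLinearGroup.coe_mul, mul_inv_cancel,
        Matrix.SpecialLinearGroup.coe_one, Matrix.one_mulVec]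
    have hu : g * uSL 1 * g⁻¹ ∈ X := hgX ▸ ⟨uSL 1, mem_uSubgroup_iff.2 ⟨1, rfl⟩, rfl⟩
    have h1 := hv _ hu
    rw [Matrix.SpecialLinearGroup.coe_mul, Matrix.SpecialLinearGroup.coe_mul, ← Matrix.mulVec_mulVec,
      ← Matrix.mulVec_mulVec, ← hw] at h1
    have hginv : ∀ z : Fin 2 → F, (g⁻¹).1.mulVec (g.1.mulVec z) = z := fun z => by
      rw [Matrix.mulVec_mulVec, ← Matrix.SpecialLinearGroup.coe_mul, inv_mul_cancel,
        Matrix.SpecialLinearGroup.coe_one, Matrix.one_mulVec]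
    have h2 : (uSL (1 : F)).1.mulVec w = w := by
      rw [← hginv ((uSL (1 : F)).1.mulVec w), h1]
    have hw1 : w 1 = 0 := by
      rw [mulVec_uSL] at h2
      have h0 := congrFun h2 0
      simp at h0
      exact h0
    rw [Matrix.SpecialLinearGroup.coe_mul, Matrix.SpecialLinearGroup.coe_mul, ← Matrix.mulVec_mulVec,
      ← Matrix.mulVec_mulVec, ← hw, hdv, mulVec_diag, ← hgw, ← Matrix.mulVec_smul]
    congr 1
    ext i
    fin_cases i <;> simp [hw1]

variable {T : Sylow p G} {E : Subgroup G}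
variable (hG : centralizer (Cfsg.pCore p G : Set G) ≤ Cfsg.pCore p G)
  (hE : Cfsg.IsBaumannBlock p (T : Subgroup G) E)
include hG hE

/-- An element of `Ω₁(Z(T))` moved by `E`, in `V`. -/
theorem exists_center_moved : ∃ x ∈ VV p G, (∀ t ∈ (T : Subgroup G), t * x * t⁻¹ = x) ∧
    x ∉ centralizer (E : Set G) := by
  have h4 := hE.2.2.2.1
  rw [Ne, commutator_comm, commutator_eq_bot_iff_le_centralizer, SetLike.not_le_iff_exists] at h4
  obtain ⟨x, hx, hxE⟩ := h4
  obtain ⟨-, hxc, hxp⟩ := mem_omegaOneCenter_iff.1 hx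
  have hOT := CfsgLib.Base.pCore_le_sylow (p := p) T
  have hO : ∀ o ∈ OO p G, o * x = x * o := fun o ho => mem_centralizer_iff.1 hxc o (hOT ho)
  have hxO : x ∈ OO p G := mem_OO_of_centralizes hG fun o ho => (hO o ho).symm
  refine ⟨x, mem_omegaOneCenter_iff.2 ⟨hxO, mem_centralizer_iff.2 hO, hxp⟩, fun t ht => ?_, hxE⟩
  rw [mem_centralizer_iff.1 hxc t ht, mul_inv_cancel_right]

/-- The module of a `P`-invariant torus: the part of `C_V(U)` moved by `N_E(U)`. -/
theorem exists_lift_sub (hEs : E.IsSubnormal) (P : Subgroup G) (hP : IsPGroup p P)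
    (hPN : P ≤ normalizer (E : Set G)) {F : Type} [Field F] [Fintype F] {n : ℕ} (hn : 0 < n)
    (hcard : Fintype.card F = p ^ n) (D : NatSec p E (WW p E) (ZZ p E) F) :
    ∃ D' : Subgroup G, D' ≤ WE p E ∧ D' ≠ ⊥ ∧ P ≤ normalizer (D' : Set G) ∧
      (∀ y ∈ D', y ∈ centralizer (E : Set G) → y = 1) ∧
      (4 ≤ Nat.card F → ∀ y ∈ D', ∀ c : F, ∃ y' ∈ D', D.S.f y' = c • D.S.f y) := by
  haveI := CfsgLib.LocalEven.Natural.charP_of_card (p := p) hcard
  -- a Sylow subgroup of `E` normalized by `P`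
  obtain ⟨U, hUE, hUp, hUi, hPU⟩ : ∃ U : Subgroup G, U ≤ E ∧ IsPGroup p U ∧ ¬ p ∣ U.relIndex E ∧
      P ≤ normalizer (U : Set G) := by
    set X := P ⊔ E with hX
    haveI hnormal : (E.subgroupOf X).Normal :=
      (normal_subgroupOf_iff_le_normalizer (le_sup_right : E ≤ X)).2 (sup_le hPN le_normalizer)
    obtain ⟨S, hS⟩ := (hP.of_equiv (subgroupOfEquivOfLe (le_sup_left : P ≤ X)).symm).exists_le_sylow
    have hmap : (E.subgroupOf X).map X.subtype = E := map_subgroupOf_eq_of_le le_sup_right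
    refine ⟨((S : Subgroup X) ⊓ E.subgroupOf X).map X.subtype, ?_, (S.2.to_le inf_le_left).map _, ?_, ?_⟩
    · exact (map_mono inf_le_right).trans hmap.le
    · rw [← congrArg (Subgroup.relIndex (((S : Subgroup X) ⊓ E.subgroupOf X).map X.subtype)) hmap,
        relIndex_map_map_of_injective _ _ X.subtype_injective]
      exact CfsgLib.PLocal.not_dvd_relIndex_sylow_inf S _
    · intro g hg
      have hgS : (⟨g, mem_sup_left hg⟩ : X) ∈ (S : Subgroup X) := hS (mem_subgroupOf.2 hg)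
      refine mem_normalizer_of_conj ?_
      have h1 : (⟨g, mem_sup_left hg⟩ : X) ∈ normalizer (((S : Subgroup X) ⊓ E.subgroupOf X : Subgroup X) : Set X) :=
        mem_normalizer_inf (le_normalizer hgS) (mem_normalizer_of_normal _)
      rw [Subgroup.map_map, show (MulAut.conj g).toMonoidHom.comp X.subtype
        = X.subtype.comp (MulAut.conj (⟨g, mem_sup_left hg⟩ : X)).toMonoidHom from rfl, ← Subgroup.map_map,
        conj_map_eq_of_mem_normalizer h1]
  have hQU : QE p E ≤ U := by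
    have hEn : U ≤ normalizer (QE p E : Set G) := hUE.trans (le_normalizer_pCoreOf p E)
    have hsup : IsPGroup p ↥(U ⊔ QE p E) := hUp.to_sup_of_normal_right' (isPGroup_QE E) hEn
    have h := SubSyl.eq_of_le_of_not_dvd (p := p) (le_sup_left : U ≤ U ⊔ QE p E) hsup
      (fun hd => hUi (hd.trans (Dvd.intro _ (relIndex_mul_relIndex U _ E le_sup_left (sup_le hUE (pCoreOf_le p E))))))
    rw [h]; exact le_sup_right
  -- a moved element of `V` fixed by `U`
  obtain ⟨x, hxV, hxU, hxE⟩ : ∃ x ∈ VV p G, (∀ u ∈ U, u * x * u⁻¹ = x) ∧ x ∉ centralizer (E : Set G) := by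
    obtain ⟨x, hxV, hxT, hxE⟩ := exists_center_moved hG hE
    obtain ⟨e, he, heU⟩ := CfsgLib.PLocal.exists_map_conj_eq_of_sylow_in (p := p) (P := E ⊓ (T : Subgroup G))
      inf_le_left hUE (T.2.to_le inf_le_right) hUp (SubSyl.not_dvd_inf T hEs) hUi
    refine ⟨e * x * e⁻¹, (vv_normal (G := G) (p := p)).conj_mem x hxV e, fun u hu => ?_, fun h => hxE ?_⟩
    · rw [← heU] at hu
      obtain ⟨t, ht, rfl⟩ := hu
      show e * t * e⁻¹ * (e * x * e⁻¹) * (e * t * e⁻¹)⁻¹ = e * x * e⁻¹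
      rw [show e * t * e⁻¹ * (e * x * e⁻¹) * (e * t * e⁻¹)⁻¹ = e * (t * x * t⁻¹) * e⁻¹ by group, hxT t ht.2]
    · have := (mem_normalizer_iff.1 (normalizer_le_normalizer_centralizer _ (le_normalizer (inv_mem he))) _).1 h
      simpa [mul_assoc] using this
  set L := E ⊓ normalizer (U : Set G) with hL
  have hUL : U ≤ L := le_inf hUE le_normalizer
  have hLi : ¬ p ∣ L.relIndex E := fun hd => hUi (hd.trans (relIndex_dvd_of_le_left E hUL))
  -- a complement of `U` in `L`
  obtain ⟨H, hHL, hHco, hdec⟩ : ∃ H : Subgroup G, H ≤ L ∧ (Nat.card H).Coprime (Nat.card (VV p G)) ∧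
      ∀ l ∈ L, ∃ u ∈ U, ∃ h ∈ H, u * h = l := by
    haveI : (U.subgroupOf L).Normal := (normal_subgroupOf_iff_le_normalizer hUL).2 inf_le_right
    have hcU : Nat.card (U.subgroupOf L) = Nat.card U := Nat.card_congr (subgroupOfEquivOfLe hUL).toEquiv
    obtain ⟨a, ha⟩ := IsPGroup.iff_card.1 hUp
    have hidx : ¬ p ∣ (U.subgroupOf L).index :=
      fun hd => hUi (hd.trans (Dvd.intro _ (relIndex_mul_relIndex U L E hUL inf_le_left)))
    have hco : (Nat.card (U.subgroupOf L)).Coprime (U.subgroupOf L).index := by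
      rw [hcU, ha]
      exact Nat.Coprime.pow_left _ ((Nat.Prime.coprime_iff_not_dvd Fact.out).2 hidx)
    obtain ⟨H', hH'⟩ := Subgroup.exists_right_complement'_of_coprime hco
    refine ⟨H'.map L.subtype, map_subtype_le _, ?_, fun l hl => ?_⟩
    · obtain ⟨b, hb⟩ := IsPGroup.iff_card.1 (isPGroup_VV (G := G) (p := p))
      rw [card_map_of_injective L.subtype_injective, hb]
      refine Nat.Coprime.pow_right _ ((Nat.Prime.coprime_iff_not_dvd Fact.out).2 ?_).symm
      rwa [← hH'.symm.index_eq_card]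
    · obtain ⟨⟨u, h⟩, huh, -⟩ := hH'.existsUnique ⟨l, hl⟩
      exact ⟨u.1.1, u.2, h.1.1, ⟨h.1, h.2, rfl⟩, congrArg Subtype.val huh⟩
  set C := VV p G ⊓ centralizer (U : Set G) with hC
  haveI := vv_normal (G := G) (p := p)
  have hCn : ∀ g, g ∈ normalizer (U : Set G) → g ∈ normalizer (C : Set G) := fun g hg =>
    mem_normalizer_inf (mem_normalizer_of_normal g) (normalizer_le_normalizer_centralizer _ hg)
  haveI hCab : IsMulCommutative C :=
    ⟨⟨fun a b => Subtype.ext (vv_commute a.2.1 (omegaOneCenter_le _ b.2.1))⟩⟩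
  have hHn : H ≤ normalizer (C : Set G) := fun h hh => hCn h (hHL hh).2
  have hcop : (Nat.card H).Coprime (Nat.card C) := hHco.coprime_dvd_right (Subgroup.card_dvd_of_le inf_le_left)
  set D' := ⁅C, L⁆ with hD'
  have hDC : D' ≤ ⁅C, H⁆ := by
    rw [hD', commutator_le]
    intro c hc l hl
    obtain ⟨u, hu, h, hh, rfl⟩ := hdec l hl
    have hcu : c * u = u * c := (mem_centralizer_iff.1 hc.2 u hu).symm
    have hch : ⁅c, h⁆ ∈ C := CfsgLib.Coprime.commutator_le_of_le_normalizer hHn (commutator_mem_commutator hc hh)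
    have e1 : ⁅c, u * h⁆ = u * ⁅c, h⁆ * u⁻¹ := by
      simp only [commutatorElement_def]
      calc c * (u * h) * c⁻¹ * (u * h)⁻¹ = (c * u) * h * c⁻¹ * h⁻¹ * u⁻¹ := by group
        _ = _ := by rw [hcu]; group
    rw [e1, mem_centralizer_iff.1 hch.2 u hu, mul_inv_cancel_right]
    exact commutator_mem_commutator hc hh
  have hDW : D' ≤ WE p E := by
    rw [hD', commutator_le]
    intro c hc l hl
    rw [commutatorElement_def]
    exact vv_commutator_mem hG hE hc.1 hl.1
  have hbot := CfsgLib.Coprime.centralizer_inf_commutator_eq_bot hHn hcop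
  have hDL : ∀ y ∈ D', y ∈ centralizer (E : Set G) → y = 1 := fun y hy hc => by
    rw [← Subgroup.mem_bot, ← hbot]
    have hyC : y ∈ C := CfsgLib.Coprime.commutator_le_of_le_normalizer hHn (hDC hy)
    exact ⟨⟨hyC, centralizer_le (show (H : Set G) ⊆ E from fun h hh => (hHL hh).1) hc⟩, hDC hy⟩
  set Ū := (U.subgroupOf E).map D.rho with hŪ
  have hker : D.rho.ker ≤ U.subgroupOf E := fun e he => hQU (D.ker e he)
  have hŪR : Ū ≤ commutator (Matrix.SpecialLinearGroup (Fin 2) F) := D.range ▸ map_le_range _ _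
  have hŪp : IsPGroup p Ū := (hUp.of_equiv (subgroupOfEquivOfLe hUE).symm).map _
  have hŪi : ¬ p ∣ Ū.relIndex (commutator (Matrix.SpecialLinearGroup (Fin 2) F)) := by
    rw [← D.range, MonoidHom.range_eq_map, hŪ, relIndex_map_map, sup_eq_left.2 hker, top_sup_eq,
      relIndex_top_right]
    exact hUi
  have hmemL : ∀ e : ↥E, (∀ x ∈ Ū, D.rho e * x * (D.rho e)⁻¹ ∈ Ū) → (e : G) ∈ L := by
    intro e hrn
    refine Subgroup.mem_inf.2 ⟨e.2, mem_normalizer_of_conj (eq_of_le_of_card_ge ?_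
      (Nat.card_congr (equivMapOfInjective U _ (MulAut.conj (e : G)).injective).toEquiv).le)⟩
    rintro _ ⟨u, hu, rfl⟩
    obtain ⟨v, hv, hve⟩ := hrn _ (mem_map_of_mem D.rho (mem_subgroupOf.2 hu : (⟨u, hUE hu⟩ : ↥E) ∈ _))
    have hk : v⁻¹ * (e * ⟨u, hUE hu⟩ * e⁻¹) ∈ D.rho.ker := by
      rw [MonoidHom.mem_ker, map_mul, map_inv, hve, map_mul, map_mul, map_inv, inv_mul_cancel]
    have := mul_mem hv (hker hk)
    rw [mul_inv_cancel_left] at this
    exact this
  have hDne : D' ≠ ⊥ := by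
    intro hD0
    have hxC : x ∈ C := Subgroup.mem_inf.2 ⟨hxV, mem_centralizer_iff.2 fun u hu => mul_inv_eq_iff_eq_mul.1 (hxU u hu)⟩
    have hfix : ∀ l ∈ L, l * x * l⁻¹ = x := fun l hl => by
      have := mem_centralizer_iff.1 (commutator_eq_bot_iff_le_centralizer.1 hD0 hxC) l hl
      rw [this, mul_inv_cancel_right]
    obtain ⟨c, hc, hcE, hcx⟩ := exists_mul_centralizer_of_fixed hG hE inf_le_left hLi hxV hfix
    obtain ⟨r, hrR, hrn, hrp⟩ := exists_pow_ne_one hn hcard Ū hŪR hŪp hŪi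
    obtain ⟨e, rfl⟩ := D.range.symm ▸ hrR
    have heL : (e : G) ∈ L := hmemL e hrn
    have hfu : D.S.f (c⁻¹ * x) = 0 := by
      refine no_fixed_of_pow_ne_one (r := D.rho e) hrp ?_
      rw [← mv_apply, ← D.act_rho, D.S.act_f (D.norm e.2) (we_le_ww E hcx)]
      congr 1
      have h1 : (e : G) * c⁻¹ = c⁻¹ * e := mem_centralizer_iff.1 (inv_mem hcE) e e.2
      calc (e : G) * (c⁻¹ * x) * (e : G)⁻¹ = ((e : G) * c⁻¹) * x * (e : G)⁻¹ := by group
        _ = c⁻¹ * ((e : G) * x * (e : G)⁻¹) := by rw [h1]; group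
        _ = _ := by rw [hfix _ heL]
    have := (D.S.ker _ (we_le_ww E hcx)).1 hfu
    refine hxE ?_
    rw [show x = c * (c⁻¹ * x) by group]
    exact mul_mem hcE this.2
  refine ⟨D', hDW, hDne, fun g hg => mem_normalizer_commutator (hCn g (hPU hg))
    (mem_normalizer_inf (hPN hg) (le_normalizer (hPU hg))), hDL, fun h4 y hy c => ?_⟩
  rcases eq_or_ne c 0 with rfl | hc0
  · exact ⟨1, one_mem _, by rw [zero_smul, D.S.f_one]⟩
  have hyC : y ∈ C := CfsgLib.Coprime.commutator_le_of_le_normalizer hHn (hDC hy)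
  have hfix : ∀ x ∈ Ū, x.1.mulVec (D.S.f y) = D.S.f y := by
    rintro _ ⟨u, hu, rfl⟩
    rw [← mv_apply, ← D.act_rho, D.S.act_f (D.norm u.2) (we_le_ww E (hDW hy)),
      mem_centralizer_iff.1 hyC.2 (u : G) (mem_subgroupOf.1 hu), mul_inv_cancel_right]
  obtain ⟨r, hrn, hrv⟩ := exists_scale Ū hŪp (by
    have := hŪi; rwa [commutator_eq_top_of_four h4, relIndex_top_right] at this) hfix (Units.mk0 c hc0)
  obtain ⟨e, rfl⟩ : r ∈ D.rho.range := by
    rw [D.range, commutator_eq_top_of_four h4]; trivial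
  have heL := hmemL e hrn
  refine ⟨(e : G) * y * (e : G)⁻¹, (mem_normalizer_iff.1 (mem_normalizer_commutator (hCn _ heL.2)
    (le_normalizer heL)) y).1 hy, ?_⟩
  rw [← D.S.act_f (D.norm e.2) (we_le_ww E (hDW hy)), D.act_rho, mv_apply, hrv, Units.val_mk0]

/-- A `p`-group normalizing `E` fixes an element of `W_E` not centralized by `E`. -/
theorem exists_lift (hEs : E.IsSubnormal) (P : Subgroup G) (hP : IsPGroup p P)
    (hPN : P ≤ normalizer (E : Set G)) :
    ∃ y ∈ WE p E, y ∉ centralizer (E : Set G) ∧ ∀ g ∈ P, g * y = y * g := by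
  rcases shape hG hE with ⟨F, fF, fin, n, hn, hcard, ⟨D⟩, -⟩ | ⟨hp, m, hm, ⟨D⟩, -⟩
  swap
  · have hsplit := alt_split hG hE hm hp D
    have hne : WE p E ≠ ⊥ := fun h => we_not_le_zz hG hE (h.le.trans bot_le)
    obtain ⟨y, hy, hy1, hyc⟩ := CfsgLib.PLocal.RankTwo.exists_fixed hP
      ((isPGroup_QE E).to_le ((we_le_ww E).trans (ww_le E))) hne
      (fun x hx d hd => (mem_normalizer_iff.1 (mem_normalizer_WE (hPN hx)) d).1 hd)
    refine ⟨y, hy, fun hc => hy1 ?_, hyc⟩
    rw [← Subgroup.mem_bot, ← hsplit]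
    exact ⟨hy, we_le_ww E hy, hc⟩
  obtain ⟨D', hDW, hDne, hPD, hDL, -⟩ := exists_lift_sub hG hE hEs P hP hPN hn hcard D
  obtain ⟨y, hy, hy1, hyc⟩ := CfsgLib.PLocal.RankTwo.exists_fixed hP
    (isPGroup_VV.to_le (hDW.trans (we_le_vv hG hE))) hDne
    (fun g hg d hd => (mem_normalizer_iff.1 (hPD hg) d).1 hd)
  exact ⟨y, hDW hy, fun h => hy1 (hDL y hy h), hyc⟩

end CfsgLib.LocalEven.Baumann
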