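import Cfsg.Agent.Lib.LocalEven.Baumann.Subnormal

/-!
The Baumann subgroups act linearly on `W / Z` of a subnormal block of linear shape.
-/

set_option autoImplicit false
set_option linter.unusedSectionVars false

namespace CfsgLib.LocalEven.Baumann

open Subgroup CfsgLib.LocalEven CfsgLib.PLocal
open scoped commutatorElement

variable {G : Type*} [Group G] [Finite G] {p : ℕ} [Fact p.Prime]

/-- The elements acting linearly on a section. -/
def linSub {U U₀ : Subgroup G} {F : Type} [Field F] (S : Sec U U₀ (Fin 2 → F)) : Subgroup G where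
  carrier := {g | g ∈ S.nrm ∧ IsLin (S.act g)}
  one_mem' := ⟨one_mem _, by rw [S.act_one]; exact isLin_one⟩
  mul_mem' := fun {a b} ha hb => ⟨mul_mem ha.1 hb.1, by rw [S.act_mul ha.1 hb.1]; exact ha.2.mul hb.2⟩
  inv_mem' := fun {a} ha => ⟨inv_mem ha.1, fun c v => by
    apply S.act_injective_apply ha.1
    have h1 : ∀ w, S.act a (S.act a⁻¹ w) = w := fun w => by
      rw [← eapp, S.act_mul_inv ha.1]; rfl
    rw [h1, ha.2, h1]⟩

/-- A linear `p`-element acts as an element of `SL₂`, quadratically. -/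
theorem exists_SL_of_isLin {U U₀ : Subgroup G} {F : Type} [Field F] [Finite F] [CharP F p]
    (S : Sec U U₀ (Fin 2 → F)) {g : G} (hg : g ∈ S.nrm) (hl : IsLin (S.act g)) {k : ℕ} (hk : g ^ p ^ k = 1) :
    ∃ M : Matrix.SpecialLinearGroup (Fin 2) F, S.act g = mv M.1 ∧ (M.1 - 1) * (M.1 - 1) = 0 := by
  obtain ⟨M, hM⟩ := hl.exists_matrix
  have hpow : M ^ p ^ k = 1 := mv_injective (by
    have e : ∀ n : ℕ, mv (M ^ n) = S.act g ^ n := fun n => by
      induction n with
      | zero => rw [pow_zero, pow_zero, mv_one]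
      | succ n ih => rw [pow_succ, pow_succ, mv_mul, ih, hM]
    rw [e, ← S.act_pow hg, hk, S.act_one, mv_one])
  obtain ⟨h1, h2⟩ := det_and_sq_of_pow hpow
  exact ⟨⟨M, h1⟩, hM, h2⟩

variable {T₀ : Sylow p G} {E : Subgroup G}
variable (hG : centralizer (Cfsg.pCore p G : Set G) ≤ Cfsg.pCore p G)
  (hE : Cfsg.IsBaumannBlock p (T₀ : Subgroup G) E) (hEs : E.IsSubnormal)
include hG hE hEs

/-- `B(T)` is linear on `W / Z`, for every Sylow subgroup `T`. -/
theorem baumann_isLin {F : Type} [Field F] [Fintype F] {n : ℕ} (hn : 0 < n) (hcard : Fintype.card F = p ^ n)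
    (D : NatSec p E (WW p E) (ZZ p E) F) (T : Sylow p G) {b : G}
    (hb : b ∈ Cfsg.baumannSubgroupOf p (T : Subgroup G)) : IsLin (D.S.act b) := by
  rcases four_le_or_prime hn hcard with h4 | hprime
  swap
  · exact isLin_of_prime hprime _
  haveI := CfsgLib.LocalEven.Natural.charP_of_card (p := p) hcard
  have hVe : Cfsg.IsElementaryAbelian p (WE p E) :=
    ⟨⟨⟨fun a c => Subtype.ext (vv_commute (we_le_vv hG hE a.2) (omegaOneCenter_le _ (we_le_vv hG hE c.2)))⟩⟩,
      fun a ha => vv_pow (we_le_vv hG hE ha)⟩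
  have hVT : WE p E ≤ (T : Subgroup G) :=
    (we_le_vv hG hE).trans ((omegaOneCenter_le _).trans (CfsgLib.Base.pCore_le_sylow T))
  -- the members of `J(T)` are linear
  have hJ : Cfsg.thompsonSubgroupOf p (T : Subgroup G) ≤ linSub D.S := by
    rw [thompsonSubgroupOf_eq_sSup]
    refine sSup_le fun A hA => ?_
    have hAN := max_le_normalizer hG hE hEs hA
    have hAn : ∀ a ∈ A, a ∈ D.S.nrm := fun a ha => mem_bot_nrm D (hAN ha)
    let f : ↥A →* AddMonoid.End (Fin 2 → F) := D.S.actHom.comp (inclusion hAn)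
    let act := QuotientGroup.lift f.ker f le_rfl
    have hcomm : ∀ a c : ↥A ⧸ f.ker, a * c = c * a := fun a c => by
      obtain ⟨a, rfl⟩ := QuotientGroup.mk_surjective a
      obtain ⟨c, rfl⟩ := QuotientGroup.mk_surjective c
      rw [← QuotientGroup.mk_mul, ← QuotientGroup.mk_mul, hA.2.1.1.is_comm.comm a c]
    have hexp : ∀ a : ↥A ⧸ f.ker, a ^ p = 1 := fun a => by
      obtain ⟨a, rfl⟩ := QuotientGroup.mk_surjective a
      rw [← QuotientGroup.mk_pow, show a ^ p = 1 from Subtype.ext (by simpa using hA.2.1.2 a a.2),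
        QuotientGroup.mk_one]
    have hsemi : ∀ a : ↥A ⧸ f.ker, ∃ σ : F ≃+* F, ∀ (c : F) (v : Fin 2 → F), act a (c • v) = σ c • act a v := by
      intro a
      obtain ⟨a, rfl⟩ := QuotientGroup.mk_surjective a
      exact D.exists_semilinear (four_le_or_prime hn hcard) (hAN a.2) (hAn _ a.2)
    set C := WE p E ⊓ centralizer (A : Set G) with hC
    set X : Set (Fin 2 → F) := D.S.f '' (C : Set G) with hX
    have hXfix : ∀ x ∈ X, ∀ a, act a x = x := by
      rintro _ ⟨u, hu, rfl⟩ a
      obtain ⟨a, rfl⟩ := QuotientGroup.mk_surjective a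
      show D.S.act (a : G) (D.S.f u) = _
      rw [D.S.act_f (hAn _ a.2) (we_le_ww E hu.1), mem_centralizer_iff.1 hu.2 (a : G) a.2, mul_inv_cancel_right]
    -- fibres of `f` on `C`
    have hCX : Nat.card C ≤ Nat.card X * Nat.card ↥(WE p E ⊓ ZZ p E) := by
      let ψ : ↥C →* Multiplicative (Fin 2 → F) :=
        { toFun := fun u => Multiplicative.ofAdd (D.S.f (u : G))
          map_one' := by simp [D.S.f_one]
          map_mul' := fun a c => by simp [D.S.map_mul a (we_le_ww E a.2.1) c (we_le_ww E c.2.1)] }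
      rw [← ψ.ker.card_mul_index, index_ker, mul_comm (Nat.card X)]
      refine Nat.mul_le_mul ?_ (le_of_eq ?_)
      · refine Nat.card_le_card_of_injective (fun u => ⟨((u : ↥C) : G), Subgroup.mem_inf.2 ⟨(u : ↥C).2.1, ?_⟩⟩) ?_
        · exact (D.S.ker _ (we_le_ww E (u : ↥C).2.1)).1 u.2
        · intro u u' h; exact Subtype.ext (Subtype.ext (congrArg Subtype.val h :))
      · exact Nat.card_congr
          { toFun := fun y => ⟨Multiplicative.toAdd y.1, by obtain ⟨u, hu⟩ := y.2; exact ⟨u, u.2, by rw [← hu]; rfl⟩⟩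
            invFun := fun x => ⟨Multiplicative.ofAdd x.1, by
              obtain ⟨u, hu, h⟩ := x.2; exact ⟨⟨u, hu⟩, by show Multiplicative.ofAdd _ = _; rw [h]⟩⟩
            left_inv := fun _ => rfl
            right_inv := fun _ => rfl }
    have hoff : Nat.card F ^ 2 ≤ Nat.card (↥A ⧸ f.ker) * Nat.card X := by
      set K := A ⊓ centralizer (WE p E : Set G) with hK
      have h := (isBestOffenderOn_of_maxEAOf hVe hVT hA).1 K inf_le_left
      have hWK : WE p E ⊓ centralizer (K : Set G) = WE p E := inf_eq_left.2 (by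
        rw [Subgroup.le_centralizer_iff]; exact inf_le_right)
      rw [hWK] at h
      have hkerK : Nat.card f.ker ≤ Nat.card K := by
        rw [← card_map_of_injective A.subtype_injective]
        refine Subgroup.card_le_of_le ?_
        rintro _ ⟨a, ha, rfl⟩
        exact ⟨a.2, centralizes_we_of_trivial hG hE (hAN a.2) ((D.S.act_eq_one_iff (hAn _ a.2)).1 ha)⟩
      have hw : Nat.card (WE p E) = Nat.card F ^ 2 * Nat.card ↥(WE p E ⊓ ZZ p E) := by
        have h1 := card_sup_mul_card_inf (WE p E) (ZZ p E)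
          fun x hx => mem_normalizer_ZZ (le_normalizer (we_le_self E hx))
        rw [← ww_eq_sup hG hE, ← D.S.card_eq, Nat.card_fun, Nat.card_fin] at h1
        refine Nat.eq_of_mul_eq_mul_right (Nat.card_pos (α := ZZ p E)) ?_
        rw [← h1]; ring
      have hA' : Nat.card A = Nat.card f.ker * Nat.card (↥A ⧸ f.ker) := by
        rw [← index_eq_card]; exact f.ker.card_mul_index.symm
      refine Nat.le_of_mul_le_mul_left ?_ (Nat.mul_pos (Nat.card_pos (α := K)) (Nat.card_pos (α := ↥(WE p E ⊓ ZZ p E))))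
      calc Nat.card K * Nat.card ↥(WE p E ⊓ ZZ p E) * Nat.card F ^ 2 = Nat.card K * Nat.card (WE p E) := by
            rw [hw]; ring
        _ ≤ Nat.card A * Nat.card C := h
        _ ≤ Nat.card K * Nat.card (↥A ⧸ f.ker) * (Nat.card X * Nat.card ↥(WE p E ⊓ ZZ p E)) := by
            rw [hA']; exact Nat.mul_le_mul (Nat.mul_le_mul_right _ hkerK) hCX
        _ = _ := by ring
    have hlin := isLin_of_offender act (kerLift_inj f) hcomm hexp hsemi X hXfix hoff
    exact fun a ha => ⟨hAn a ha, hlin (QuotientGroup.mk ⟨a, ha⟩)⟩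
  set J := Cfsg.thompsonSubgroupOf p (T : Subgroup G) with hJdef
  have hJN := thompson_le_normalizer hG hE hEs T
  have hJp : IsPGroup p J := T.2.to_le (thompsonSubgroupOf_le p _)
  obtain ⟨D', hDW, hDne, hJD, hDL, hscale⟩ := exists_lift_sub hG hE hEs J hJp hJN hn hcard D
  obtain ⟨y, hy, hy1, hyc⟩ := CfsgLib.PLocal.RankTwo.exists_fixed hJp
    (isPGroup_VV.to_le (hDW.trans (we_le_vv hG hE))) hDne
    (fun g hg d hd => (mem_normalizer_iff.1 (hJD hg) d).1 hd)
  set v₀ := D.S.f y with hv₀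
  have hv₀0 : v₀ ≠ 0 := fun h => hy1 (hDL y hy ((D.S.ker y (we_le_ww E (hDW hy))).1 h).2)
  have hbN := baumannOf_le_normalizer hG hE hEs T hb
  have hbn : b ∈ D.S.nrm := mem_bot_nrm D hbN
  have hline : ∀ c : F, D.S.act b (c • v₀) = c • v₀ := by
    intro c
    obtain ⟨y', hy', hy'v⟩ := hscale h4 y hy c
    have hy'W := we_le_ww E (hDW hy')
    have hy'fix : ∀ j ∈ J, j * y' = y' * j := by
      intro j hj
      obtain ⟨hjn, hjl⟩ := hJ hj
      have hact : D.S.f (j * y' * j⁻¹) = D.S.f y' := by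
        rw [← D.S.act_f hjn hy'W, hy'v, hjl, D.S.act_f hjn (we_le_ww E (hDW hy)), hyc j hj,
          mul_inv_cancel_right]
      have hz := (D.S.f_eq_iff (D.S.conj_mem hjn hy'W) hy'W).1 hact
      exact mul_inv_eq_iff_eq_mul.1 (mul_inv_eq_one.1
        (hDL _ (mul_mem ((mem_normalizer_iff.1 (hJD hj) y').1 hy') (inv_mem hy')) hz.2))
    have := mem_centralizer_iff.1 hb.2 y' (mem_omega_center_thompson hG hE hEs T (hDW hy') hy'fix)
    rw [← hy'v, D.S.act_f hbn hy'W, ← this, mul_inv_cancel_right]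
  obtain ⟨σ, hσ⟩ := D.exists_semilinear (four_le_or_prime hn hcard) hbN hbn
  intro c v
  have h1 : σ c = c := smul_left_injective F hv₀0 (by
    have := hσ c v₀
    rw [hline c, show D.S.act b v₀ = v₀ by simpa using hline 1] at this
    exact this.symm)
  rw [hσ, h1]

end CfsgLib.LocalEven.Baumann
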