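import Cfsg.Agent.Lib.LocalEven.Baumann.SL2Three

/-!
An abstract isometric action on a module with an alternating pairing, in which `SL₂(F)'`
moves exactly one natural plane: the linear algebra.
-/

set_option autoImplicit false
set_option linter.unusedSectionVars false

namespace CfsgLib.LocalEven.Baumann

open Subgroup ThreeSL

/-- The data: `ψ` moves only the plane `f`, `X` is the part to be shown to commute with it. -/
structure Pairing (Γ U A : Type*) (F : Type) [Group Γ] [AddCommGroup U] [AddCommGroup A] [Field F]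
    [Finite F] [CharP F 3] where
  β : U →+ U →+ A
  alt : ∀ u, β u u = 0
  nd : ∀ u, (∀ v, β u v = 0) → u = 0
  three : ∀ u : U, u + u + u = 0
  three' : ∀ a : A, a + a + a = 0
  deg : ℕ
  deg_pos : 0 < deg
  card_eq : Nat.card F = 3 ^ deg
  ρ : Γ →* AddMonoid.End U
  iso : ∀ g u v, β (ρ g u) (ρ g v) = β u v
  f : (Fin 2 → F) →+ U
  lam : F →+ A
  lam_inj : Function.Injective lam
  β_f : ∀ x y, β (f x) (f y) = lam (dt x y)
  ψ : ↥(commutator (Matrix.SpecialLinearGroup (Fin 2) F)) →* Γ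
  ψ_f : ∀ r x, ρ (ψ r) (f x) = f ((r.1).1.mulVec x)
  ψ_fix : ∀ r u, ρ (ψ (nR F)) u = u → ρ (ψ r) u = u
  j_mem : ∀ u, ∃ x, ρ (ψ (nR F)) u = u + f x
  X : Subgroup Γ
  X_normal : X.Normal
  faithful : ∀ x ∈ X, ρ x = 1 → x = 1
  split : ∀ x ∈ X, ρ x ≠ ρ (ψ (nR F))
  pcore : ∀ N : Subgroup Γ, N.Normal → N ≤ X → IsPGroup 3 N → N = ⊥

namespace Pairing

variable {Γ U A : Type*} {F : Type} [Group Γ] [AddCommGroup U] [AddCommGroup A] [Field F]
  [Finite F] [CharP F 3] (P : Pairing Γ U A F)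

/-- The involution. -/
def j : Γ := P.ψ (nR F)

theorem ρ_mul (g h : Γ) (u : U) : P.ρ (g * h) u = P.ρ g (P.ρ h u) := by
  rw [map_mul]; rfl

theorem ρ_one (u : U) : P.ρ 1 u = u := by
  rw [map_one]; rfl

theorem inv_ρ (g : Γ) (u : U) : P.ρ g⁻¹ (P.ρ g u) = u := by
  rw [← P.ρ_mul, inv_mul_cancel, P.ρ_one]

theorem ρ_inv (g : Γ) (u : U) : P.ρ g (P.ρ g⁻¹ u) = u := by
  rw [← P.ρ_mul, mul_inv_cancel, P.ρ_one]

theorem adj (g : Γ) (u v : U) : P.β (P.ρ g u) v = P.β u (P.ρ g⁻¹ v) := by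
  conv_lhs => rw [← P.ρ_inv g v]
  rw [P.iso]

include P in
theorem eq_zero_of_eq_neg {a : A} (h : a = -a) : a = 0 := by
  have h1 := P.three' a
  have h2 : a + a = 0 := by nth_rewrite 1 [h]; exact neg_add_cancel a
  rwa [h2, zero_add] at h1

include P in
theorem eq_zero_of_eq_neg' {u : U} (h : u = -u) : u = 0 := by
  have h1 := P.three u
  have h2 : u + u = 0 := by nth_rewrite 1 [h]; exact neg_add_cancel u
  rwa [h2, zero_add] at h1

theorem skew (u v : U) : P.β u v = -P.β v u := by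
  have h := P.alt (u + v)
  simp only [map_add, AddMonoidHom.add_apply, P.alt, zero_add, add_zero] at h
  exact (eq_neg_of_add_eq_zero_left (by rwa [add_comm] at h))

theorem f_inj : Function.Injective P.f := by
  rw [injective_iff_map_eq_zero]
  intro x hx
  refine dt_eq_zero_left fun y => ?_
  apply P.lam_inj
  rw [← P.β_f, hx, map_zero, map_zero]

theorem j_f (x : Fin 2 → F) : P.ρ P.j (P.f x) = -P.f x := by
  rw [j, P.ψ_f, show ((nR F).1).1 = -1 from rfl, Matrix.neg_mulVec, Matrix.one_mulVec, map_neg]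

theorem j_mul_self : P.j * P.j = 1 := by
  rw [j, ← map_mul, show nR F * nR F = 1 from Subtype.ext nM_sq, map_one]

theorem j_inv : P.j⁻¹ = P.j := inv_eq_of_mul_eq_one_right P.j_mul_self

theorem j_ψ (r : ↥(commutator (Matrix.SpecialLinearGroup (Fin 2) F))) : P.j * P.ψ r = P.ψ r * P.j := by
  rw [j, ← map_mul, ← map_mul, nR_comm]

theorem orth {c : U} (hc : P.ρ P.j c = c) (x : Fin 2 → F) : P.β (P.f x) c = 0 := by
  apply P.eq_zero_of_eq_neg
  nth_rewrite 1 [← P.iso P.j (P.f x) c]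
  rw [P.j_f, hc, map_neg, AddMonoidHom.neg_apply]

theorem orth' {c : U} (hc : P.ρ P.j c = c) (x : Fin 2 → F) : P.β c (P.f x) = 0 := by
  rw [P.skew, P.orth hc, neg_zero]

theorem decomp (u : U) : ∃ (x : Fin 2 → F) (c : U), P.ρ P.j c = c ∧ u = P.f x + c := by
  obtain ⟨z, hz⟩ := P.j_mem u
  refine ⟨z, u - P.f z, ?_, (add_sub_cancel _ _).symm⟩
  rw [map_sub, P.j_f, j, hz]
  have := P.three (P.f z)
  rw [eq_sub_iff_add_eq]
  calc u + P.f z - -P.f z + P.f z = u + (P.f z + P.f z + P.f z) := by abel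
    _ = u := by rw [this, add_zero]

theorem fixed_of_perp {u : U} (h : ∀ x, P.β (P.f x) u = 0) : P.ρ P.j u = u := by
  obtain ⟨z, c, hc, rfl⟩ := P.decomp u
  have hz : z = 0 := dt_eq_zero_left fun y => P.lam_inj (by
    have := h y
    rw [map_add, P.β_f, P.orth hc, add_zero] at this
    rw [this, map_zero])
  rw [hz, map_zero, zero_add]
  exact hc

theorem mem_plane {u : U} (h : P.ρ P.j u = -u) : ∃ x, u = P.f x := by
  obtain ⟨z, c, hc, rfl⟩ := P.decomp u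
  refine ⟨z, ?_⟩
  rw [map_add, P.j_f, hc, neg_add, add_left_cancel_iff] at h
  rw [P.eq_zero_of_eq_neg' h, add_zero]

theorem ext_plane {φ χ : AddMonoid.End U} (hT : ∀ x, φ (P.f x) = χ (P.f x))
    (hC : ∀ c, P.ρ P.j c = c → φ c = χ c) : φ = χ := by
  refine DFunLike.ext _ _ fun u => ?_
  obtain ⟨z, c, hc, rfl⟩ := P.decomp u
  rw [map_add, map_add, hT, hC c hc]

/-- A self-adjoint map commuting with the involution is a scalar on the plane. -/
theorem scalar_of_adj (φ : AddMonoid.End U) (hj : ∀ u, P.ρ P.j (φ u) = φ (P.ρ P.j u))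
    (hφ : ∀ u v, P.β (φ u) v = P.β u (φ v)) : ∃ a : F, ∀ x, φ (P.f x) = P.f (a • x) := by
  have h : ∀ x, ∃ y, φ (P.f x) = P.f y := fun x => P.mem_plane (by rw [hj, P.j_f, map_neg])
  choose g hg using h
  let B : (Fin 2 → F) →+ (Fin 2 → F) :=
    AddMonoidHom.mk' g fun x y => P.f_inj (by rw [← hg, map_add, map_add, map_add, hg, hg])
  obtain ⟨a, ha⟩ := exists_scalar_of_dt B fun x y => P.lam_inj (by
    show P.lam (dt (g x) y) = P.lam (dt x (g y))
    rw [← P.β_f, ← P.β_f, ← hg, ← hg, hφ])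
  exact ⟨a, fun x => by rw [hg, ← ha x]; rfl⟩

/-- An element commuting with the involution is in `SL₂` on the plane. -/
theorem sl_of_comm {g : Γ} (hg : ∀ u, P.ρ P.j (P.ρ g u) = P.ρ g (P.ρ P.j u)) :
    ∃ M : Matrix.SpecialLinearGroup (Fin 2) F, ∀ x, P.ρ g (P.f x) = P.f (M.1.mulVec x) := by
  have h : ∀ x, ∃ y, P.ρ g (P.f x) = P.f y := fun x => P.mem_plane (by rw [hg, P.j_f, map_neg])
  choose m hm using h
  let B : (Fin 2 → F) →+ (Fin 2 → F) :=
    AddMonoidHom.mk' m fun x y => P.f_inj (by rw [← hm, map_add, map_add, map_add, hm, hm])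
  obtain ⟨M, hM⟩ := exists_sl_of_dt B fun x y => P.lam_inj (by
    show P.lam (dt (m x) (m y)) = P.lam (dt x y)
    rw [← P.β_f, ← P.β_f, ← hm, ← hm, P.iso])
  exact ⟨M, fun x => by rw [hm, ← hM x]; rfl⟩

theorem comm_ρ {g : Γ} (hg : P.j * g = g * P.j) (u : U) : P.ρ P.j (P.ρ g u) = P.ρ g (P.ρ P.j u) := by
  rw [← P.ρ_mul, hg, P.ρ_mul]

/-- A subgroup commuting with the involution and normalized by `ψ` fixes the plane or negates it. -/
theorem plane_group (K : Subgroup Γ) (hK : ∀ k ∈ K, P.j * k = k * P.j)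
    (hn : ∀ r, ∀ k ∈ K, P.ψ r * k * (P.ψ r)⁻¹ ∈ K) :
    (∀ k ∈ K, ∀ x, P.ρ k (P.f x) = P.f x) ∨ ∃ k ∈ K, ∀ x, P.ρ k (P.f x) = -P.f x := by
  let M : Subgroup (Matrix.SpecialLinearGroup (Fin 2) F) :=
    { carrier := {M | ∃ k ∈ K, ∀ x, P.ρ k (P.f x) = P.f (M.1.mulVec x)}
      one_mem' := ⟨1, one_mem _, fun x => by rw [P.ρ_one, Matrix.SpecialLinearGroup.coe_one, Matrix.one_mulVec]⟩
      mul_mem' := fun {a b} => fun ⟨k, hk, ha⟩ ⟨l, hl, hb⟩ => ⟨k * l, mul_mem hk hl, fun x => by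
        rw [P.ρ_mul, hb, ha, Matrix.SpecialLinearGroup.coe_mul, Matrix.mulVec_mulVec]⟩
      inv_mem' := fun {a} => fun ⟨k, hk, ha⟩ => ⟨k⁻¹, inv_mem hk, fun x => by
        have h1 := ha ((a⁻¹).1.mulVec x)
        rw [Matrix.mulVec_mulVec, ← Matrix.SpecialLinearGroup.coe_mul, mul_inv_cancel,
          Matrix.SpecialLinearGroup.coe_one, Matrix.one_mulVec] at h1
        nth_rewrite 1 [← h1]
        rw [P.inv_ρ]⟩ }
  have hM : ∀ r ∈ commutator (Matrix.SpecialLinearGroup (Fin 2) F), ∀ m ∈ M, r * m * r⁻¹ ∈ M := by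
    rintro r hr m ⟨k, hk, hm⟩
    refine ⟨_, hn ⟨r, hr⟩ k hk, fun x => ?_⟩
    rw [P.ρ_mul, P.ρ_mul, ← map_inv, P.ψ_f, hm, P.ψ_f, Matrix.mulVec_mulVec, Matrix.mulVec_mulVec]
    rfl
  rcases eq_bot_or_neg_mem P.deg_pos P.card_eq M hM with h | ⟨k, hk, h⟩
  · refine Or.inl fun k hk x => ?_
    obtain ⟨m, hm⟩ := P.sl_of_comm (P.comm_ρ (hK k hk))
    have : m ∈ M := ⟨k, hk, hm⟩
    rw [h, Subgroup.mem_bot] at this
    rw [hm, this, Matrix.SpecialLinearGroup.coe_one, Matrix.one_mulVec]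
  · refine Or.inr ⟨k, hk, fun x => ?_⟩
    rw [h, nM_coe, Matrix.neg_mulVec, Matrix.one_mulVec, map_neg]

/-- An automorphism of `Γ` with a semi-isometry of `U` intertwining it, trivial modulo `X` on the image of `ψ`. -/
structure Twist where
  σ : Γ →* Γ
  τ : U ≃+ U
  hρ : ∀ g u, P.ρ (σ g) (τ u) = τ (P.ρ g u)
  horth : ∀ u v, P.β u v = 0 → P.β (τ u) (τ v) = 0
  hX : ∀ r, σ (P.ψ r) * (P.ψ r)⁻¹ ∈ P.X

/-- Conjugation by an element of `X`. -/
noncomputable def innerTwist {y : Γ} (hy : y ∈ P.X) : P.Twist where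
  σ := (MulAut.conj y).toMonoidHom
  τ :=
    { toFun := P.ρ y
      invFun := P.ρ y⁻¹
      left_inv := P.inv_ρ y
      right_inv := P.ρ_inv y
      map_add' := fun a b => map_add (P.ρ y) a b }
  hρ g u := by
    show P.ρ (y * g * y⁻¹) (P.ρ y u) = P.ρ y (P.ρ g u)
    rw [P.ρ_mul, P.inv_ρ, P.ρ_mul]
  horth u v h := by
    show P.β (P.ρ y u) (P.ρ y v) = 0
    rw [P.iso, h]
  hX r := by
    show y * P.ψ r * y⁻¹ * (P.ψ r)⁻¹ ∈ P.X
    rw [show y * P.ψ r * y⁻¹ * (P.ψ r)⁻¹ = y * (P.ψ r * y⁻¹ * (P.ψ r)⁻¹) by group]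
    exact mul_mem hy (P.X_normal.conj_mem _ (inv_mem hy) _)

/-- Two twisted copies of the involution commuting on `U` agree there. -/
theorem eq_of_commute [Finite U] (t : P.Twist)
    (hc : ∀ u, P.ρ P.j (P.ρ (t.σ P.j) u) = P.ρ (t.σ P.j) (P.ρ P.j u)) :
    P.ρ (t.σ P.j) = P.ρ P.j := by
  obtain ⟨j', hj'⟩ : ∃ j', j' = t.σ P.j := ⟨_, rfl⟩
  rw [← hj'] at hc ⊢
  have hj'2 : j' * j' = 1 := by rw [hj', ← map_mul, P.j_mul_self, map_one]
  have hact : ∀ g u, P.ρ (t.σ g) u = t.τ (P.ρ g (t.τ.symm u)) := fun g u => by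
    rw [← t.hρ, t.τ.apply_symm_apply]
  have hj'f : ∀ y, P.ρ j' (t.τ (P.f y)) = -t.τ (P.f y) := fun y => by
    rw [hj', t.hρ, P.j_f, map_neg]
  have hfix : ∀ {u}, P.ρ j' u = u → P.ρ P.j (t.τ.symm u) = t.τ.symm u := fun {u} hu => by
    apply t.τ.injective
    rw [← t.hρ, t.τ.apply_symm_apply, ← hj', hu]
  have horth : ∀ y c, P.ρ j' c = c → P.β (t.τ (P.f y)) c = 0 := fun y c hcf => by
    rw [← t.τ.apply_symm_apply c]
    exact t.horth _ _ (P.orth (hfix hcf) y)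
  have hdec : ∀ u, ∃ y c, P.ρ j' c = c ∧ u = t.τ (P.f y) + c := fun u => by
    obtain ⟨y, c, hcj, hu⟩ := P.decomp (t.τ.symm u)
    refine ⟨y, t.τ c, by rw [hj', t.hρ, hcj], ?_⟩
    rw [← map_add, ← hu, t.τ.apply_symm_apply]
  obtain ⟨M, hM⟩ := P.sl_of_comm hc
  have hMM : M * M = 1 := Subtype.ext (Matrix.ext_iff_mulVec.2 fun v => P.f_inj (by
    rw [Matrix.SpecialLinearGroup.coe_mul, ← Matrix.mulVec_mulVec, ← hM, ← hM, ← P.ρ_mul, hj'2,
      P.ρ_one, Matrix.SpecialLinearGroup.coe_one, Matrix.one_mulVec]))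
  rcases CfsgLib.Classical.sl2_sq_eq_one two_ne_zero' hMM with h | h
  · -- the planes are perpendicular, and the two actions commute
    exfalso
    have hTf : ∀ z, P.ρ j' (P.f z) = P.f z := fun z => by rw [hM, h, Matrix.one_mulVec]
    have hT' : ∀ y, P.ρ P.j (t.τ (P.f y)) = t.τ (P.f y) := fun y => P.fixed_of_perp fun z => by
      rw [P.skew, horth y _ (hTf z), neg_zero]
    have hψ' : ∀ r c, P.ρ j' c = c → P.ρ (t.σ (P.ψ r)) c = c := fun r c hcf => by
      rw [hact, P.ψ_fix r _ (hfix hcf), t.τ.apply_symm_apply]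
    obtain ⟨a, ha⟩ : ∃ a, a = P.ψ (wR F) := ⟨_, rfl⟩
    obtain ⟨b, hb⟩ : ∃ b, b = t.σ (P.ψ (vR F)) := ⟨_, rfl⟩
    have hab : P.ρ (a * b) = P.ρ (b * a) := by
      refine P.ext_plane (fun z => ?_) fun c hcj => ?_
      · rw [P.ρ_mul, P.ρ_mul, hb, hψ' _ _ (hTf z), ha, P.ψ_f, hψ' _ _ (hTf _)]
      · obtain ⟨y, c', hc', hcd⟩ := hdec c
        have hc'j : P.ρ P.j c' = c' := by
          have : c' = c - t.τ (P.f y) := by rw [hcd, add_sub_cancel_left]
          rw [this, map_sub, hcj, hT']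
        obtain ⟨y', hy'⟩ : ∃ y', P.ρ b (t.τ (P.f y)) = t.τ (P.f y') :=
          ⟨((vR F).1).1.mulVec y, by rw [hb, t.hρ, P.ψ_f]⟩
        have hbc : P.ρ P.j (P.ρ b c) = P.ρ b c := by
          rw [hcd, map_add, hy', hb, hψ' _ _ hc', map_add, hT', hc'j]
        rw [P.ρ_mul, P.ρ_mul, ha, P.ψ_fix _ _ hbc, P.ψ_fix _ _ hcj]
    haveI := P.X_normal
    have hX : a * b * a⁻¹ * b⁻¹ * P.j⁻¹ ∈ P.X := by
      rw [← QuotientGroup.eq_one_iff, ← QuotientGroup.mk'_apply, hb]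
      have hx' : QuotientGroup.mk' P.X (t.σ (P.ψ (vR F))) = QuotientGroup.mk' P.X (P.ψ (vR F)) := by
        rw [← mul_inv_eq_one, ← map_inv, ← map_mul]
        exact (QuotientGroup.eq_one_iff _).2 (t.hX _)
      simp only [map_mul, map_inv, hx']
      rw [ha]
      have e := congrArg (fun r => QuotientGroup.mk' P.X (P.ψ r)) (wR_vR (F := F))
      simp only [map_mul, map_inv] at e
      rw [e]
      exact mul_inv_cancel _
    refine P.split _ hX ?_
    rw [P.j_inv, map_mul,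
      show a * b * a⁻¹ * b⁻¹ = (a * b) * (b * a)⁻¹ by group, map_mul P.ρ (a * b), hab, ← map_mul,
      mul_inv_cancel, map_one, one_mul]
    rfl
  · have hTf : ∀ z, P.ρ j' (P.f z) = -P.f z := fun z => by
      rw [hM, h, Matrix.neg_mulVec, Matrix.one_mulVec, map_neg]
    have hin : ∀ z, ∃ y, P.f z = t.τ (P.f y) := fun z => by
      obtain ⟨y, c, hcf, he⟩ := hdec (P.f z)
      have h2 := hTf z
      rw [he, map_add, hj'f, hcf, neg_add, add_left_cancel_iff] at h2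
      exact ⟨y, by rw [he, P.eq_zero_of_eq_neg' h2, add_zero]⟩
    choose q hq using hin
    have hsur : Function.Surjective q := Finite.surjective_of_injective fun z z' e => P.f_inj (by
      rw [hq z, hq z', e])
    refine P.ext_plane (fun z => by rw [hTf, P.j_f]) fun c hcj => ?_
    obtain ⟨y, c', hc', hcd⟩ := hdec c
    obtain ⟨z, rfl⟩ := hsur y
    rw [← hq] at hcd
    have h2 := hcj
    rw [hcd, map_add, P.j_f, P.fixed_of_perp (u := c') (fun z' => by rw [hq z']; exact horth _ _ hc'),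
      add_left_inj] at h2
    rw [hcj, hcd, P.eq_zero_of_eq_neg' h2.symm, zero_add, hc']

/-- An inverted element of order prime to `3` moves every nonzero vector of the plane. -/
theorem eq_zero_of_fixed {y : Γ} (hy : y ∈ P.X) {r : ℕ} (hr : r.Coprime 6) (hyr : y ^ r = 1) (hy1 : y ≠ 1)
    (hinv : P.j * y * P.j⁻¹ = y⁻¹) {x : Fin 2 → F} (hx : P.ρ y (P.f x) = P.f x) : x = 0 := by
  by_contra hx0
  have hjy : P.j * y = y⁻¹ * P.j := by rw [← hinv]; group
  have hjy' : P.j * y⁻¹ = y * P.j := by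
    calc P.j * y⁻¹ = y * (y⁻¹ * P.j) * y⁻¹ := by group
      _ = y * P.j := by rw [← hjy]; group
  obtain ⟨a, ha⟩ := P.scalar_of_adj (P.ρ y + P.ρ y⁻¹) (fun u => by
      show P.ρ P.j (P.ρ y u + P.ρ y⁻¹ u) = P.ρ y (P.ρ P.j u) + P.ρ y⁻¹ (P.ρ P.j u)
      rw [map_add, ← P.ρ_mul, ← P.ρ_mul, hjy, hjy', P.ρ_mul, P.ρ_mul, add_comm]) (fun u v => by
      show P.β (P.ρ y u + P.ρ y⁻¹ u) v = P.β u (P.ρ y v + P.ρ y⁻¹ v)
      rw [map_add, AddMonoidHom.add_apply, P.adj, P.adj, inv_inv, map_add, add_comm])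
  have hx' : P.ρ y⁻¹ (P.f x) = P.f x := by nth_rewrite 1 [← hx]; rw [P.inv_ρ]
  have hax := ha x
  rw [show (P.ρ y + P.ρ y⁻¹) (P.f x) = P.ρ y (P.f x) + P.ρ y⁻¹ (P.f x) from rfl, hx, hx', ← map_add] at hax
  have ha2 : a = 2 := by
    have h1 := P.f_inj hax
    rw [← two_smul F x] at h1
    exact (smul_left_injective F hx0 h1).symm
  have hall : ∀ z, P.ρ y (P.f z) = P.f z := fun z => by
    have h1 := congrArg (P.ρ y) (ha z)
    rw [show (P.ρ y + P.ρ y⁻¹) (P.f z) = P.ρ y (P.f z) + P.ρ y⁻¹ (P.f z) from rfl, map_add, P.ρ_inv,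
      ha2, two_smul, map_add, map_add] at h1
    obtain ⟨n, hn⟩ : ∃ n, n = P.ρ y (P.f z) - P.f z := ⟨_, rfl⟩
    have hyn : P.ρ y n = n := by
      rw [hn, map_sub]
      calc P.ρ y (P.ρ y (P.f z)) - P.ρ y (P.f z)
          = (P.ρ y (P.ρ y (P.f z)) + P.f z) - P.ρ y (P.f z) - P.f z := by abel
        _ = _ := by rw [h1]; abel
    have hk : ∀ k : ℕ, P.ρ (y ^ k) (P.f z) = P.f z + k • n := fun k => by
      induction k with
      | zero => rw [pow_zero, P.ρ_one, zero_nsmul, add_zero]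
      | succ k ih =>
        rw [pow_succ', P.ρ_mul, ih, map_add, map_nsmul, hyn, succ_nsmul', ← add_assoc, hn, add_sub_cancel]
    have hrn := hk r
    rw [hyr, P.ρ_one, left_eq_add] at hrn
    have h3n : (3 : ℕ) • n = 0 := by rw [succ_nsmul, two_nsmul]; exact P.three n
    have hn0 : n = 0 := by
      rw [← AddMonoid.addOrderOf_eq_one_iff]
      exact Nat.eq_one_of_dvd_coprimes (hr.coprime_dvd_right (by norm_num : 3 ∣ 6))
        (addOrderOf_dvd_of_nsmul_eq_zero hrn) (addOrderOf_dvd_of_nsmul_eq_zero h3n)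
    exact sub_eq_zero.1 (hn.symm.trans hn0)
  have hcomm : P.ρ (P.j * y) = P.ρ (y * P.j) := P.ext_plane
    (fun z => by rw [P.ρ_mul, P.ρ_mul, hall, P.j_f, map_neg, hall]) fun c hc => by
      rw [P.ρ_mul, P.ρ_mul, hc]
      refine P.fixed_of_perp fun z => ?_
      nth_rewrite 1 [← hall z]
      rw [P.iso, P.orth hc]
  rw [hjy, map_mul, map_mul] at hcomm
  have hJJ : P.ρ P.j * P.ρ P.j = 1 := by rw [← map_mul, P.j_mul_self, map_one]
  have h2 : P.ρ y⁻¹ = P.ρ y := by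
    have := congrArg (· * P.ρ P.j) hcomm
    simpa [mul_assoc, hJJ] using this
  have hyy : y * y = 1 := P.faithful _ (mul_mem hy hy) (by
    rw [map_mul]
    nth_rewrite 2 [← h2]
    rw [← map_mul, mul_inv_cancel, map_one])
  refine hy1 (orderOf_eq_one_iff.1 (Nat.eq_one_of_dvd_coprimes (hr.coprime_dvd_right (by norm_num : 2 ∣ 6))
    (orderOf_dvd_of_pow_eq_one hyr) (orderOf_dvd_of_pow_eq_one (by rw [sq, hyy]))))

/-- A vector fixed by such an element is fixed by the involution. -/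
theorem fixed_mem {y : Γ} (hy : y ∈ P.X) {r : ℕ} (hr : r.Coprime 6) (hyr : y ^ r = 1) (hy1 : y ≠ 1)
    (hinv : P.j * y * P.j⁻¹ = y⁻¹) {u : U} (hu : P.ρ y u = u) : P.ρ P.j u = u := by
  obtain ⟨z, hz⟩ := P.j_mem u
  change P.ρ P.j u = u + P.f z at hz
  have h1 : P.ρ y (P.ρ P.j u) = P.ρ P.j u := by
    have hu' : P.ρ y⁻¹ u = u := by nth_rewrite 1 [← hu]; rw [P.inv_ρ]
    rw [← P.ρ_mul, show y * P.j = P.j * y⁻¹ by rw [← hinv]; simp [mul_assoc, P.j_inv, P.j_mul_self, ← mul_assoc P.j P.j],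
      P.ρ_mul, hu']
  have hfz : P.ρ y (P.f z) = P.f z := by
    rw [hz, map_add, hu] at h1
    exact add_left_cancel h1
  rw [hz, P.eq_zero_of_fixed hy hr hyr hy1 hinv hfz, map_zero, add_zero]

/-- No inverted elementary group of rank two of order prime to `3`. -/
theorem no_pair {y₁ y₂ : Γ} (h₁ : y₁ ∈ P.X) (h₂ : y₂ ∈ P.X) {r : ℕ} (hrp : r.Prime) (hr : r.Coprime 6)
    (he₁ : y₁ ^ r = 1) (he₂ : y₂ ^ r = 1) (hne : y₂ ≠ 1) (hind : y₁ ∉ zpowers y₂)
    (hc : Commute y₁ y₂) (hi₁ : P.j * y₁ * P.j⁻¹ = y₁⁻¹) (hi₂ : P.j * y₂ * P.j⁻¹ = y₂⁻¹) : False := by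
  obtain ⟨t, ht⟩ : ∃ t, t = P.f ![1, 0] := ⟨_, rfl⟩
  let S : Γ → U := fun y => ∑ n ∈ Finset.range r, P.ρ (y ^ n) t
  have hS : ∀ y : Γ, y ^ r = 1 → P.ρ y (S y) = S y := fun y hy => by
    simp only [S, map_sum]
    have h1 := Finset.sum_range_succ (fun n => P.ρ (y ^ n) t) r
    have h2 := Finset.sum_range_succ' (fun n => P.ρ (y ^ n) t) r
    rw [h1, hy, pow_zero] at h2
    rw [show ∑ n ∈ Finset.range r, P.ρ y (P.ρ (y ^ n) t) = ∑ n ∈ Finset.range r, P.ρ (y ^ (n + 1)) t from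
      Finset.sum_congr rfl fun n _ => by rw [pow_succ', P.ρ_mul]]
    exact (add_right_cancel h2).symm
  have hinvmul : ∀ i : ℕ, P.j * (y₁ * y₂ ^ i) * P.j⁻¹ = (y₁ * y₂ ^ i)⁻¹ := fun i => by
    rw [show P.j * (y₁ * y₂ ^ i) * P.j⁻¹ = (P.j * y₁ * P.j⁻¹) * (P.j * y₂ * P.j⁻¹) ^ i by
      rw [conj_pow]; group, hi₁, hi₂, inv_pow, ← mul_inv_rev, (hc.pow_right i).eq]
  have hrow : ∀ i, P.ρ P.j (S (y₁ * y₂ ^ i)) = S (y₁ * y₂ ^ i) := fun i => by
    have hpow : (y₁ * y₂ ^ i) ^ r = 1 := by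
      rw [(hc.pow_right i).mul_pow, he₁, ← pow_mul, mul_comm, pow_mul, he₂, one_pow, one_mul]
    refine P.fixed_mem (mul_mem h₁ (pow_mem h₂ i)) hr hpow (fun h0 => hind ?_) (hinvmul i) (hS _ hpow)
    rw [show y₁ = (y₂ ^ i)⁻¹ from eq_inv_of_mul_eq_one_left h0]
    exact inv_mem (pow_mem (mem_zpowers _) _)
  have hcol : ∀ n ∈ Finset.range r, n ≠ 0 →
      P.ρ P.j (P.ρ (y₁ ^ n) (S (y₂ ^ n))) = P.ρ (y₁ ^ n) (S (y₂ ^ n)) := by
    intro n hn hn0
    have hne' : y₂ ^ n ≠ 1 := fun h => by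
      have := Nat.le_of_dvd (Nat.pos_of_ne_zero hn0) ((orderOf_eq_prime (hp := ⟨hrp⟩) he₂ hne) ▸ orderOf_dvd_of_pow_eq_one h)
      exact absurd (Finset.mem_range.1 hn) (by omega)
    have hpow : (y₂ ^ n) ^ r = 1 := by rw [← pow_mul, mul_comm, pow_mul, he₂, one_pow]
    refine P.fixed_mem (pow_mem h₂ n) hr hpow hne' (by
      rw [← conj_pow, hi₂, inv_pow]) ?_
    rw [← P.ρ_mul, ((hc.pow_pow n n).symm).eq, P.ρ_mul, hS _ hpow]
  have hsum : ∑ i ∈ Finset.range r, S (y₁ * y₂ ^ i) = ∑ n ∈ Finset.range r, P.ρ (y₁ ^ n) (S (y₂ ^ n)) := by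
    simp only [S, map_sum]
    rw [Finset.sum_comm]
    refine Finset.sum_congr rfl fun n _ => Finset.sum_congr rfl fun i _ => ?_
    rw [(hc.pow_right i).mul_pow, P.ρ_mul, ← pow_mul, ← pow_mul, mul_comm i n]
  have hr0 : (0 : ℕ) ∈ Finset.range r := Finset.mem_range.2 hrp.pos
  rw [← Finset.add_sum_erase _ (fun n => P.ρ (y₁ ^ n) (S (y₂ ^ n))) hr0] at hsum
  have h0 : P.ρ (y₁ ^ 0) (S (y₂ ^ 0)) = r • t := by
    simp [S, P.ρ_one]
  rw [h0] at hsum
  have hfix : P.ρ P.j (r • t) = r • t := by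
    rw [← sub_eq_iff_eq_add.2 hsum, map_sub, map_sum, map_sum]
    congr 1
    · exact Finset.sum_congr rfl fun i _ => hrow i
    · exact Finset.sum_congr rfl fun n hn => hcol n (Finset.mem_of_mem_erase hn) (Finset.ne_of_mem_erase hn)
  rw [map_nsmul, ht, P.j_f] at hfix
  have h2 : r • P.f ![1, 0] = 0 := P.eq_zero_of_eq_neg' (by rw [← smul_neg]; exact hfix.symm)
  have h3 : (3 : ℕ) • P.f ![1, 0] = 0 := by rw [succ_nsmul, two_nsmul]; exact P.three _
  have h4 : P.f ![1, 0] = 0 := by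
    rw [← AddMonoid.addOrderOf_eq_one_iff]
    exact Nat.eq_one_of_dvd_coprimes (hr.coprime_dvd_right (by norm_num : 3 ∣ 6))
      (addOrderOf_dvd_of_nsmul_eq_zero h2) (addOrderOf_dvd_of_nsmul_eq_zero h3)
  have := congrFun (P.f_inj (h4.trans (map_zero P.f).symm)) 0
  simp at this

/-- An inverted element of order three yields a nontrivial quadratic one. -/
theorem exists_quadratic {s : Γ} (hs : s ∈ P.X) (hs3 : s ^ 3 = 1) (hs1 : s ≠ 1)
    (hinv : P.j * s * P.j⁻¹ = s⁻¹) (K : Subgroup Γ) (hsK : s ∈ K)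
    (hK : ∀ r, ∀ k ∈ K, P.ψ r * k * (P.ψ r)⁻¹ ∈ K) :
    ∃ g ∈ K, P.ρ g ≠ 1 ∧ (P.ρ g - 1) * (P.ρ g - 1) = 0 := by
  obtain ⟨J, hJ⟩ : ∃ J, J = P.ρ P.j := ⟨_, rfl⟩
  obtain ⟨S, hS⟩ : ∃ S, S = P.ρ s := ⟨_, rfl⟩
  obtain ⟨S', hS'⟩ : ∃ S', S' = P.ρ s⁻¹ := ⟨_, rfl⟩
  have h3 : ∀ φ : AddMonoid.End U, φ + φ + φ = 0 := fun φ => DFunLike.ext _ _ fun u => P.three (φ u)
  have sS : S * S = S' := by
    rw [hS, hS', ← map_mul]
    exact congrArg P.ρ (eq_inv_of_mul_eq_one_left (by rw [← pow_two, ← pow_succ, hs3]))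
  have sS' : S * S' = 1 := by rw [hS, hS', ← map_mul, mul_inv_cancel, map_one]
  have s'S : S' * S = 1 := by rw [hS, hS', ← map_mul, inv_mul_cancel, map_one]
  have s'S' : S' * S' = S := by
    nth_rewrite 1 [← sS]
    rw [mul_assoc, sS', mul_one]
  have hjs : P.j * s = s⁻¹ * P.j := by rw [← hinv]; group
  have hjs' : P.j * s⁻¹ = s * P.j := by
    calc P.j * s⁻¹ = s * (s⁻¹ * P.j) * s⁻¹ := by group
      _ = s * P.j := by rw [← hjs]; group
  have JS : J * S = S' * J := by rw [hJ, hS, hS', ← map_mul, ← map_mul, hjs]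
  have JS' : J * S' = S * J := by rw [hJ, hS, hS', ← map_mul, ← map_mul, hjs']
  obtain ⟨n, hn⟩ : ∃ n, n = S + S' + 1 := ⟨_, rfl⟩
  obtain ⟨d, hd⟩ : ∃ d, d = S - S' := ⟨_, rfl⟩
  have hnn : n * n = 0 := by
    rw [hn]
    calc (S + S' + 1) * (S + S' + 1)
        = (S * S + S * S' + S) + (S' * S + S' * S' + S') + (S + S' + 1) := by noncomm_ring
      _ = (S' + S' + S') + (S + S + S) + (1 + 1 + 1) := by rw [sS, sS', s'S, s'S']; abel
      _ = 0 := by simp only [h3, add_zero]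
  have hdd : d * d = n := by
    rw [hd, hn]
    calc (S - S') * (S - S') = S * S - S * S' - S' * S + S' * S' := by noncomm_ring
      _ = S + S' + 1 - (1 + 1 + 1) := by rw [sS, sS', s'S, s'S']; abel
      _ = _ := by rw [h3, sub_zero]
  have Jn : J * n = n * J := by
    rw [hn]; simp only [mul_add, add_mul, mul_one, one_mul, JS, JS']; abel
  have Jd : J * d = -(d * J) := by
    rw [hd]; simp only [mul_sub, sub_mul, JS, JS']; abel
  have negap : ∀ (φ : AddMonoid.End U) (u : U), (-φ) u = -φ u := fun _ _ => rfl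
  have subap : ∀ (φ χ : AddMonoid.End U) (u : U), (φ - χ) u = φ u - χ u := fun _ _ _ => rfl
  have eap : ∀ (φ χ : AddMonoid.End U) (u : U), (φ * χ) u = φ (χ u) := fun _ _ _ => rfl
  -- `n` kills the plane
  obtain ⟨a, ha⟩ := P.scalar_of_adj n (fun u => by
      rw [← hJ, ← eap, ← eap, Jn]) (fun u v => by
      rw [hn, hS, hS']
      show P.β (P.ρ s u + P.ρ s⁻¹ u + u) v = P.β u (P.ρ s v + P.ρ s⁻¹ v + v)
      simp only [map_add, AddMonoidHom.add_apply, P.adj, inv_inv]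
      abel)
  have nT : ∀ x, n (P.f x) = 0 := by
    have h := DFunLike.congr_fun hnn (P.f ![1, 0])
    rw [eap, ha, ha, smul_smul] at h
    have h' := congrFun (P.f_inj (h.trans (map_zero P.f).symm)) 0
    simp at h'
    intro x
    rw [ha, h', zero_smul, map_zero]
  have dC : ∀ c, P.ρ P.j c = c → ∃ x, d c = P.f x := fun c hc => P.mem_plane (by
    rw [← hJ, ← eap, Jd, negap, eap, hJ, hc])
  have dT : ∀ x, P.ρ P.j (d (P.f x)) = d (P.f x) := fun x => by
    rw [← hJ, ← eap, Jd, negap, eap, hJ, P.j_f, map_neg, neg_neg]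
  have d3 : d * n = 0 ∧ n * d = 0 := by
    have h : n * d = 0 := P.ext_plane (fun x => by
      rw [eap, ← hdd, eap]
      show d (d (d (P.f x))) = 0
      rw [← eap d d, hdd, ← eap, ← hdd, mul_assoc, hdd, eap, nT, map_zero]) fun c hc => by
      obtain ⟨x, hx⟩ := dC c hc
      rw [eap, hx, nT]; rfl
    exact ⟨by rw [← hdd, ← mul_assoc, hdd, h], h⟩
  have hSd : S = 1 - n - d := by
    rw [hn, hd, show 1 - (S + S' + 1) - (S - S') = S - (S + S + S) by abel, h3, sub_zero]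
  have hS'd : S' = 1 - n + d := by
    rw [hn, hd, show 1 - (S + S' + 1) + (S - S') = S' - (S' + S' + S') by abel, h3, sub_zero]
  -- the quaternion generators
  by_cases hq : ∃ r : ↥(commutator (Matrix.SpecialLinearGroup (Fin 2) F)), r * r = nR F ∧
      d * (P.ρ (P.ψ r) * d * P.ρ (P.ψ r)⁻¹) - P.ρ (P.ψ r) * d * P.ρ (P.ψ r)⁻¹ * d ≠ 0
  · obtain ⟨r, hr, hne⟩ := hq
    obtain ⟨H, hH⟩ : ∃ H, H = P.ρ (P.ψ r) := ⟨_, rfl⟩
    obtain ⟨H', hH'⟩ : ∃ H', H' = P.ρ (P.ψ r)⁻¹ := ⟨_, rfl⟩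
    rw [← hH, ← hH'] at hne
    have HH' : H * H' = 1 := by rw [hH, hH', ← map_mul, mul_inv_cancel, map_one]
    have H'H : H' * H = 1 := by rw [hH, hH', ← map_mul, inv_mul_cancel, map_one]
    have Hfix : ∀ c, P.ρ P.j c = c → H c = c := fun c hc => by rw [hH]; exact P.ψ_fix r c hc
    have H'fix : ∀ c, P.ρ P.j c = c → H' c = c := fun c hc => by
      rw [hH', ← map_inv]; exact P.ψ_fix _ c hc
    have H'T : ∀ x, ∃ y, H' (P.f x) = P.f y := fun x => by
      rw [hH', ← map_inv]; exact ⟨_, P.ψ_f _ x⟩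
    have hHn : H * n * H' = n := P.ext_plane (fun x => by
      obtain ⟨y, hy⟩ := H'T x
      rw [eap, eap, hy, nT, nT, map_zero]) fun c hc => by
      rw [eap, eap, H'fix c hc, Hfix]
      rw [← hJ, ← eap, Jn, eap, hJ, hc]
    obtain ⟨d', hd'⟩ : ∃ d', d' = H * d * H' := ⟨_, rfl⟩
    rw [← hd'] at hne
    have hd'd' : d' * d' = n := by
      rw [hd', show H * d * H' * (H * d * H') = H * (d * (H' * H) * d) * H' by noncomm_ring, H'H,
        mul_one, hdd, hHn]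
    have d'3 : d' * n = 0 ∧ n * d' = 0 := by
      constructor
      · rw [← hHn, hd', show H * d * H' * (H * n * H') = H * (d * (H' * H) * n) * H' by noncomm_ring,
          H'H, mul_one, d3.1, mul_zero, zero_mul]
      · rw [← hHn, hd', show H * n * H' * (H * d * H') = H * (n * (H' * H) * d) * H' by noncomm_ring,
          H'H, mul_one, d3.2, mul_zero, zero_mul]
    have killT : ∀ x, (d * d') (P.f x) = 0 ∧ (d' * d) (P.f x) = 0 := fun x => by
      obtain ⟨y, hy⟩ := H'T x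
      constructor
      · rw [hd', eap, eap, eap, hy, Hfix _ (dT y), ← eap, hdd, nT]
      · rw [hd', eap, eap, eap, H'fix _ (dT x), ← eap d d, hdd, nT, map_zero]
    have d'C : ∀ c, P.ρ P.j c = c → ∃ x, d' c = P.f x := fun c hc => by
      obtain ⟨x, hx⟩ := dC c hc
      exact ⟨r.1.1.mulVec x, by rw [hd', eap, eap, H'fix c hc, hx, hH, P.ψ_f]⟩
    have d'T : ∀ x, P.ρ P.j (d' (P.f x)) = d' (P.f x) := fun x => by
      obtain ⟨y, hy⟩ := H'T x
      rw [hd', eap, eap, hy, Hfix _ (dT y), dT]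
    have hdd'd : d * d' * d = 0 := P.ext_plane (fun x => by
      rw [mul_assoc, eap, (killT x).2, map_zero]; rfl) fun c hc => by
      obtain ⟨x, hx⟩ := dC c hc
      rw [eap, hx, (killT x).1]; rfl
    have hd'dd' : d' * d * d' = 0 := P.ext_plane (fun x => by
      rw [mul_assoc, eap, (killT x).1, map_zero]; rfl) fun c hc => by
      obtain ⟨x, hx⟩ := d'C c hc
      rw [eap, hx, (killT x).2]; rfl
    obtain ⟨t, ht⟩ : ∃ t, t = P.ψ r * s * (P.ψ r)⁻¹ := ⟨_, rfl⟩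
    have ht1 : P.ρ t = 1 - n - d' := by
      rw [ht, map_mul, map_mul, ← hS, ← hH, ← hH', hSd, hd']
      simp only [mul_sub, sub_mul, mul_one, HH', hHn]
    have ht2 : P.ρ t⁻¹ = 1 - n + d' := by
      rw [ht, show (P.ψ r * s * (P.ψ r)⁻¹)⁻¹ = P.ψ r * s⁻¹ * (P.ψ r)⁻¹ by group, map_mul, map_mul,
        ← hS', ← hH, ← hH', hS'd, hd']
      simp only [mul_add, mul_sub, add_mul, sub_mul, mul_one, HH', hHn]
    obtain ⟨q, hq⟩ : ∃ q, q = d * d' - d' * d := ⟨_, rfl⟩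
    rw [← hq] at hne
    have hg : P.ρ (s * t * s⁻¹ * t⁻¹) = 1 + q := by
      rw [map_mul, map_mul, map_mul, ← hS, ← hS', ht1, ht2, hSd, hS'd]
      have e1 : (1 - n - d) * (1 - n - d') = 1 - n - n - d - d' + d * d' := by
        simp only [mul_sub, sub_mul, mul_one, one_mul, hnn, d3.1, d'3.2]; abel
      have e2 : (1 - n + d) * (1 - n + d') = 1 - n - n + d + d' + d * d' := by
        simp only [mul_sub, sub_mul, mul_add, add_mul, mul_one, one_mul, hnn, d3.1, d'3.2]; abel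
      rw [mul_assoc _ (1 - n + d) (1 - n + d'), e1, e2]
      have q1 : n * (d * d') = 0 := by rw [← mul_assoc, d3.2, zero_mul]
      have q2 : d * d' * n = 0 := by rw [mul_assoc, d'3.1, mul_zero]
      have q3 : d * (d * d') = 0 := by rw [← mul_assoc, hdd, d'3.2]
      have q4 : d * d' * d' = 0 := by rw [mul_assoc, hd'd', d3.1]
      have q5 : d' * (d * d') = 0 := by rw [← mul_assoc, hd'dd']
      have q6 : d * d' * (d * d') = 0 := by rw [mul_assoc, q5, mul_zero]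
      simp only [mul_sub, sub_mul, mul_add, add_mul, mul_one, one_mul, hnn, d3.1, d3.2, d'3.1, d'3.2,
        q1, q2, q3, q4, q5, q6, hdd'd, hdd, hd'd', hq, sub_zero, add_zero, zero_add]
      calc _ = 1 + (d * d' - d' * d) - (n + n + n) - (n + n + n) := by abel
        _ = _ := by rw [h3, sub_zero, sub_zero]
    refine ⟨s * t * s⁻¹ * t⁻¹, ?_, ?_, ?_⟩
    · have htK : t ∈ K := ht ▸ hK r s hsK
      exact mul_mem (mul_mem (mul_mem hsK htK) (inv_mem hsK)) (inv_mem htK)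
    · rw [hg]
      intro h
      exact hne (by simpa using h)
    · rw [hg, add_sub_cancel_left, hq]
      simp only [mul_sub, sub_mul]
      rw [show d * d' * (d * d') = d * (d' * d * d') by noncomm_ring,
        show d' * d * (d' * d) = d' * (d * d' * d) by noncomm_ring,
        show d * d' * (d' * d) = d * (d' * d') * d by noncomm_ring,
        show d' * d * (d * d') = d' * (d * d) * d' by noncomm_ring, hdd'd, hd'dd', hdd, hd'd', d3.1, d'3.1]
      simp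
  · -- then `s` itself is quadratic
    push Not at hq
    have hperp : ∀ r : ↥(commutator (Matrix.SpecialLinearGroup (Fin 2) F)), r * r = nR F →
        ∀ c, P.ρ P.j c = c → ∀ x, d c = P.f x → dt (r.1.1.mulVec x) x = 0 := by
      intro r hr c hc x hx
      have hinv : r⁻¹.1.1 = -r.1.1 := inv_eq_neg_of_sq (congrArg Subtype.val hr)
      have h := DFunLike.congr_fun (hq r hr) c
      have h1 : P.ρ (P.ψ r)⁻¹ c = c := by rw [← map_inv]; exact P.ψ_fix _ c hc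
      have h2 : P.ρ (P.ψ r) (d (P.ρ (P.ψ r)⁻¹ (d c))) = d (P.ρ (P.ψ r)⁻¹ (d c)) :=
        P.ψ_fix r _ (by rw [hx, ← map_inv, P.ψ_f]; exact dT _)
      rw [subap, eap, eap, eap, eap, eap, eap, h1, h2, hx, P.ψ_f, ← map_inv, P.ψ_f, hinv,
        Matrix.neg_mulVec, map_neg, map_neg, sub_neg_eq_add] at h
      have h0 : d (P.f (r.1.1.mulVec x)) = 0 := P.eq_zero_of_eq_neg' (eq_neg_of_add_eq_zero_left h)
      apply P.lam_inj
      rw [map_zero, ← P.β_f, ← hx]
      have hdadj : ∀ u v, P.β (d u) v = -P.β u (d v) := fun u v => by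
        rw [hd, hS, hS']
        show P.β (P.ρ s u - P.ρ s⁻¹ u) v = -P.β u (P.ρ s v - P.ρ s⁻¹ v)
        simp only [map_sub, AddMonoidHom.sub_apply, P.adj, inv_inv, neg_sub]
      rw [show P.β (P.f (r.1.1.mulVec x)) (d c) = -(P.β (d (P.f (r.1.1.mulVec x))) c) by rw [hdadj, neg_neg],
        h0, map_zero, AddMonoidHom.zero_apply, neg_zero]
    have hdC : ∀ c, P.ρ P.j c = c → d c = 0 := fun c hc => by
      obtain ⟨x, hx⟩ := dC c hc
      have hx0 : x = 0 := eq_zero_of_quat (hperp (wR F) (Subtype.ext wM_sq) c hc x hx)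
        (hperp (vR F) (Subtype.ext vM_sq) c hc x hx) (hperp (vR F * wR F) (Subtype.ext (by
          show vM F * wM F * (vM F * wM F) = nM F
          rw [show vM F * wM F * (vM F * wM F) = vM F * (wM F * vM F) * wM F by group, wM_vM,
            show vM F * (nM F * (vM F * wM F)) * wM F = (vM F * nM F) * vM F * (wM F * wM F) by group,
            wM_sq, ← nM_comm (vM F), mul_assoc (nM F) (vM F) (vM F), vM_sq, nM_sq, one_mul])) c hc x hx)
      rw [hx, hx0, map_zero]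
    have hn0 : n = 0 := P.ext_plane (fun x => nT x) fun c hc => by
      rw [← hdd, eap, hdC c hc, map_zero]; rfl
    refine ⟨s, hsK, fun h => hs1 (P.faithful s hs h), ?_⟩
    rw [← hS]
    calc (S - 1) * (S - 1) = S * S - S - S + 1 := by noncomm_ring
      _ = n - (S + S + S) := by rw [sS, hn]; abel
      _ = 0 := by rw [hn0, h3, sub_zero]

end Pairing

end CfsgLib.LocalEven.Baumann
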