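import Cfsg.Agent.Lib.LocalEven.Baumann.Facts
import Cfsg.Agent.Lib.Components.Basic
import Cfsg.Agent.Lib.FgsB.GLBlockCentralizer
import Cfsg.Agent.Lib.Recog.OrderSixty

/-!
The image of a subnormal block in `G / O_p(G)`: a component, or a group of order 3 or 8.
-/

set_option autoImplicit false
set_option linter.unusedSectionVars false

namespace CfsgLib.LocalEven.Baumann

open Subgroup CfsgLib.LocalEven

variable {G : Type*} [Group G] [Finite G] {p : ℕ} [Fact p.Prime]

theorem qe_le_oo {E : Subgroup G} (hEs : E.IsSubnormal) : QE p E ≤ OO p G :=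
  CfsgLib.Base.map_pCore_le_of_isSubnormal hEs

/-- The derived group of `SL₂` over two or three elements has order `3` or `8`. -/
theorem card_commutator_of_small {F : Type} [Field F] [Fintype F] [CharP F p] (hq : Nat.card F = p)
    (h4 : Nat.card F < 4) :
    (p = 2 ∧ Nat.card (commutator (Matrix.SpecialLinearGroup (Fin 2) F)) = 3) ∨
      (p = 3 ∧ Nat.card (commutator (Matrix.SpecialLinearGroup (Fin 2) F)) = 8) := by
  have hp := (Fact.out : p.Prime)
  set R := commutator (Matrix.SpecialLinearGroup (Fin 2) F) with hR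
  have hcard : Nat.card (Matrix.SpecialLinearGroup (Fin 2) F) = p * (p ^ 2 - 1) := by
    rw [CfsgLib.Classical.card_SL_two, hq]
  have hp23 : p = 2 ∨ p = 3 := by
    have := hp.two_le
    omega
  -- the quotient is a nontrivial `p`-group
  have hsol : Group.IsSolvable (Matrix.SpecialLinearGroup (Fin 2) F) :=
    CfsgLib.Recog.isSolvable_of_card_lt_sixty (by rw [hcard]; rcases hp23 with rfl | rfl <;> norm_num)
  haveI : Nontrivial (Matrix.SpecialLinearGroup (Fin 2) F) :=
    Finite.one_lt_card_iff_nontrivial.1 (by rw [hcard]; rcases hp23 with rfl | rfl <;> norm_num)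
  have hne : R ≠ ⊤ := (hsol.commutator_lt_top_of_nontrivial _).ne
  have hpg : IsPGroup p (Matrix.SpecialLinearGroup (Fin 2) F ⧸ R) := by
    intro x
    obtain ⟨g, rfl⟩ := QuotientGroup.mk_surjective x
    obtain ⟨k, hk⟩ : ∃ k, (orderOf (g ^ p ^ k)).Coprime p := by
      refine ⟨(orderOf g).factorization p, ?_⟩
      rw [orderOf_pow' _ (pow_ne_zero _ hp.ne_zero), Nat.gcd_eq_right (Nat.ordProj_dvd _ _)]
      exact ((Nat.Prime.coprime_iff_not_dvd hp).2 (Nat.not_dvd_ordCompl hp (orderOf_pos g).ne')).symm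
    refine ⟨k, ?_⟩
    rw [← QuotientGroup.mk_pow, QuotientGroup.eq_one_iff]
    exact mem_commutator_of_coprime hk
  obtain ⟨k, hk⟩ := IsPGroup.iff_card.1 hpg
  have hmul := R.card_mul_index
  rw [index_eq_card, hk, hcard] at hmul
  have hk0 : k ≠ 0 := by
    rintro rfl
    rw [pow_zero, ← index_eq_card, index_eq_one] at hk
    exact hne hk
  rcases hp23 with rfl | rfl
  · refine Or.inl ⟨rfl, ?_⟩
    rcases k with _ | _ | k
    · exact absurd rfl hk0
    · norm_num at hmul; omega
    · exfalso; norm_num [pow_succ] at hmul; have : Nat.card R * (2 ^ k * 2 * 2) = 6 := by linarith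
      have h4 : 4 ∣ 6 := ⟨Nat.card R * 2 ^ k, by linarith⟩
      norm_num at h4
  · refine Or.inr ⟨rfl, ?_⟩
    rcases k with _ | _ | k
    · exact absurd rfl hk0
    · norm_num at hmul; omega
    · exfalso; norm_num [pow_succ] at hmul
      have h9 : 9 ∣ 24 := ⟨Nat.card R * 3 ^ k, by linarith⟩
      norm_num at h9

/-- The small blocks: `E / O_p(E)` of order `3` or `8`, the field prime. -/
def IsSmall (p : ℕ) (T E : Subgroup G) : Prop :=
  ∃ (F : Type) (_ : Field F) (_ : Fintype F), Nat.card F = p ∧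
    ((p = 2 ∧ Nat.card (commutator (Matrix.SpecialLinearGroup (Fin 2) F)) = 3) ∨
      (p = 3 ∧ Nat.card (commutator (Matrix.SpecialLinearGroup (Fin 2) F)) = 8)) ∧
    Nonempty (NatSec p E (WW p E) (ZZ p E) F) ∧ (QE p E = WW p E ∨ IsExc p T E F)

variable {T : Sylow p G} {E : Subgroup G}
variable (hG : centralizer (Cfsg.pCore p G : Set G) ≤ Cfsg.pCore p G)
  (hE : Cfsg.IsBaumannBlock p (T : Subgroup G) E)
include hG hE

/-- The kernel of `E → G / O_p(G)` is `O_p(E)`. -/
theorem mk_eq_one_iff (hEs : E.IsSubnormal) {e : G} (he : e ∈ E) :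
    QuotientGroup.mk' (OO p G) e = 1 ↔ e ∈ QE p E := by
  rw [QuotientGroup.mk'_apply, QuotientGroup.eq_one_iff]
  exact ⟨fun h => oo_inf_le hG hE ⟨h, he⟩, fun h => qe_le_oo hEs h⟩

theorem qe_le_derived : QE p E ≤ ⁅E, E⁆ :=
  (qe_commutator hE).ge.trans (commutator_mono (pCoreOf_le p E) le_rfl)

/-- A block is small, or it is perfect with image a component of `G / O_p(G)`. -/
theorem small_or_perfect (hEs : E.IsSubnormal) : IsSmall p (T : Subgroup G) E ∨
    (E ≤ ⁅E, E⁆ ∧ Cfsg.IsComponent (E.map (QuotientGroup.mk' (OO p G)))) := by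
  let f : ↥E →* G ⧸ OO p G := (QuotientGroup.mk' (OO p G)).comp E.subtype
  have hf : f.range = E.map (QuotientGroup.mk' (OO p G)) := by
    rw [MonoidHom.range_comp, range_subtype]
  have hfk : ∀ e : ↥E, f e = 1 ↔ (e : G) ∈ QE p E := fun e => mk_eq_one_iff hG hE hEs e.2
  have hsub : (E.map (QuotientGroup.mk' (OO p G))).IsSubnormal :=
    hEs.map (QuotientGroup.mk'_surjective _)
  -- from a representation with quasisimple image
  have key : ∀ {H : Type} [Group H] (R : Subgroup H) (ρ : ↥E →* H), ρ.range = R →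
      (∀ e, ρ e = 1 ↔ (e : G) ∈ QE p E) → Cfsg.IsQuasisimple ↥R →
      E ≤ ⁅E, E⁆ ∧ Cfsg.IsComponent (E.map (QuotientGroup.mk' (OO p G))) := by
    intro H _ R ρ hρ hk hR
    have hker : ρ.ker = f.ker := Subgroup.ext fun e => (hk e).trans (hfk e).symm
    refine ⟨fun e he => ?_, hsub, ?_⟩
    · have h1 : ρ ⟨e, he⟩ ∈ (commutator ↥E).map ρ := by
        rw [commutator_def, map_commutator, ← MonoidHom.range_eq_map, hρ]
        have h2 : (commutator ↥R) = ⊤ := hR.1.commutator_eq_top
        have h3 := congrArg (Subgroup.map R.subtype) h2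
        rw [commutator_def, map_commutator, ← MonoidHom.range_eq_map, range_subtype] at h3
        rw [h3]
        exact hρ ▸ ⟨_, rfl⟩
      obtain ⟨c, hc, hce⟩ := h1
      have h4 : (⟨e, he⟩ : ↥E) * c⁻¹ ∈ ρ.ker := by rw [MonoidHom.mem_ker, map_mul, map_inv, hce, mul_inv_cancel]
      have h5 : e * (c : G)⁻¹ ∈ ⁅E, E⁆ := qe_le_derived hG hE ((hk _).1 h4)
      have h6 : (c : G) ∈ ⁅E, E⁆ := by
        have : (c : G) ∈ (commutator ↥E).map E.subtype := ⟨c, hc, rfl⟩
        rwa [commutator_def, map_commutator, ← MonoidHom.range_eq_map, range_subtype] at this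
      have := mul_mem h5 h6
      rwa [inv_mul_cancel_right] at this
    · refine CfsgLib.Components.isQuasisimple_of_mulEquiv ?_ hR
      exact ((MulEquiv.subgroupCongr hρ.symm).trans (QuotientGroup.quotientKerEquivRange ρ).symm).trans
        (((QuotientGroup.quotientMulEquivOfEq hker).trans (QuotientGroup.quotientKerEquivRange f)).trans
          (MulEquiv.subgroupCongr hf))
  rcases shape hG hE with ⟨F, fF, fin, n, hn, hcard, ⟨D⟩, hQ⟩ | ⟨-, m, hm, ⟨D⟩, hQ⟩
  · haveI := CfsgLib.LocalEven.Natural.charP_of_card (p := p) hcard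
    rcases Nat.lt_or_ge (Nat.card F) 4 with h4 | h4
    · left
      have hq : Nat.card F = p := by
        rw [Nat.card_eq_fintype_card, hcard]
        rcases eq_or_ne n 1 with rfl | h1
        · rw [pow_one]
        · exfalso
          have h2 : p ^ 2 ≤ p ^ n := Nat.pow_le_pow_right (Fact.out : p.Prime).pos (by omega)
          have h3 : 2 ^ 2 ≤ p ^ 2 := Nat.pow_le_pow_left (Fact.out : p.Prime).two_le 2
          rw [Nat.card_eq_fintype_card, hcard] at h4
          omega
      exact ⟨F, fF, fin, hq, card_commutator_of_small hq h4, ⟨D⟩, hQ⟩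
    · refine Or.inr (key _ D.rho D.range (fun e => ⟨D.ker e, D.qe_ker e⟩) ?_)
      rw [commutator_eq_top_of_four h4, CfsgLib.Components.isQuasisimple_top_iff]
      exact CfsgLib.FgsB.GLBlock.isQuasisimple_SL le_rfl fun _ => h4
  · refine Or.inr (key _ D.rho D.range (fun e => ⟨D.ker e, D.qe_ker e⟩) ?_)
    haveI : IsSimpleGroup (alternatingGroup (Fin (2 * m + 1))) :=
      alternatingGroup.isSimpleGroup (by rw [Nat.card_fin]; omega)
    refine CfsgLib.Components.isQuasisimple_of_isSimpleGroup fun h => ?_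
    have := (alternatingGroup.isMulCommutative_iff_card_le_three (α := Fin (2 * m + 1))).1 h
    rw [Nat.card_fin] at this
    omega

end CfsgLib.LocalEven.Baumann
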