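import Cfsg.Agent.Lib.Classical.GL2

/-!
Additive endomorphisms of the natural module of `SL₂(F)` that commute with, or normalize,
the derived group.
-/

set_option autoImplicit false

namespace CfsgLib.LocalEven.Baumann

open Matrix Matrix.SpecialLinearGroup CfsgLib.Classical
open scoped commutatorElement

variable {F : Type*} [Field F]

/-- The natural action of a matrix as an additive endomorphism. -/
def mv (M : Matrix (Fin 2) (Fin 2) F) : AddMonoid.End (Fin 2 → F) where
  toFun v := M.mulVec v
  map_zero' := Matrix.mulVec_zero M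
  map_add' := Matrix.mulVec_add M

@[simp] theorem mv_apply (M : Matrix (Fin 2) (Fin 2) F) (v : Fin 2 → F) : mv M v = M.mulVec v := rfl

theorem mv_mul (M N : Matrix (Fin 2) (Fin 2) F) : mv (M * N) = mv M * mv N :=
  DFunLike.ext _ _ fun v => (Matrix.mulVec_mulVec v M N).symm

theorem mv_one : mv (1 : Matrix (Fin 2) (Fin 2) F) = 1 :=
  DFunLike.ext _ _ fun v => Matrix.one_mulVec v

theorem mv_injective : Function.Injective (mv (F := F)) := fun M N h =>
  Matrix.ext_iff_mulVec.2 fun v => DFunLike.congr_fun h v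

theorem mulVec_diag (l : Fˣ) (v : Fin 2 → F) :
    (!![(l : F), 0; 0, ((l⁻¹ : Fˣ) : F)]).mulVec v = ![(l : F) * v 0, ((l⁻¹ : Fˣ) : F) * v 1] := by
  ext i; fin_cases i <;> simp [Matrix.mulVec, dotProduct, Fin.sum_univ_two]

theorem mulVec_uSL (t : F) (v : Fin 2 → F) : (uSL t).1.mulVec v = ![v 0 + t * v 1, v 1] := by
  rw [uSL_coe]; ext i; fin_cases i <;> simp [Matrix.mulVec, dotProduct, Fin.sum_univ_two]

theorem mulVec_lSL (t : F) (v : Fin 2 → F) : (lSL t).1.mulVec v = ![v 0, t * v 0 + v 1] := by
  rw [lSL_coe]; ext i; fin_cases i <;> simp [Matrix.mulVec, dotProduct, Fin.sum_univ_two]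

theorem commutator_eq_top_of_four [Finite F] (h4 : 4 ≤ Nat.card F) :
    commutator (Matrix.SpecialLinearGroup (Fin 2) F) = ⊤ :=
  SL_fin_commutator_eq_top (F := F) 2 le_rfl (fun _ => h4)

/-- Commuting with all of `SL₂(F)` forces a scalar. -/
theorem exists_scalar_of_four [Finite F] (φ : AddMonoid.End (Fin 2 → F))
    (h : ∀ g : Matrix.SpecialLinearGroup (Fin 2) F, φ * mv g.1 = mv g.1 * φ) :
    ∃ c : F, ∀ v, φ v = c • v := by
  have e : ∀ (g : Matrix.SpecialLinearGroup (Fin 2) F) v, φ (g.1.mulVec v) = g.1.mulVec (φ v) :=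
    fun g v => DFunLike.congr_fun (h g) v
  have h0 : ∀ x : F, φ ![x, 0] 1 = 0 := fun x => by
    have := e (uSL 1) ![x, 0]
    rw [mulVec_uSL, mulVec_uSL] at this
    have := congrFun this 0
    simpa using this
  have hy : ∀ t y : F, φ ![t * y, 0] 0 = t * φ ![0, y] 1 := fun t y => by
    have := e (uSL t) ![0, y]
    rw [mulVec_uSL, mulVec_uSL,
      show (![![0, y] 0 + t * ![0, y] 1, ![0, y] 1] : Fin 2 → F) = ![t * y, 0] + ![0, y] by
        ext i; fin_cases i <;> simp, map_add] at this
    have := congrFun this 0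
    simp at this
    linear_combination this
  have hx : ∀ t x : F, φ ![0, t * x] 1 = t * φ ![x, 0] 0 := fun t x => by
    have := e (lSL t) ![x, 0]
    rw [mulVec_lSL, mulVec_lSL,
      show (![![x, 0] 0, t * ![x, 0] 0 + ![x, 0] 1] : Fin 2 → F) = ![0, t * x] + ![x, 0] by
        ext i; fin_cases i <;> simp, map_add] at this
    have := congrFun this 1
    simp [h0] at this
    linear_combination this
  have h1 : ∀ y : F, φ ![0, y] 0 = 0 := fun y => by
    have := e (lSL 1) ![0, y]
    rw [mulVec_lSL, mulVec_lSL,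
      show (![![0, y] 0, 1 * ![0, y] 0 + ![0, y] 1] : Fin 2 → F) = ![0, y] by
        ext i; fin_cases i <;> simp] at this
    have := congrFun this 1
    simpa using this
  refine ⟨φ ![1, 0] 0, fun v => ?_⟩
  have a := hy (v 0) 1
  have b := hx (v 1) 1
  have c := hy 1 1
  simp only [mul_one, one_mul] at a b c
  rw [show v = ![v 0, 0] + ![0, v 1] by ext i; fin_cases i <;> simp, map_add]
  ext i
  fin_cases i
  · simp [a, c, h1]; ring
  · simp [b, h0]; ring

/-- Commuting with the derived group of `SL₂(F)` forces a scalar, unless `|F| = 2`. -/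
theorem exists_scalar_of_commute [Finite F] (hq : 3 ≤ Nat.card F) (φ : AddMonoid.End (Fin 2 → F))
    (h : ∀ g ∈ commutator (Matrix.SpecialLinearGroup (Fin 2) F), φ * mv g.1 = mv g.1 * φ) :
    ∃ c : F, ∀ v, φ v = c • v := by
  rcases Nat.lt_or_ge (Nat.card F) 4 with h3 | h4
  swap
  · exact exists_scalar_of_four φ fun g => h g (by rw [commutator_eq_top_of_four h4]; trivial)
  -- three elements
  haveI : Fintype F := Fintype.ofFinite F
  have hprime : (Nat.card F).Prime := by rw [show Nat.card F = 3 by omega]; norm_num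
  have hcard : Fintype.card F = 3 := by rw [Fintype.card_eq_nat_card]; omega
  have : Fact (Nat.Prime 3) := ⟨by norm_num⟩
  haveI : CharP F 3 := charP_of_card_eq_prime hcard
  let ι := ZMod.castHom (dvd_refl 3) F
  have hι : Function.Bijective ι := by
    rw [Fintype.bijective_iff_injective_and_card]
    exact ⟨ι.injective, by rw [ZMod.card, hcard]⟩
  have hsm : ∀ (z : F) (v : Fin 2 → F), φ (z • v) = z • φ v := fun z v => by
    obtain ⟨a, rfl⟩ := hι.2 z
    rw [ZMod.castHom_apply, ZMod.cast_eq_val, Nat.cast_smul_eq_nsmul, map_nsmul,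
      Nat.cast_smul_eq_nsmul]
  have hthree : (3 : F) = 0 := by exact_mod_cast CharP.cast_eq_zero F 3
  obtain ⟨c, hcdef⟩ : ∃ c : Matrix.SpecialLinearGroup (Fin 2) F, c = ⁅uSL (1 : F), lSL (1 : F)⁆ := ⟨_, rfl⟩
  have hcmem : c ∈ commutator (Matrix.SpecialLinearGroup (Fin 2) F) :=
    hcdef ▸ Subgroup.commutator_mem_commutator (Subgroup.mem_top _) (Subgroup.mem_top _)
  have hc : c.1 = !![3, -1; 1, 0] := by
    have e1 : (uSL (1 : F))⁻¹ = uSL (-1) :=
      inv_eq_of_mul_eq_one_right (by rw [← transvection_add, add_neg_cancel, transvection_coeff_zero])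
    have e2 : (lSL (1 : F))⁻¹ = lSL (-1) :=
      inv_eq_of_mul_eq_one_right (by rw [← transvection_add, add_neg_cancel, transvection_coeff_zero])
    rw [hcdef, commutatorElement_def, e1, e2, coe_mul, coe_mul, coe_mul, uSL_coe, lSL_coe, uSL_coe, lSL_coe]
    ext i j
    fin_cases i <;> fin_cases j <;> simp [Matrix.mul_apply, Fin.sum_univ_two] <;> ring
  rw [hthree] at hc
  have hnorm : uSL (1 : F) * c * (uSL (1 : F))⁻¹ ∈ commutator (Matrix.SpecialLinearGroup (Fin 2) F) :=
    (inferInstance : (commutator (Matrix.SpecialLinearGroup (Fin 2) F)).Normal).conj_mem _ hcmem _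
  have e1 := fun v => DFunLike.congr_fun (h c hcmem) v
  have e2 := fun v => DFunLike.congr_fun (h _ hnorm) v
  simp only [AddMonoid.End.coe_mul, Function.comp_apply, mv_apply] at e1 e2
  have hconj : (uSL (1 : F) * c * (uSL (1 : F))⁻¹).1 = !![1, -2; 1, -1] := by
    have h' : (uSL (1 : F))⁻¹ = uSL (-1) :=
      inv_eq_of_mul_eq_one_right (by rw [← transvection_add, add_neg_cancel, transvection_coeff_zero])
    rw [h', coe_mul, coe_mul, hc, uSL_coe, uSL_coe]
    ext i j
    fin_cases i <;> fin_cases j <;> simp [Matrix.mul_apply, Fin.sum_univ_two] <;> ring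
  rw [hc] at e1
  rw [hconj] at e2
  have hsplit : ∀ v : Fin 2 → F, v = v 0 • ![1, 0] + v 1 • ![0, 1] := fun v => by
    ext i; fin_cases i <;> simp
  set A := φ ![1, 0] with hA
  set B := φ ![0, 1] with hB
  have hφ : ∀ v : Fin 2 → F, φ v = v 0 • A + v 1 • B := fun v => by
    conv_lhs => rw [hsplit v, map_add, hsm, hsm]
  have a1 := e1 ![1, 0]
  have a2 := e2 ![1, 0]
  rw [← hA, hφ] at a1 a2
  have a10 := congrFun a1 0
  have a11 := congrFun a1 1
  have a20 := congrFun a2 0
  simp at a10 a11 a20
  rw [show vecHead (vecTail A) = A 1 from rfl] at a10 a20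
  rw [show vecHead A = A 0 from rfl] at a11 a20
  refine ⟨A 0, fun v => ?_⟩
  have hA1 : A 1 = 0 := by linear_combination a20 - a10
  have hB0 : B 0 = 0 := by rw [a10, hA1, neg_zero]
  rw [hφ]
  ext i
  fin_cases i
  · simp [hB0]; ring
  · simp [hA1, a11]; ring

/-- Elements of order prime to `p` lie in the derived group of `SL₂(F)`. -/
theorem mem_commutator_of_coprime [Finite F] {p : ℕ} [Fact p.Prime] [CharP F p]
    {g : Matrix.SpecialLinearGroup (Fin 2) F} (hg : (orderOf g).Coprime p) :
    g ∈ commutator (Matrix.SpecialLinearGroup (Fin 2) F) := by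
  let π := (Abelianization.of : Matrix.SpecialLinearGroup (Fin 2) F →* _)
  have hu : ∀ {i j : Fin 2} (hij : i ≠ j) (c : F), (transvection hij c : Matrix.SpecialLinearGroup (Fin 2) F) ^ p = 1 := by
    intro i j hij c
    have : ∀ n : ℕ, (transvection hij c : Matrix.SpecialLinearGroup (Fin 2) F) ^ n = transvection hij (n * c) := by
      intro n
      induction n with
      | zero => simp [transvection_coeff_zero]
      | succ n ih => rw [pow_succ, ih, ← transvection_add]; push_cast; rw [add_mul, one_mul]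
    rw [this, CharP.cast_eq_zero, zero_mul, transvection_coeff_zero]
  have htop : (powMonoidHom p).comp π = 1 := by
    rw [← MonoidHom.ker_eq_top_iff]
    refine eq_top_of_transvection_mem _ fun i j hij c => ?_
    rw [MonoidHom.mem_ker, MonoidHom.comp_apply, powMonoidHom_apply, ← map_pow, hu hij c, map_one]
  have h1 : π g ^ p = 1 := DFunLike.congr_fun htop g
  have h2 : π g = 1 := orderOf_eq_one_iff.1
    (Nat.eq_one_of_dvd_coprimes hg (orderOf_map_dvd π g) (orderOf_dvd_of_pow_eq_one h1))
  rwa [← MonoidHom.mem_ker, Abelianization.ker_of] at h2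

/-- A linear element of `p`-power order: determinant one and quadratic. -/
theorem det_and_sq_of_pow [Finite F] {p : ℕ} [Fact p.Prime] [CharP F p]
    {M : Matrix (Fin 2) (Fin 2) F} {k : ℕ} (h : M ^ p ^ k = 1) : M.det = 1 ∧ (M - 1) * (M - 1) = 0 := by
  constructor
  · have := congrArg Matrix.det h
    rw [Matrix.det_pow, Matrix.det_one] at this
    have h' : (M.det - 1) ^ p ^ k = 0 := by rw [sub_pow_char_pow, this, one_pow, sub_self]
    exact sub_eq_zero.1 (eq_zero_of_pow_eq_zero h')
  · set N := M - 1 with hN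
    have h0 : N ^ p ^ k = 0 := by
      rw [hN, sub_pow_char_pow_of_commute _ _ (Commute.one_right M), h, one_pow, sub_self]
    have hdet : N.det = 0 := by
      have := congrArg Matrix.det h0
      rw [Matrix.det_pow, Matrix.det_zero] at this
      exact eq_zero_of_pow_eq_zero this
    have hch : N * N = N.trace • N := by
      rw [Matrix.det_fin_two] at hdet
      ext i j
      fin_cases i <;> fin_cases j <;>
        simp [Matrix.mul_apply, Fin.sum_univ_two, Matrix.trace_fin_two] <;>
        first | ring1 | linear_combination -hdet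
    have hpow : ∀ n : ℕ, N ^ (n + 1) = N.trace ^ n • N := fun n => by
      induction n with
      | zero => simp
      | succ n ih => rw [pow_succ, ih, smul_mul_assoc, hch, smul_smul, pow_succ]
    obtain ⟨n, hn⟩ : ∃ n, p ^ k = n + 1 :=
      ⟨_, (Nat.sub_add_cancel (Nat.one_le_pow _ _ (Fact.out : p.Prime).pos)).symm⟩
    rw [hn, hpow, smul_eq_zero] at h0
    rcases h0 with h0 | h0
    · rw [hch, eq_zero_of_pow_eq_zero h0, zero_smul]
    · rw [h0, zero_mul]

end CfsgLib.LocalEven.Baumann
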