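import Cfsg.Agent.Lib.LocalEven.Baumann.Small
import Cfsg.Agent.Lib.Classical.PSLSimple

/-!
The derived group of `SL₂` over a field of characteristic three: the quaternion subgroup,
alternating forms on the natural module, and the subgroups it normalizes.
-/

set_option autoImplicit false
set_option linter.unusedSectionVars false

namespace CfsgLib.LocalEven.Baumann.ThreeSL

open Subgroup CfsgLib.LocalEven.Baumann

variable {F : Type} [Field F] [Finite F] [CharP F 3]

local notation "SL2" => Matrix.SpecialLinearGroup (Fin 2) F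

theorem three_eq_zero : (3 : F) = 0 := by simpa using CharP.cast_eq_zero F 3

theorem two_ne_zero' : (2 : F) ≠ 0 := fun h => one_ne_zero (α := F) (by
  calc (1 : F) = 3 - 2 := by norm_num
    _ = 0 := by rw [three_eq_zero, h, sub_zero])

theorem neg_two_eq_one : (-2 : F) = 1 := by
  linear_combination (-1 : F) * three_eq_zero (F := F)

variable (F) in
/-- `w`, of square `-1`. -/
def wM : SL2 := ⟨!![0, -1; 1, 0], by simp [Matrix.det_fin_two_of]⟩

variable (F) in
/-- `v`, of square `-1`, inverting `w`. -/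
def vM : SL2 := ⟨!![1, 1; 1, -1], by
  rw [Matrix.det_fin_two_of]; linear_combination (-1 : F) * three_eq_zero (F := F)⟩

variable (F) in
/-- `-1`. -/
def nM : SL2 := ⟨-1, by simp [Matrix.det_fin_two]⟩

theorem wM_sq : wM F * wM F = nM F := by
  apply Subtype.ext
  rw [Matrix.SpecialLinearGroup.coe_mul]
  show (!![0, -1; 1, 0] : Matrix (Fin 2) (Fin 2) F) * !![0, -1; 1, 0] = -1
  ext i j
  fin_cases i <;> fin_cases j <;> simp [Matrix.mul_apply, Fin.sum_univ_two]

theorem vM_sq : vM F * vM F = nM F := by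
  apply Subtype.ext
  rw [Matrix.SpecialLinearGroup.coe_mul]
  show (!![1, 1; 1, -1] : Matrix (Fin 2) (Fin 2) F) * !![1, 1; 1, -1] = -1
  ext i j
  fin_cases i <;> fin_cases j <;> simp [Matrix.mul_apply, Fin.sum_univ_two] <;>
    linear_combination three_eq_zero (F := F)

theorem wM_vM : wM F * vM F = nM F * (vM F * wM F) := by
  apply Subtype.ext
  simp only [Matrix.SpecialLinearGroup.coe_mul]
  show (!![0, -1; 1, 0] : Matrix (Fin 2) (Fin 2) F) * !![1, 1; 1, -1]
    = (-1) * (!![1, 1; 1, -1] * !![0, -1; 1, 0])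
  ext i j
  fin_cases i <;> fin_cases j <;> simp [Matrix.mul_apply, Fin.sum_univ_two]

theorem nM_coe : (nM F).1 = -1 := rfl

theorem nM_sq : nM F * nM F = 1 := by
  apply Subtype.ext
  simp [nM_coe]

theorem nM_comm (g : SL2) : nM F * g = g * nM F := by
  apply Subtype.ext
  simp [nM_coe]

theorem nM_ne_one : nM F ≠ 1 := fun h => by
  have := congrArg (fun g : SL2 => g.1 0 0) h
  simp [nM_coe] at this
  exact two_ne_zero' (F := F) (by linear_combination -this)

theorem mem_comm_of_sq {g : SL2} (h : g * g = nM F) : g ∈ commutator SL2 := by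
  haveI : Fact (Nat.Prime 3) := ⟨by norm_num⟩
  refine mem_commutator_of_coprime (p := 3) ?_
  have h4 : orderOf g ∣ 4 := orderOf_dvd_of_pow_eq_one (by
    rw [show (4 : ℕ) = 2 * 2 from rfl, pow_mul, sq g, h, sq, nM_sq])
  exact Nat.Coprime.coprime_dvd_left h4 (by norm_num)

theorem nM_mem : nM F ∈ commutator SL2 := wM_sq (F := F) ▸ mul_mem (mem_comm_of_sq wM_sq) (mem_comm_of_sq wM_sq)

theorem inv_eq_neg_of_sq {g : SL2} (h : g * g = nM F) : g⁻¹.1 = -g.1 := by
  have h1 : g⁻¹ = nM F * g := inv_eq_of_mul_eq_one_right (by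
    rw [← mul_assoc, ← nM_comm, mul_assoc, h, nM_sq])
  rw [h1, Matrix.SpecialLinearGroup.coe_mul, nM_coe, neg_one_mul]

variable (F) in
/-- `w` in the derived group. -/
def wR : ↥(commutator SL2) := ⟨wM F, mem_comm_of_sq wM_sq⟩

variable (F) in
/-- `v` in the derived group. -/
def vR : ↥(commutator SL2) := ⟨vM F, mem_comm_of_sq vM_sq⟩

variable (F) in
/-- `-1` in the derived group. -/
def nR : ↥(commutator SL2) := ⟨nM F, nM_mem⟩

theorem nR_comm (r : ↥(commutator SL2)) : nR F * r = r * nR F := Subtype.ext (nM_comm r.1)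

theorem wR_vR : wR F * vR F * (wR F)⁻¹ * (vR F)⁻¹ = nR F := by
  rw [mul_inv_eq_iff_eq_mul, mul_inv_eq_iff_eq_mul, mul_assoc]
  exact Subtype.ext (wM_vM (F := F))

variable (F) in
/-- The quaternion subgroup. -/
def quat : Subgroup ↥(commutator SL2) := zpowers (wR F) ⊔ zpowers (vR F)

theorem isPGroup_quat : IsPGroup 2 (quat F) := by
  have hp : ∀ g : ↥(commutator SL2), g * g = nR F → IsPGroup 2 (zpowers g) := fun g hg => by
    have h4 : orderOf g ∣ 2 ^ 2 := orderOf_dvd_of_pow_eq_one (by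
      rw [show (2 : ℕ) ^ 2 = 2 * 2 from rfl, pow_mul, sq g, hg, sq]
      exact Subtype.ext nM_sq)
    obtain ⟨k, -, hk⟩ := (Nat.dvd_prime_pow Nat.prime_two).1 h4
    exact IsPGroup.of_card (n := k) (by rw [Nat.card_zpowers, hk])
  refine (hp _ (Subtype.ext wM_sq)).to_sup_of_normal_right' (hp _ (Subtype.ext vM_sq)) ?_
  rw [zpowers_le]
  have hn : nR F = vR F * vR F := Subtype.ext (vM_sq (F := F)).symm
  have hconj : ∀ z ∈ zpowers (vR F), wR F * z * (wR F)⁻¹ ∈ zpowers (vR F) := by
    rintro _ ⟨k, rfl⟩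
    show wR F * (vR F) ^ k * (wR F)⁻¹ ∈ _
    rw [← conj_zpow]
    refine zpow_mem ?_ k
    rw [show wR F * vR F * (wR F)⁻¹ = (wR F * vR F * (wR F)⁻¹ * (vR F)⁻¹) * vR F by group, wR_vR, hn]
    exact mul_mem (mul_mem (mem_zpowers _) (mem_zpowers _)) (mem_zpowers _)
  exact mem_normalizer_iff_map_conj_eq.2 (eq_of_le_of_card_ge (by
    rintro _ ⟨z, hz, rfl⟩; exact hconj z hz)
    (Nat.card_congr (equivMapOfInjective _ _ (MulAut.conj (wR F)).injective).toEquiv).le)

/-- The determinant pairing. -/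
def dt (x y : Fin 2 → F) : F := x 0 * y 1 - x 1 * y 0

theorem dt_mulVec (M : Matrix (Fin 2) (Fin 2) F) (x y : Fin 2 → F) :
    dt (M.mulVec x) (M.mulVec y) = M.det * dt x y := by
  simp [dt, Matrix.mulVec, dotProduct, Fin.sum_univ_two, Matrix.det_fin_two]
  ring

theorem dt_eq_zero_left {x : Fin 2 → F} (h : ∀ y, dt y x = 0) : x = 0 := by
  have h0 := h ![1, 0]
  have h1 := h ![0, 1]
  simp [dt] at h0 h1
  ext i; fin_cases i <;> simp [h0, h1]

/-- A form-preserving additive map of the plane is in `SL₂`. -/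
theorem exists_sl_of_dt (A : (Fin 2 → F) →+ (Fin 2 → F)) (h : ∀ x y, dt (A x) (A y) = dt x y) :
    ∃ M : SL2, ∀ x, A x = M.1.mulVec x := by
  have hd : dt (A ![1, 0]) (A ![0, 1]) = 1 := by rw [h]; simp [dt]
  obtain ⟨a, ha⟩ : ∃ a, a = A ![1, 0] := ⟨_, rfl⟩
  obtain ⟨c, hc⟩ : ∃ c, c = A ![0, 1] := ⟨_, rfl⟩
  rw [← ha, ← hc] at hd
  refine ⟨⟨!![a 0, c 0; a 1, c 1], by rw [Matrix.det_fin_two_of]; simpa [dt, mul_comm (c 0)] using hd⟩, fun y => ?_⟩
  have h1 := h ![1, 0] y
  have h2 := h ![0, 1] y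
  rw [← ha] at h1
  rw [← hc] at h2
  simp [dt] at h1 h2 hd
  ext i
  fin_cases i
  · simp [Matrix.mulVec, dotProduct, Fin.sum_univ_two]
    linear_combination c 0 * h1 - a 0 * h2 - A y 0 * hd
  · simp [Matrix.mulVec, dotProduct, Fin.sum_univ_two]
    linear_combination c 1 * h1 - a 1 * h2 - A y 1 * hd

/-- A map self-adjoint for the determinant is a scalar. -/
theorem exists_scalar_of_dt (A : (Fin 2 → F) →+ (Fin 2 → F)) (h : ∀ x y, dt (A x) y = dt x (A y)) :
    ∃ a : F, ∀ x, A x = a • x := by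
  obtain ⟨a, ha⟩ : ∃ a, a = A ![1, 0] := ⟨_, rfl⟩
  obtain ⟨c, hc⟩ : ∃ c, c = A ![0, 1] := ⟨_, rfl⟩
  have h2 := two_ne_zero' (F := F)
  have e1 := h ![1, 0] ![1, 0]
  have e2 := h ![0, 1] ![0, 1]
  have e3 := h ![1, 0] ![0, 1]
  rw [← ha] at e1
  rw [← hc] at e2
  rw [← ha, ← hc] at e3
  simp [dt] at e1 e2 e3
  have a1 : a 1 = 0 := (mul_eq_zero.1 (show (2 : F) * a 1 = 0 by linear_combination -e1)).resolve_left h2
  have c0 : c 0 = 0 := (mul_eq_zero.1 (show (2 : F) * c 0 = 0 by linear_combination e2)).resolve_left h2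
  refine ⟨a 0, fun y => ?_⟩
  have f1 := h ![1, 0] y
  have f2 := h ![0, 1] y
  rw [← ha] at f1
  rw [← hc] at f2
  simp [dt, a1, c0] at f1 f2
  ext i
  fin_cases i
  · simp
    linear_combination -f2 - y 0 * e3
  · simp
    linear_combination -f1

/-- No nonzero vector is perpendicular to its images under the quaternion group. -/
theorem eq_zero_of_quat {x : Fin 2 → F} (hw : dt ((wM F).1.mulVec x) x = 0)
    (hv : dt ((vM F).1.mulVec x) x = 0) (hu : dt ((vM F * wM F).1.mulVec x) x = 0) : x = 0 := by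
  rw [Matrix.SpecialLinearGroup.coe_mul, ← Matrix.mulVec_mulVec] at hu
  simp [wM, vM, dt, Matrix.mulVec, dotProduct, Fin.sum_univ_two] at hw hv hu
  have h2 := two_ne_zero' (F := F)
  have h00 : x 0 * x 0 = 0 := (mul_eq_zero.1 (show ((2 : F) * 2) * (x 0 * x 0) = 0 by
    linear_combination hu - hv - 2 * hw + (0 : F) * three_eq_zero (F := F))).resolve_left (mul_ne_zero h2 h2)
  have h11 : x 1 * x 1 = 0 := by linear_combination (-1 : F) * hw - h00
  ext i
  fin_cases i
  · exact mul_self_eq_zero.1 h00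
  · exact mul_self_eq_zero.1 h11

/-- A subgroup normalized by the derived group is trivial or contains `-1`. -/
theorem eq_bot_or_neg_mem {n : ℕ} (hn : 0 < n) (hcard : Nat.card F = 3 ^ n) (M : Subgroup SL2)
    (hM : ∀ r ∈ commutator SL2, ∀ m ∈ M, r * m * r⁻¹ ∈ M) : M = ⊥ ∨ nM F ∈ M := by
  by_contra hcon
  push Not at hcon
  obtain ⟨hne, hneg⟩ := hcon
  have h2 := two_ne_zero' (F := F)
  haveI : Fintype F := Fintype.ofFinite F
  haveI : Fact (Nat.Prime 3) := ⟨by norm_num⟩
  have h3 : 3 ≤ Nat.card F := by rw [hcard]; exact Nat.le_self_pow (by omega) 3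
  -- an element of order two is `-1`
  have hinv : ∀ m ∈ M, m * m = 1 → m = 1 := fun m hm hsq => by
    rcases CfsgLib.Classical.sl2_sq_eq_one h2 hsq with h | h
    · exact Subtype.ext h
    · exact absurd ((Subtype.ext h : m = nM F) ▸ hm) hneg
  have hsc : ∀ m : SL2, m ∈ M → (∀ r ∈ commutator SL2, m * r = r * m) → m = 1 := fun m hm hc => by
    obtain ⟨c, hc'⟩ := exists_scalar_of_commute h3 (mv m.1) (fun r hr => by
      rw [← mv_mul, ← mv_mul, ← Matrix.SpecialLinearGroup.coe_mul, hc r hr, Matrix.SpecialLinearGroup.coe_mul])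
    have hm1 : m.1 = c • (1 : Matrix (Fin 2) (Fin 2) F) := by
      refine Matrix.ext_iff_mulVec.2 fun v => ?_
      rw [Matrix.smul_mulVec, Matrix.one_mulVec, ← hc' v, mv_apply]
    have hd := m.2
    rw [hm1, Matrix.det_smul, Matrix.det_one, mul_one, Fintype.card_fin, sq] at hd
    refine hinv m hm (Subtype.ext ?_)
    rw [Matrix.SpecialLinearGroup.coe_mul, hm1, smul_mul_smul_comm, one_mul, hd, one_smul]
    rfl
  obtain ⟨m, hm, hm1⟩ := M.bot_or_exists_ne_one.resolve_left hne
  obtain ⟨r, hr, hrm⟩ : ∃ r ∈ commutator SL2, m * r ≠ r * m := by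
    by_contra hall
    push Not at hall
    exact hm1 (hsc m hm hall)
  have hq : m * r * m⁻¹ * r⁻¹ ∈ M := by
    rw [show m * r * m⁻¹ * r⁻¹ = m * (r * m⁻¹ * r⁻¹) by group]
    exact mul_mem hm (hM r hr _ (inv_mem hm))
  have hqR : m * r * m⁻¹ * r⁻¹ ∈ commutator SL2 :=
    mul_mem ((inferInstance : (commutator SL2).Normal).conj_mem r hr m) (inv_mem hr)
  have hq1 : m * r * m⁻¹ * r⁻¹ ≠ 1 := fun h => hrm (by
    rw [mul_inv_eq_one, mul_inv_eq_iff_eq_mul] at h; exact h)
  rcases Nat.lt_or_ge (Nat.card F) 4 with h4 | h4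
  · -- three elements: the derived group is a two-group
    have hq3 : Nat.card F = 3 := by omega
    rcases card_commutator_of_small (p := 3) hq3 h4 with ⟨h, -⟩ | ⟨-, h8⟩
    · omega
    have hd : orderOf (m * r * m⁻¹ * r⁻¹) ∣ 2 ^ 3 := by
      rw [show (2 : ℕ) ^ 3 = 8 from rfl, ← h8, show orderOf (m * r * m⁻¹ * r⁻¹)
        = orderOf (⟨_, hqR⟩ : ↥(commutator SL2)) from (Subgroup.orderOf_mk _ _).symm]
      exact orderOf_dvd_natCard _
    obtain ⟨k, -, hk⟩ := (Nat.dvd_prime_pow Nat.prime_two).1 hd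
    set q := m * r * m⁻¹ * r⁻¹
    have hk0 : k ≠ 0 := fun h0 => hq1 (orderOf_eq_one_iff.1 (by rw [hk, h0, pow_zero]))
    have hsq : q ^ 2 ^ (k - 1) * q ^ 2 ^ (k - 1) = 1 := by
      rw [← pow_add, ← two_mul, ← pow_succ', Nat.sub_add_cancel (by omega), ← hk, pow_orderOf_eq_one]
    have h1 := hinv _ (pow_mem hq _) hsq
    rw [← orderOf_dvd_iff_pow_eq_one, hk, Nat.pow_dvd_pow_iff_le_right (by norm_num)] at h1
    omega
  · -- perfect: normal subgroups are central or everything
    have htop := commutator_eq_top_of_four (F := F) h4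
    haveI : M.Normal := ⟨fun x hx g => hM g (htop ▸ Subgroup.mem_top g) x hx⟩
    rcases CfsgLib.Classical.normal_SL_le_center_or_eq_top htop M with h | h
    · exact hm1 (hsc m hm fun r _ => (Subgroup.mem_center_iff.1 (h hm) r).symm)
    · exact hneg (h ▸ Subgroup.mem_top _)


/-- An invariant alternating biadditive map on the plane factors through the determinant. -/
theorem form_det {n : ℕ} (hn : 0 < n) (hcard : Nat.card F = 3 ^ n) {B : Type*} [AddCommGroup B]
    (ω : (Fin 2 → F) →+ (Fin 2 → F) →+ B) (halt : ∀ x, ω x x = 0)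
    (hinv : ∀ r ∈ commutator SL2, ∀ x y, ω (r.1.mulVec x) (r.1.mulVec y) = ω x y) :
    ∀ x y, ω x y = ω (![dt x y, 0]) (![0, 1]) := by
  haveI : Fact (Nat.Prime 3) := ⟨by norm_num⟩
  have hskew : ∀ x y, ω x y = -ω y x := fun x y => by
    have h := halt (x + y)
    simp only [map_add, AddMonoidHom.add_apply, halt, zero_add, add_zero] at h
    exact eq_neg_of_add_eq_zero_left (by rwa [add_comm] at h)
  -- the three facts on coordinates
  have key : (∀ a b : F, ω ![a, 0] ![b, 0] = 0) ∧ (∀ a b : F, ω ![0, a] ![0, b] = 0) ∧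
      ∀ a b : F, ω ![a, 0] ![0, b] = ω ![a * b, 0] ![0, 1] := by
    rcases Nat.lt_or_ge (Nat.card F) 4 with h4 | h4
    · have hq3 : Nat.card F = 3 := by
        have : 3 ≤ Nat.card F := by rw [hcard]; exact Nat.le_self_pow (by omega) 3
        omega
      haveI : Fintype F := Fintype.ofFinite F
      have hnat : ∀ a : F, ∃ k : ℕ, (k : F) = a := fun a => by
        obtain ⟨z, hz⟩ := ((Fintype.bijective_iff_injective_and_card _).2
          ⟨(ZMod.castHom (dvd_refl 3) F).injective, by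
            rw [ZMod.card, Fintype.card_eq_nat_card, hq3]⟩).2 a
        exact ⟨z.val, by rw [← hz, ZMod.castHom_apply, ZMod.cast_eq_val]⟩
      have e0 : ∀ k : ℕ, (![(k : F), 0] : Fin 2 → F) = k • ![1, 0] := fun k => by
        ext i; fin_cases i <;> simp
      have e1 : ∀ k : ℕ, (![0, (k : F)] : Fin 2 → F) = k • ![0, 1] := fun k => by
        ext i; fin_cases i <;> simp
      refine ⟨fun a b => ?_, fun a b => ?_, fun a b => ?_⟩
      all_goals
        obtain ⟨k, rfl⟩ := hnat a
        obtain ⟨l, rfl⟩ := hnat b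
      · rw [e0, e0]; simp only [map_nsmul, AddMonoidHom.smul_apply, halt, smul_zero]
      · rw [e1, e1]; simp only [map_nsmul, AddMonoidHom.smul_apply, halt, smul_zero]
      · rw [← Nat.cast_mul, e0, e1, e0]
        simp only [map_nsmul, AddMonoidHom.smul_apply, smul_smul, mul_comm l k]
    · have htop := commutator_eq_top_of_four (F := F) h4
      have hu : ∀ c : F, ∀ x y, ω ![x 0 + c * x 1, x 1] ![y 0 + c * y 1, y 1] = ω x y := fun c x y => by
        rw [← mulVec_uSL, ← mulVec_uSL]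
        exact hinv _ (htop ▸ mem_top _) x y
      have hl : ∀ c : F, ∀ x y, ω ![x 0, c * x 0 + x 1] ![y 0, c * y 0 + y 1] = ω x y := fun c x y => by
        rw [← mulVec_lSL, ← mulVec_lSL]
        exact hinv _ (htop ▸ mem_top _) x y
      have es : ∀ a b : F, (![a, b] : Fin 2 → F) = ![a, 0] + ![0, b] := fun a b => by simp
      have h1 : ∀ a b : F, ω ![a, 0] ![b, 0] = 0 := fun a b => by
        have h := hu b ![a, 0] ![0, 1]
        simp only [Matrix.cons_val_zero, Matrix.cons_val_one, mul_zero, add_zero, zero_add, mul_one] at h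
        rw [es b 1, map_add] at h
        exact add_eq_right.1 h
      have h2 : ∀ a b : F, ω ![0, a] ![0, b] = 0 := fun a b => by
        have h := hl b ![1, 0] ![0, a]
        simp only [Matrix.cons_val_zero, Matrix.cons_val_one, mul_zero, add_zero, zero_add, mul_one] at h
        rw [es 1 b, map_add, AddMonoidHom.add_apply] at h
        rw [hskew]
        rw [add_eq_left.1 h, neg_zero]
      have h3 : ∀ a b c : F, ω ![a, 0] ![0, b * c] = ω ![b, 0] ![0, a * c] := fun a b c => by
        have h := hl c ![a, 0] ![b, 0]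
        simp only [Matrix.cons_val_zero, Matrix.cons_val_one, add_zero] at h
        rw [h1, es a (c * a), es b (c * b)] at h
        simp only [map_add, AddMonoidHom.add_apply, h1, h2, zero_add, add_zero] at h
        rw [mul_comm b c, mul_comm a c]
        have h' := eq_neg_of_add_eq_zero_left h
        rw [← hskew] at h'
        exact (neg_inj.1 (by rw [← hskew, h', ← hskew])).symm
      refine ⟨h1, h2, fun a b => ?_⟩
      calc ω ![a, 0] ![0, b] = ω ![a, 0] ![0, 1 * b] := by rw [one_mul]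
        _ = ω ![1, 0] ![0, a * b] := h3 a 1 b
        _ = ω ![1, 0] ![0, (a * b) * 1] := by rw [mul_one]
        _ = ω ![a * b, 0] ![0, 1] := by rw [h3 1 (a * b) 1, one_mul]
  obtain ⟨k1, k2, k3⟩ := key
  intro x y
  have hx : x = ![x 0, 0] + ![0, x 1] := by ext i; fin_cases i <;> simp
  have hy : y = ![y 0, 0] + ![0, y 1] := by ext i; fin_cases i <;> simp
  have hd : (![dt x y, 0] : Fin 2 → F) = ![x 0 * y 1, 0] - ![y 0 * x 1, 0] := by
    ext i; fin_cases i <;> simp [dt, mul_comm]
  conv_lhs => rw [hx, hy]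
  simp only [map_add, AddMonoidHom.add_apply, k1, k2, zero_add, add_zero]
  rw [hskew ![0, x 1], k3 (x 0), k3 (y 0), hd, map_sub, AddMonoidHom.sub_apply]
  abel

end CfsgLib.LocalEven.Baumann.ThreeSL
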