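import Cfsg.Agent.Lib.LocalEven.Baumann.Basic
import Cfsg.Agent.Lib.LocalEven.NaturalModule

/-!
The two shapes of a Baumann block, with the action on their sections as matrices or permutations.
-/

set_option autoImplicit false
set_option linter.unusedSectionVars false

namespace CfsgLib.LocalEven.Baumann

open Subgroup CfsgLib.LocalEven

variable {G : Type*} [Group G] {p : ℕ}

/-- `E` acts on `U / U₀` as `SL₂(F)'` on the natural module, with kernel inside `O_p(E)`. -/
structure NatSec (p : ℕ) (E U U₀ : Subgroup G) (F : Type) [Field F] where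
  S : Sec U U₀ (Fin 2 → F)
  norm : E ≤ S.nrm
  rho : ↥E →* Matrix.SpecialLinearGroup (Fin 2) F
  range : rho.range = commutator (Matrix.SpecialLinearGroup (Fin 2) F)
  act_rho : ∀ e : ↥E, S.act (e : G) = mv (rho e).1
  ker : ∀ e : ↥E, rho e = 1 → (e : G) ∈ QE p E
  qe_ker : ∀ e : ↥E, (e : G) ∈ QE p E → rho e = 1

/-- `E` acts on `U / U₀` as an alternating group on its even-weight module. -/
structure AltSec (p : ℕ) (E U U₀ : Subgroup G) (m : ℕ) where
  S : Sec U U₀ (evn (2 * m + 1))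
  norm : E ≤ S.nrm
  rho : ↥E →* Equiv.Perm (Fin (2 * m + 1))
  range : rho.range = alternatingGroup (Fin (2 * m + 1))
  act_rho : ∀ e : ↥E, S.act (e : G) = pa (rho e)
  ker : ∀ e : ↥E, rho e = 1 → (e : G) ∈ QE p E
  qe_ker : ∀ e : ↥E, (e : G) ∈ QE p E → rho e = 1

/-- The exceptional structure of a block over `F`. -/
def IsExc (p : ℕ) (T E : Subgroup G) (F : Type) [Field F] : Prop :=
  p = 3 ∧ Nonempty (NatSec p E (QE p E) (WW p E) F) ∧ ⁅QE p E, QE p E⁆ = ZZ p E ∧
    E ⊓ centralizer (E : Set G) = ZZ p E ∧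
    ∀ b : G, b ∈ Cfsg.baumannSubgroupOf p T → b ∉ centralizer (WW p E : Set G) →
      ¬ ⁅⁅QE p E, zpowers b⁆, zpowers b⁆ ≤ E ⊓ centralizer (E : Set G)

/-- The linear shape. -/
def IsLinShape (p : ℕ) (T E : Subgroup G) : Prop :=
  ∃ (F : Type) (_ : Field F) (_ : Fintype F) (n : ℕ), 0 < n ∧ Fintype.card F = p ^ n ∧
    Nonempty (NatSec p E (WW p E) (ZZ p E) F) ∧ (QE p E = WW p E ∨ IsExc p T E F)

/-- The symmetric shape of degree at least five. -/
def IsAltShape (p : ℕ) (E : Subgroup G) : Prop :=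
  p = 2 ∧ ∃ m : ℕ, 2 ≤ m ∧ Nonempty (AltSec p E (WW p E) (ZZ p E) m) ∧ QE p E = WW p E

variable [Finite G] [Fact p.Prime]

theorem qe_ker_of_count {E : Subgroup G} {H : Type} [Group H] (R : Subgroup H) (ρ : ↥E →* H)
    (hρ : ρ.range = R) (eq : Nonempty (↥E ⧸ Cfsg.pCore p ↥E ≃* ↥R))
    (hle : ∀ e : ↥E, (e : G) ∈ QE p E → ρ e = 1) : ∀ e : ↥E, ρ e = 1 → (e : G) ∈ QE p E := by
  obtain ⟨eq⟩ := eq
  intro e he
  have h1 : ρ.ker.index = (Cfsg.pCore p ↥E).index := by
    rw [index_ker, hρ, index_eq_card]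
    exact (Nat.card_congr eq.toEquiv).symm
  have hle' : Cfsg.pCore p ↥E ≤ ρ.ker := fun x hx => hle x ⟨x, hx, rfl⟩
  have h2 : Cfsg.pCore p ↥E = ρ.ker := by
    refine eq_of_le_of_card_ge hle' ?_
    have a := (Cfsg.pCore p ↥E).card_mul_index
    have b := ρ.ker.card_mul_index
    rw [h1] at b
    exact (Nat.eq_of_mul_eq_mul_right (Nat.pos_of_ne_zero index_ne_zero_of_finite) (b.trans a.symm)).le
  exact ⟨e, h2 ▸ he, rfl⟩

/-- From the definition of the natural action, when `O_p(E)` acts trivially on the section. -/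
theorem exists_natSec {F : Type} [Field F] {E U U₀ : Subgroup G}
    (h : Cfsg.ActsAsSL2OnSection F (commutator (Matrix.SpecialLinearGroup (Fin 2) F)) E U U₀)
    (hn : E ≤ normalizer (U₀ : Set G))
    (eq : Nonempty (↥E ⧸ Cfsg.pCore p ↥E ≃* ↥(commutator (Matrix.SpecialLinearGroup (Fin 2) F))))
    (htriv : ∀ q ∈ QE p E, ∀ u ∈ U, q * u * q⁻¹ * u⁻¹ ∈ U₀) : Nonempty (NatSec p E U U₀ F) := by
  obtain ⟨hEU, hle, ρ, ψ, hρ, hψ, hψker, hact⟩ := h
  let S := Sec.ofHom U U₀ hle ψ hψ hψker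
  have hnorm : E ≤ S.nrm := fun e he => ⟨hEU he, hn he⟩
  have hactρ : ∀ e : ↥E, S.act (e : G) = mv (ρ e).1 := fun e => S.ext_f fun u hu => by
    rw [S.act_f (hnorm e.2) hu]
    obtain ⟨w, hw, hw'⟩ := hact e ⟨u, hu⟩
    show Sec.f _ _ = _
    rw [← hw, Sec.f_ofHom hle ψ hψ hψker w.2, Subtype.coe_eta, hw', Sec.f_ofHom hle ψ hψ hψker hu]
    rfl
  have hqk : ∀ e : ↥E, (e : G) ∈ QE p E → ρ e = 1 := fun e he => Subtype.ext (mv_injective (by
    rw [← hactρ, (S.act_eq_one_iff (hnorm e.2)).2 fun u hu => htriv _ he u hu]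
    exact mv_one.symm))
  exact ⟨⟨S, hnorm, ρ, hρ, hactρ, qe_ker_of_count _ ρ hρ eq hqk, hqk⟩⟩

theorem exists_altSec {m : ℕ} {E U U₀ : Subgroup G}
    (h : Cfsg.ActsAsOddPermModuleOnSection (2 * m + 1) (alternatingGroup (Fin (2 * m + 1))) E U U₀)
    (hn : E ≤ normalizer (U₀ : Set G))
    (eq : Nonempty (↥E ⧸ Cfsg.pCore p ↥E ≃* ↥(alternatingGroup (Fin (2 * m + 1)))))
    (htriv : ∀ q ∈ QE p E, ∀ u ∈ U, q * u * q⁻¹ * u⁻¹ ∈ U₀) : Nonempty (AltSec p E U U₀ m) := by
  obtain ⟨hEU, hle, ρ, ψ, hρ, heven, hψ, hψker, hact⟩ := h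
  let ψ' : ↥U →* Multiplicative (evn (2 * m + 1)) :=
    { toFun := fun u => Multiplicative.ofAdd ⟨Multiplicative.toAdd (ψ u), heven u⟩
      map_one' := by rw [← ofAdd_zero]; congr 1; apply Subtype.ext; simp
      map_mul' := fun u v => by rw [← ofAdd_add]; congr 1; apply Subtype.ext; simp }
  have hs : Function.Surjective ψ' := fun v => by
    obtain ⟨u, hu⟩ := hψ (Multiplicative.toAdd v : evn (2 * m + 1)).1 (Multiplicative.toAdd v).2
    exact ⟨u, Multiplicative.toAdd.injective (Subtype.ext hu)⟩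
  have hk : ∀ u : ↥U, ψ' u = 1 ↔ (u : G) ∈ U₀ := fun u => by
    rw [← hψker u]
    constructor
    · intro h; exact Multiplicative.toAdd.injective (congrArg Subtype.val (congrArg Multiplicative.toAdd h))
    · intro h; exact Multiplicative.toAdd.injective (Subtype.ext (congrArg Multiplicative.toAdd h))
  let S := Sec.ofHom U U₀ hle ψ' hs hk
  have hnorm : E ≤ S.nrm := fun e he => ⟨hEU he, hn he⟩
  have hactρ : ∀ e : ↥E, S.act (e : G) = pa (ρ e) := fun e => S.ext_f fun u hu => by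
    rw [S.act_f (hnorm e.2) hu]
    obtain ⟨w, hw, hw'⟩ := hact e ⟨u, hu⟩
    apply Subtype.ext
    funext i
    show ((Sec.f _ _ : evn (2 * m + 1)) : _ → ZMod 2) i = _
    rw [← hw, Sec.f_ofHom hle ψ' hs hk w.2, Subtype.coe_eta, Sec.f_ofHom hle ψ' hs hk hu, pa_apply]
    exact hw' i
  have hpa : ∀ σ : Equiv.Perm (Fin (2 * m + 1)), pa σ = 1 → σ = 1 := fun σ hσ => Equiv.ext fun i => by
    have h1 := DFunLike.congr_fun hσ (fPt i)
    rw [pa_fPt] at h1
    change fPt (σ i) = fPt i at h1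
    by_contra hne
    have := congrArg (fun v : evn (2 * m + 1) => (v : Fin (2 * m + 1) → ZMod 2) (σ i)) h1
    simp [fPt_apply, show σ i ≠ i from hne] at this
  have hqk : ∀ e : ↥E, (e : G) ∈ QE p E → ρ e = 1 := fun e he => hpa _ (by
    rw [← hactρ, (S.act_eq_one_iff (hnorm e.2)).2 fun u hu => htriv _ he u hu])
  exact ⟨⟨S, hnorm, ρ, hρ, hactρ, qe_ker_of_count _ ρ hρ eq hqk, hqk⟩⟩

/-- A symmetric block of degree three is linear over the field with two elements. -/
theorem natSec_of_altSec_one {E U U₀ : Subgroup G} (D : AltSec p E U U₀ 1) :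
    Nonempty (NatSec p E U U₀ (ZMod 2)) := by
  let θ : evn (2 * 1 + 1) ≃+ (Fin 2 → ZMod 2) :=
    { toFun := fun v => ![v.1 0, v.1 1]
      invFun := fun w => ⟨![w 0, w 1, w 0 + w 1], by
        show ∑ i, (![w 0, w 1, w 0 + w 1] : Fin 3 → ZMod 2) i = 0
        rw [Fin.sum_univ_three]; simp [CharTwo.add_self_eq_zero]⟩
      left_inv := fun v => Subtype.ext (funext fun i => by
        have h : (v.1 0 + v.1 1) + v.1 2 = 0 := by
          have := v.2; simpa [evn, Fin.sum_univ_three] using this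
        fin_cases i <;> simp
        exact (CharTwo.add_eq_zero.1 h))
      right_inv := fun w => by ext i; fin_cases i <;> simp
      map_add' := fun v w => by ext i; fin_cases i <;> simp }
  let S : Sec U U₀ (Fin 2 → ZMod 2) :=
    { f := fun g => θ (D.S.f g)
      map_mul := fun u hu v hv => by rw [D.S.map_mul u hu v hv, map_add]
      surj := fun x => by
        obtain ⟨u, hu, h⟩ := D.S.surj (θ.symm x); exact ⟨u, hu, by rw [h, θ.apply_symm_apply]⟩
      ker := fun u hu => by rw [EmbeddingLike.map_eq_zero_iff, D.S.ker u hu]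
      le := D.S.le }
  have hnorm : E ≤ S.nrm := D.norm
  have hprime : (Nat.card (ZMod 2)).Prime := by rw [Nat.card_zmod]; norm_num
  have hM : ∀ e : ↥E, ∃ g : Matrix.SpecialLinearGroup (Fin 2) (ZMod 2), S.act (e : G) = mv g.1 := fun e => by
    obtain ⟨M, hM⟩ := (isLin_of_prime hprime (S.act (e : G))).exists_matrix
    refine ⟨⟨M, ?_⟩, hM⟩
    by_contra hd
    have h01 : ∀ z : ZMod 2, z ≠ 1 → z = 0 := by decide
    obtain ⟨w, hw, hw0⟩ := Matrix.exists_mulVec_eq_zero_iff.2 (h01 _ hd)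
    exact hw (S.act_injective_apply (hnorm e.2) (by rw [hM, map_zero]; exact hw0))
  choose g hg using hM
  let ρ : ↥E →* Matrix.SpecialLinearGroup (Fin 2) (ZMod 2) :=
    { toFun := g
      map_one' := Subtype.ext (mv_injective (by
        rw [← hg, OneMemClass.coe_one, S.act_one]; exact mv_one.symm))
      map_mul' := fun a b => Subtype.ext (mv_injective (by
        rw [← hg, Subgroup.coe_mul, S.act_mul (hnorm a.2) (hnorm b.2), hg, hg, ← mv_mul]; rfl)) }
  have hone : ∀ e : ↥E, ρ e = 1 ↔ D.rho e = 1 := fun e => by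
    have h1 : ρ e = 1 ↔ ∀ u ∈ U, (e : G) * u * (e : G)⁻¹ * u⁻¹ ∈ U₀ := by
      rw [← S.act_eq_one_iff (hnorm e.2), show S.act (e : G) = mv (ρ e).1 from hg e, ← mv_one]
      exact ⟨fun h => by rw [h]; rfl, fun h => Subtype.ext (mv_injective h)⟩
    rw [h1, ← D.S.act_eq_one_iff (D.norm e.2), D.act_rho]
    constructor
    · intro h
      refine Equiv.ext fun i => ?_
      have h2 := DFunLike.congr_fun h (fPt i)
      rw [pa_fPt] at h2
      change fPt (D.rho e i) = fPt i at h2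
      by_contra hne
      have := congrArg (fun v : evn (2 * 1 + 1) => (v : Fin (2 * 1 + 1) → ZMod 2) (D.rho e i)) h2
      simp [fPt_apply, show D.rho e i ≠ i from hne] at this
    · intro h; rw [h]; rfl
  have hk : ρ.ker = D.rho.ker := Subgroup.ext hone
  have hcard : Nat.card ρ.range = 3 := by
    rw [← index_ker, hk, index_ker, D.range]
    have := two_mul_card_alternatingGroup (α := Fin (2 * 1 + 1))
    rw [Fintype.card_perm, Fintype.card_fin, show (2 * 1 + 1 : ℕ).factorial = 6 from rfl] at this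
    rw [Nat.card_eq_fintype_card]; omega
  have hSL : Nat.card (Matrix.SpecialLinearGroup (Fin 2) (ZMod 2)) = 6 := by
    rw [CfsgLib.Classical.card_SL_two, Nat.card_zmod]; norm_num
  have hidx : ρ.range.index = 2 := by
    have := ρ.range.card_mul_index
    rw [hcard, hSL] at this; omega
  have hrange : ρ.range = commutator (Matrix.SpecialLinearGroup (Fin 2) (ZMod 2)) := by
    refine le_antisymm ?_ ?_
    · rintro _ ⟨e, rfl⟩
      refine mem_commutator_of_coprime (p := 2) ?_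
      have : orderOf (ρ e) ∣ 3 := by
        rw [← hcard, show orderOf (ρ e) = orderOf (⟨ρ e, e, rfl⟩ : ρ.range) from (Subgroup.orderOf_coe (⟨ρ e, e, rfl⟩ : ρ.range))]; exact orderOf_dvd_natCard _
      exact Nat.Coprime.coprime_dvd_left this (by norm_num)
    · haveI := Subgroup.normal_of_index_eq_two hidx
      haveI : IsCyclic (Matrix.SpecialLinearGroup (Fin 2) (ZMod 2) ⧸ ρ.range) :=
        haveI : Fact (Nat.Prime 2) := ⟨Nat.prime_two⟩
        isCyclic_of_prime_card (p := 2) hidx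
      exact (Subgroup.Normal.quotient_commutative_iff_commutator_le).1 inferInstance
  exact ⟨⟨S, hnorm, ρ, hrange, hg, fun e he => D.ker e ((hone e).1 he),
    fun e he => (hone e).2 (D.qe_ker e he)⟩⟩

/-- Every block has one of the two shapes. -/
theorem shape (hG : centralizer (Cfsg.pCore p G : Set G) ≤ Cfsg.pCore p G) {T : Sylow p G} {E : Subgroup G}
    (hE : Cfsg.IsBaumannBlock p (T : Subgroup G) E) : IsLinShape p (T : Subgroup G) E ∨ IsAltShape p E := by
  have hQW : ∀ q ∈ QE p E, ∀ u ∈ WW p E, q * u * q⁻¹ * u⁻¹ ∈ ZZ p E := fun q hq u hu => by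
    rw [← ww_commute hu hq, mul_inv_cancel_right, mul_inv_cancel]; exact one_mem _
  have hnZ : E ≤ normalizer (ZZ p E : Set G) := fun e he => mem_normalizer_ZZ (le_normalizer he)
  rcases hE.2.2.2.2 with ⟨F, fF, fin, n, hcard, eq, hact, hQ⟩ | ⟨hp2, m, eq, hact, hQ⟩
  · letI := fF; letI := fin
    have hn : 0 < n := by
      rcases Nat.eq_zero_or_pos n with rfl | h
      · rw [pow_zero] at hcard
        exact absurd hcard (by have := Fintype.one_lt_card (α := F); omega)
      · exact h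
    refine Or.inl ⟨F, fF, fin, n, hn, hcard, exists_natSec hact hnZ eq hQW, ?_⟩
    rcases hQ with hQ | ⟨hp3, htop, hcomm, -, hcen, -, hquad⟩
    · exact Or.inl hQ
    · refine Or.inr ⟨hp3, exists_natSec htop (fun e he => mem_normalizer_WW (le_normalizer he)) eq ?_,
        hcomm, hcen, hquad⟩
      intro q hq u hu
      exact zz_le_ww E (hcomm.le (by rw [← commutatorElement_def]; exact commutator_mem_commutator hq hu))
  · subst hp2
    obtain ⟨D⟩ := exists_altSec hact hnZ eq hQW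
    match m, D with
    | 0, D =>
      exfalso
      obtain ⟨e, he, hne⟩ := exists_not_mem_QE hG hE
      exact hne (D.ker ⟨e, he⟩ (Equiv.ext fun i => Fin.ext (by omega)))
    | 1, D =>
      exact Or.inl ⟨ZMod 2, inferInstance, inferInstance, 1, one_pos, by simp, natSec_of_altSec_one D, Or.inl hQ⟩
    | k + 2, D => exact Or.inr ⟨rfl, k + 2, by omega, ⟨D⟩, hQ⟩

end CfsgLib.LocalEven.Baumann
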