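import Cfsg.Agent.Lib.LocalEven.Baumann.Tools

/-!
Subnormal blocks with `E / O_p(E)` of order three or eight: coprime action on `V = Ω₁(Z(O_p(G)))`.
-/

set_option autoImplicit false
set_option linter.unusedSectionVars false

namespace CfsgLib.LocalEven.Baumann

open Subgroup CfsgLib.LocalEven
open scoped commutatorElement

variable {G : Type*} [Group G] [Finite G] {p : ℕ} [Fact p.Prime]

theorem vv_commute {x y : G} (hx : x ∈ VV p G) (hy : y ∈ OO p G) : x * y = y * x :=
  commute_omegaOneCenter hx hy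

instance vv_isMulCommutative : IsMulCommutative (VV p G) :=
  ⟨⟨fun a b => Subtype.ext (vv_commute a.2 (omegaOneCenter_le _ b.2))⟩⟩

theorem vv_pow {x : G} (hx : x ∈ VV p G) : x ^ p = 1 := (mem_omegaOneCenter_iff.1 hx).2.2

theorem IsSmall.three_le {T E : Subgroup G} {F : Type} [Field F] [Fintype F] (hq : Nat.card F = p)
    (h : IsExc p T E F) : Nat.card F = 3 := hq.trans h.1

variable {T : Sylow p G} {E : Subgroup G}
variable (hG : centralizer (Cfsg.pCore p G : Set G) ≤ Cfsg.pCore p G)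
  (hE : Cfsg.IsBaumannBlock p (T : Subgroup G) E) (hEs : E.IsSubnormal)

/-- A natural section counts `E / O_p(E)`. -/
theorem NatSec.card_mul {E U U₀ : Subgroup G} {F : Type} [Field F] (D : NatSec p E U U₀ F) :
    Nat.card (commutator (Matrix.SpecialLinearGroup (Fin 2) F)) * Nat.card (QE p E) = Nat.card E := by
  have hker : D.rho.ker = (QE p E).subgroupOf E := Subgroup.ext fun e =>
    ⟨fun h => D.ker e h, fun h => D.qe_ker e h⟩
  rw [← D.range, ← index_ker, hker, ← Nat.card_congr (subgroupOfEquivOfLe (pCoreOf_le p E)).toEquiv, mul_comm]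
  exact card_mul_index _

include hG hE hEs

/-- The index of `O_p(E)` in a small block is a power of the other prime. -/
theorem small_prime (hS : IsSmall p (T : Subgroup G) E) : ∃ r k : ℕ, r.Prime ∧ r ≠ p ∧ 0 < k ∧
    (r = if p = 2 then 3 else 2) ∧ 2 < r ^ k ∧ r ^ k * Nat.card (QE p E) = Nat.card E := by
  obtain ⟨F, _, _, hq, hR, ⟨D⟩, -⟩ := hS
  rcases hR with ⟨rfl, hR⟩ | ⟨rfl, hR⟩
  · exact ⟨3, 1, by norm_num, by norm_num, by norm_num, by simp, by norm_num, by rw [← D.card_mul, hR, pow_one]⟩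
  · exact ⟨2, 3, by norm_num, by norm_num, by norm_num, by simp, by norm_num, by rw [← D.card_mul, hR]; norm_num⟩

/-- A small block is `O_p(E)` times a group of order prime to `p`. -/
theorem small_complement (hS : IsSmall p (T : Subgroup G) E) : ∃ A : Subgroup G, A ≤ E ∧
    (Nat.card A).Coprime (Nat.card (VV p G)) ∧ Group.IsSolvable A ∧
    ∀ e ∈ E, ∃ a ∈ A, ∃ q ∈ QE p E, a * q = e := by
  obtain ⟨r, k, hr, hrp, -, -, -, hcard⟩ := small_prime hG hE hEs hS
  haveI : Fact r.Prime := ⟨hr⟩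
  let P : Sylow r E := default
  set A := (P : Subgroup E).map E.subtype with hA
  have hAE : A ≤ E := map_subtype_le _
  obtain ⟨a, ha⟩ := IsPGroup.iff_card.1 P.2
  have hAc : Nat.card A = r ^ a := by
    rw [hA, card_map_of_injective E.subtype_injective, ha]
  refine ⟨A, hAE, ?_, ?_, ?_⟩
  · obtain ⟨b, hb⟩ := IsPGroup.iff_card.1 (isPGroup_VV (G := G) (p := p))
    rw [hAc, hb]
    exact ((Nat.coprime_primes hr Fact.out).2 hrp).pow _ _
  · have hP : IsPGroup r A := P.2.map _
    haveI := hP.isNilpotent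
    infer_instance
  · intro e he
    haveI : ((QE p E).subgroupOf E).Normal :=
      (normal_subgroupOf_iff_le_normalizer (pCoreOf_le p E)).2 (le_normalizer_pCoreOf p E)
    have htop : (P : Subgroup E) ⊔ (QE p E).subgroupOf E = ⊤ := by
      rw [← index_eq_one]
      have h1 : ((P : Subgroup E) ⊔ (QE p E).subgroupOf E).index ∣ (P : Subgroup E).index :=
        index_dvd_of_le le_sup_left
      have h2 : ((P : Subgroup E) ⊔ (QE p E).subgroupOf E).index ∣ r ^ k := by
        refine (index_dvd_of_le le_sup_right).trans (dvd_of_eq ?_)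
        refine Nat.eq_of_mul_eq_mul_right (Nat.card_pos (α := (QE p E).subgroupOf E)) ?_
        rw [mul_comm, card_mul_index, Nat.card_congr (subgroupOfEquivOfLe (pCoreOf_le p E)).toEquiv, hcard]
      exact Nat.eq_one_of_dvd_coprimes
        (((Nat.Prime.coprime_iff_not_dvd hr).2 P.not_dvd_index).pow_left k) h2 h1
    have := htop ▸ mem_top (⟨e, he⟩ : E)
    rw [← SetLike.mem_coe, mul_normal] at this
    obtain ⟨x, hx, y, hy, hxy⟩ := Set.mem_mul.1 this
    exact ⟨x, ⟨x, hx, rfl⟩, y, hy, congrArg Subtype.val hxy⟩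

theorem qe_fix_vv {q v : G} (hq : q ∈ QE p E) (hv : v ∈ VV p G) : q * v = v * q :=
  (vv_commute hv (qe_le_oo hEs hq)).symm

/-- In a small block `V = C_V(E) W_E`, directly. -/
theorem small_decomp (hS : IsSmall p (T : Subgroup G) E) : WE p E ⊓ centralizer (E : Set G) = ⊥ ∧
    ∀ v ∈ VV p G, ∃ c ∈ VV p G, c ∈ centralizer (E : Set G) ∧ c⁻¹ * v ∈ WE p E := by
  obtain ⟨A, hAE, hcop, hsol, hdec⟩ := small_complement hG hE hEs hS
  haveI := vv_normal (G := G) (p := p)
  have hAn : A ≤ normalizer (VV p G : Set G) := fun g _ => mem_normalizer_of_normal g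
  have hC : ∀ c ∈ VV p G, c ∈ centralizer (A : Set G) → c ∈ centralizer (E : Set G) := fun c hc hA => by
    rw [mem_centralizer_iff]
    intro e he
    obtain ⟨a, ha, q, hq, rfl⟩ := hdec e he
    rw [mul_assoc, qe_fix_vv hG hE hEs hq hc, ← mul_assoc, mem_centralizer_iff.1 hA a ha, mul_assoc]
  have hcomm : ⁅VV p G, A⁆ ≤ WE p E := commutator_le.2 fun v hv a ha => by
    rw [commutatorElement_def]; exact vv_commutator_mem hG hE hv (hAE ha)
  have hle : WE p E ≤ ⁅VV p G, A⁆ := by
    rw [← we_commutator hG hE, commutator_le]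
    intro w hw e he
    obtain ⟨a, ha, q, hq, rfl⟩ := hdec e he
    have hwV := we_le_vv hG hE hw
    have h1 : ⁅w, a * q⁆ = ⁅w, a⁆ := by
      have hq' : q * w⁻¹ = w⁻¹ * q := qe_fix_vv hG hE hEs hq (inv_mem hwV)
      simp only [commutatorElement_def]
      calc w * (a * q) * w⁻¹ * (a * q)⁻¹ = w * a * (q * w⁻¹) * q⁻¹ * a⁻¹ := by group
        _ = _ := by rw [hq']; group
    rw [h1]
    exact commutator_mem_commutator hwV ha
  constructor
  · rw [eq_bot_iff]
    intro x hx
    have h := CfsgLib.Coprime.centralizer_inf_commutator_eq_bot hAn hcop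
    rw [← h]
    exact ⟨⟨we_le_vv hG hE hx.1, centralizer_le hAE hx.2⟩, hle hx.1⟩
  · intro v hv
    obtain ⟨c, hc, hcv⟩ := CfsgLib.Coprime.exists_commutator_mul_centralizer hAn hcop (Or.inl hsol) hv
    refine ⟨c, hc.1, hC c hc.1 hc.2, ?_⟩
    rw [show c⁻¹ * v = v * c⁻¹ from vv_commute (inv_mem hc.1) (omegaOneCenter_le _ hv)]
    exact hcomm hcv

/-- `|W_E| = p ^ 2` for a small block, and `W_E` maps onto `W / Z`. -/
theorem small_card_we (hS : IsSmall p (T : Subgroup G) E) : Nat.card (WE p E) = p ^ 2 := by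
  have hZ : WE p E ⊓ ZZ p E = ⊥ := by
    rw [eq_bot_iff, ← (small_decomp hG hE hEs hS).1]
    exact fun x hx => ⟨hx.1, hx.2.2⟩
  obtain ⟨F, _, _, hq, -, ⟨D⟩, -⟩ := hS
  have hle := we_le_ww (p := p) E
  let φ : WE p E → (Fin 2 → F) := fun x => D.S.f x
  have hbij : Function.Bijective φ := by
    refine ⟨fun x y h => Subtype.ext (mul_inv_eq_one.1 ?_), fun v => ?_⟩
    · rw [← Subgroup.mem_bot, ← hZ]
      exact Subgroup.mem_inf.2 ⟨mul_mem x.2 (inv_mem y.2), (D.S.f_eq_iff (hle x.2) (hle y.2)).1 h⟩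
    · obtain ⟨w, hw, rfl⟩ := D.S.surj v
      have hnorm : WE p E ≤ normalizer (ZZ p E : Set G) := fun x hx => mem_normalizer_ZZ (le_normalizer (we_le_self E hx))
      rw [ww_eq_sup hG hE, sup_comm, ← SetLike.mem_coe, coe_mul_of_right_le_normalizer_left (ZZ p E) (WE p E) hnorm] at hw
      obtain ⟨z, hz, u, hu, rfl⟩ := Set.mem_mul.1 hw
      exact ⟨⟨u, hu⟩, (D.S.f_mul_left (hle hu) hz).symm⟩
  rw [Nat.card_congr (Equiv.ofBijective φ hbij), Nat.card_fun, Nat.card_fin, hq]

/-- A small block is not perfect. -/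
theorem not_perfect_of_small (hS : IsSmall p (T : Subgroup G) E) : ¬ E ≤ ⁅E, E⁆ := by
  intro h
  obtain ⟨e, he, hne⟩ := exists_not_mem_QE hG hE
  obtain ⟨A, hAE, -, hsol, hdec⟩ := small_complement hG hE hEs hS
  -- `E / O_p(E)` is an image of the solvable group `A`
  haveI : ((QE p E).subgroupOf E).Normal :=
    (normal_subgroupOf_iff_le_normalizer (pCoreOf_le p E)).2 (le_normalizer_pCoreOf p E)
  let f : ↥A →* ↥E ⧸ (QE p E).subgroupOf E := (QuotientGroup.mk' _).comp (inclusion hAE)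
  have hf : Function.Surjective f := fun y => by
    obtain ⟨⟨x, hx⟩, rfl⟩ := QuotientGroup.mk_surjective y
    obtain ⟨a, ha, q, hq, rfl⟩ := hdec x hx
    refine ⟨⟨a, ha⟩, ?_⟩
    rw [MonoidHom.comp_apply, QuotientGroup.mk'_apply, QuotientGroup.eq, mem_subgroupOf]
    simpa using hq
  haveI := hsol
  haveI hs : Group.IsSolvable (↥E ⧸ (QE p E).subgroupOf E) := Group.isSolvable_of_surjective hf
  haveI : Nontrivial (↥E ⧸ (QE p E).subgroupOf E) :=
    ⟨⟨QuotientGroup.mk ⟨e, he⟩, 1, fun h1 => hne (mem_subgroupOf.1 ((QuotientGroup.eq_one_iff _).1 h1))⟩⟩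
  refine (hs.commutator_lt_top_of_nontrivial _).ne (eq_top_iff.2 ?_)
  rintro y -
  obtain ⟨⟨x, hx⟩, rfl⟩ := QuotientGroup.mk_surjective y
  have hx' : x ∈ (commutator ↥E).map E.subtype := by
    rw [commutator_def, map_commutator, ← MonoidHom.range_eq_map, range_subtype]
    exact h hx
  obtain ⟨z, hz, rfl⟩ := hx'
  have := mem_map_of_mem (QuotientGroup.mk' ((QE p E).subgroupOf E)) hz
  rw [commutator_def, map_commutator, map_top_of_surjective _ (QuotientGroup.mk'_surjective _), ← commutator_def] at this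
  exact this

end CfsgLib.LocalEven.Baumann
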