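import Cfsg.Agent.Lib.LocalEven.Baumann.Lift

/-!
A subnormal block is normal in `B(G)` and is a block for every Sylow subgroup.
-/

set_option autoImplicit false
set_option linter.unusedSectionVars false

namespace CfsgLib.LocalEven.Baumann

open Subgroup CfsgLib.LocalEven CfsgLib.PLocal
open scoped commutatorElement

variable {G : Type*} [Group G] [Finite G] {p : ℕ} [Fact p.Prime]

omit [Fact p.Prime] in
theorem thompson_le_baumann (T : Subgroup G) :
    Cfsg.thompsonSubgroupOf p T ≤ Cfsg.baumannSubgroupOf p T := by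
  refine le_inf (thompsonSubgroupOf_le p _) ?_
  rw [Subgroup.le_centralizer_iff]
  exact (omegaOne_le p _).trans inf_le_right

theorem baumannSubgroup_normal : (Cfsg.baumannSubgroup p G).Normal := by
  rw [← normalizer_eq_top_iff, eq_top_iff]
  refine fun g _ => mem_normalizer_of_conj (eq_of_le_of_card_ge ?_
    (Nat.card_congr (equivMapOfInjective _ _ (MulAut.conj g).injective).toEquiv).le)
  rw [Cfsg.baumannSubgroup, Subgroup.map_iSup]
  refine iSup_le fun T => ?_
  rw [map_baumann, CfsgLib.Base.map_conj_eq_smul, ← Sylow.coe_subgroup_smul]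
  exact le_iSup (fun T : Sylow p G => Cfsg.baumannSubgroupOf p (T : Subgroup G)) _

/-- Two Sylow subgroups each containing the Baumann subgroup of the other have the same. -/
theorem baumann_eq_of_le (T₁ T₂ : Sylow p G)
    (h₁ : Cfsg.baumannSubgroupOf p (T₁ : Subgroup G) ≤ (T₂ : Subgroup G))
    (h₂ : Cfsg.baumannSubgroupOf p (T₂ : Subgroup G) ≤ (T₁ : Subgroup G)) :
    Cfsg.baumannSubgroupOf p (T₁ : Subgroup G) = Cfsg.baumannSubgroupOf p (T₂ : Subgroup G) := by
  have key : ∀ S₁ S₂ : Sylow p G, Cfsg.baumannSubgroupOf p (S₁ : Subgroup G) ≤ (S₂ : Subgroup G) →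
      Cfsg.thompsonSubgroupOf p (S₁ : Subgroup G) ≤ Cfsg.thompsonSubgroupOf p (S₂ : Subgroup G) := by
    intro S₁ S₂ hle
    rw [thompsonSubgroupOf_eq_sSup p (S₁ : Subgroup G)]
    exact sSup_le fun A hA => le_thompsonSubgroupOf ⟨((le_thompsonSubgroupOf hA).trans (thompson_le_baumann _)).trans hle,
      hA.2.1, fun C _ hCe => (mem_max_of_mem_maxEAOf_sylow S₁ hA).2 C hCe⟩
  have hJ := le_antisymm (key T₁ T₂ h₁) (key T₂ T₁ h₂)
  have hC : Cfsg.centerThompsonOf p (T₁ : Subgroup G) = Cfsg.centerThompsonOf p (T₂ : Subgroup G) := by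
    rw [Cfsg.centerThompsonOf, Cfsg.centerThompsonOf, hJ]
  refine le_antisymm (le_inf h₁ ?_) (le_inf h₂ ?_)
  · rw [← hC]; exact inf_le_right
  · rw [hC]; exact inf_le_right

variable {T₀ : Sylow p G} {E : Subgroup G}
variable (hG : centralizer (Cfsg.pCore p G : Set G) ≤ Cfsg.pCore p G)
  (hE : Cfsg.IsBaumannBlock p (T₀ : Subgroup G) E) (hEs : E.IsSubnormal)
include hG hE hEs

/-- The lifted fixed element of `J(T)` lies in `Ω₁(Z(J(T)))`. -/
theorem mem_omega_center_thompson {y : G} (T : Sylow p G) (hy : y ∈ WE p E)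
    (hfix : ∀ g ∈ Cfsg.thompsonSubgroupOf p (T : Subgroup G), g * y = y * g) :
    y ∈ Cfsg.omegaOne p (Cfsg.centerThompsonOf p (T : Subgroup G)) := by
  have hyp : y ^ p = 1 := vv_pow (we_le_vv hG hE hy)
  have hyT : y ∈ (T : Subgroup G) :=
    CfsgLib.Base.pCore_le_sylow T (omegaOneCenter_le _ (we_le_vv hG hE hy))
  obtain ⟨A, hA⟩ := maxEAOf_nonempty p (T : Subgroup G)
  refine mem_omegaOne (Subgroup.mem_inf.2 ⟨le_thompsonSubgroupOf hA ?_, mem_centralizer_iff.2 hfix⟩) hyp
  exact mem_of_max_of_commute hA hyT hyp fun a ha => hfix a (le_thompsonSubgroupOf hA ha)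

/-- `B(T)` normalizes a subnormal block, for every Sylow subgroup `T`. -/
theorem baumannOf_le_normalizer (T : Sylow p G) :
    Cfsg.baumannSubgroupOf p (T : Subgroup G) ≤ normalizer (E : Set G) := by
  intro b hb
  rw [mem_normalizer_iff_map_conj_eq]
  by_contra hne
  obtain ⟨y, hy, hyE, hfix⟩ := exists_lift hG hE hEs (Cfsg.thompsonSubgroupOf p (T : Subgroup G))
    (T.2.to_le (thompsonSubgroupOf_le p _)) (thompson_le_normalizer hG hE hEs T)
  have h1 := mem_centralizer_iff.1 hb.2 y (mem_omega_center_thompson hG hE hEs T hy hfix)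
  have h1E : E.map (MulAut.conj (1 : G)).toMonoidHom = E := by ext x; simp
  have hc := conj_commute hG hE hEs b 1 (fun h => hne (h.trans h1E))
  rw [h1E] at hc
  refine hyE (hc ⟨y, we_le_self E hy, ?_⟩)
  show b * y * b⁻¹ = y
  rw [← h1, mul_inv_cancel_right]

/-- `B(G)` normalizes a subnormal block. -/
theorem baumann_le_normalizer_all : Cfsg.baumannSubgroup p G ≤ normalizer (E : Set G) :=
  iSup_le fun T => baumannOf_le_normalizer hG hE hEs T

omit hEs hG in
/-- A block lies in `B(G)`. -/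
theorem le_baumannSubgroup : E ≤ Cfsg.baumannSubgroup p G := by
  haveI := baumannSubgroup_normal (G := G) (p := p)
  conv_lhs => rw [← hE.2.1]
  rw [commutator_le]
  intro e _ b hb
  have hb' : b ∈ Cfsg.baumannSubgroup p G :=
    le_iSup (fun T : Sylow p G => Cfsg.baumannSubgroupOf p (T : Subgroup G)) T₀ hb
  rw [commutatorElement_def]
  exact mul_mem (‹(Cfsg.baumannSubgroup p G).Normal›.conj_mem b hb' e) (inv_mem hb')

/-- `[E, Ω₁(Z(T))] ≠ 1` for every Sylow subgroup `T`. -/
theorem commutator_center_ne_bot (T : Sylow p G) :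
    ⁅E, Cfsg.omegaOneCenter p (T : Subgroup G)⁆ ≠ ⊥ := by
  classical
  intro h0
  obtain ⟨y, hy, hyE, hfix⟩ := exists_lift hG hE hEs ((T : Subgroup G) ⊓ normalizer (E : Set G))
    (T.2.to_le inf_le_left) inf_le_right
  haveI := vv_normal (G := G) (p := p)
  letI : CommGroup ↥(VV p G) :=
    { (inferInstance : Group ↥(VV p G)) with
      mul_comm := fun a b => Subtype.ext (vv_commute a.2 (omegaOneCenter_le _ b.2)) }
  set P := ((T : Subgroup G) ⊓ normalizer (E : Set G)).subgroupOf (T : Subgroup G) with hP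
  letI : Fintype (↥(T : Subgroup G) ⧸ P) := Fintype.ofFinite _
  let t : ↥(T : Subgroup G) → ↥(VV p G) := fun g =>
    ⟨(g : G) * y * (g : G)⁻¹, ‹(VV p G).Normal›.conj_mem y (we_le_vv hG hE hy) g⟩
  have hwell : ∀ g, t (QuotientGroup.mk g : ↥(T : Subgroup G) ⧸ P).out = t g := fun g => by
    obtain ⟨l, hl⟩ := QuotientGroup.mk_out_eq_mul P g
    rw [hl]
    apply Subtype.ext
    show ((g : G) * ((l : ↥(T : Subgroup G)) : G)) * y * ((g : G) * ((l : ↥(T : Subgroup G)) : G))⁻¹ = _
    calc _ = (g : G) * (((l : ↥(T : Subgroup G)) : G) * y * ((l : ↥(T : Subgroup G)) : G)⁻¹) * (g : G)⁻¹ := by group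
      _ = _ := by rw [hfix _ (mem_subgroupOf.1 l.2), mul_inv_cancel_right]
  set c : ↥(VV p G) := ∏ q : ↥(T : Subgroup G) ⧸ P, t q.out with hc
  have hinv : ∀ g : ↥(T : Subgroup G), (g : G) * (c : G) * (g : G)⁻¹ = c := fun g => by
    let φ : ↥(VV p G) →* ↥(VV p G) :=
      { toFun := fun v => ⟨(g : G) * v * (g : G)⁻¹, ‹(VV p G).Normal›.conj_mem v v.2 g⟩
        map_one' := Subtype.ext (by simp)
        map_mul' := fun a b => Subtype.ext (by simp [mul_assoc]) }
    have h : φ c = c := by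
      rw [hc, map_prod]
      refine Fintype.prod_equiv (MulAction.toPerm g) _ _ fun q => ?_
      have h1 : MulAction.toPerm g q = QuotientGroup.mk (g * q.out) := by
        conv_lhs => rw [← q.out_eq']
        rfl
      rw [h1, hwell]
      exact Subtype.ext (by show _ = ((g : G) * (q.out : G)) * y * ((g : G) * (q.out : G))⁻¹; simp [φ, t, mul_assoc])
    exact congrArg Subtype.val h
  have hcZ : (c : G) ∈ Cfsg.omegaOneCenter p (T : Subgroup G) :=
    mem_omegaOneCenter_iff.2 ⟨CfsgLib.Base.pCore_le_sylow T (omegaOneCenter_le _ c.2),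
      mem_centralizer_iff.2 fun g hg => mul_inv_eq_iff_eq_mul.1 (hinv ⟨g, hg⟩), vv_pow c.2⟩
  rw [commutator_comm, commutator_eq_bot_iff_le_centralizer] at h0
  have hcE := h0 hcZ
  -- all terms but `y` are centralized by `E`
  set q₀ : ↥(T : Subgroup G) ⧸ P := QuotientGroup.mk 1 with hq₀
  rw [hc, ← Finset.mul_prod_erase _ _ (Finset.mem_univ q₀)] at hcE
  have hrest : ∏ q ∈ Finset.univ.erase q₀, t q.out ∈ (centralizer (E : Set G)).subgroupOf (VV p G) := by
    refine Subgroup.prod_mem _ fun q hq => mem_subgroupOf.2 ?_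
    have hne : E.map (MulAut.conj ((q.out : ↥(T : Subgroup G)) : G)).toMonoidHom ≠ E := fun h => by
      refine Finset.ne_of_mem_erase hq ?_
      rw [hq₀, ← q.out_eq', QuotientGroup.eq, mem_subgroupOf]
      refine Subgroup.mem_inf.2 ⟨((q.out)⁻¹ * 1 : ↥(T : Subgroup G)).2, ?_⟩
      rw [Subgroup.coe_mul, InvMemClass.coe_inv, OneMemClass.coe_one, mul_one]
      exact inv_mem (mem_normalizer_iff_map_conj_eq.2 h)
    have h1E : E.map (MulAut.conj (1 : G)).toMonoidHom = E := by ext x; simp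
    have hcc := conj_commute hG hE hEs ((q.out : ↥(T : Subgroup G)) : G) 1 (by rwa [h1E])
    rw [h1E] at hcc
    exact hcc ⟨y, we_le_self E hy, rfl⟩
  refine hyE ?_
  have hy1 : ((t q₀.out : ↥(VV p G)) : G) = y := by rw [hq₀, hwell]; simp [t]
  have := mul_mem hcE (inv_mem (mem_subgroupOf.1 hrest))
  rwa [Subgroup.coe_mul, mul_inv_cancel_right, hy1] at this

/-- A subnormal block is a block for every Sylow subgroup. -/
theorem block_of_sylow (T : Sylow p G) : Cfsg.IsBaumannBlock p (T : Subgroup G) E := by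
  haveI hn := baumannSubgroup_normal (G := G) (p := p)
  set BG := Cfsg.baumannSubgroup p G with hBG
  obtain ⟨h, hh, hconj⟩ := exists_map_conj_eq_of_sylow_in (p := p) (P := (T₀ : Subgroup G) ⊓ BG)
    (Q := (T : Subgroup G) ⊓ BG) inf_le_right inf_le_right (T₀.2.to_le inf_le_left) (T.2.to_le inf_le_left)
    (not_dvd_relIndex_sylow_inf T₀ BG) (not_dvd_relIndex_sylow_inf T BG)
  obtain ⟨T', hT', hblock⟩ := exists_block_conj hE h
  have hEh : E.map (MulAut.conj h).toMonoidHom = E :=
    mem_normalizer_iff_map_conj_eq.1 (baumann_le_normalizer_all hG hE hEs hh)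
  rw [hEh] at hblock
  have hBGh : BG.map (MulAut.conj h).toMonoidHom = BG :=
    mem_normalizer_iff_map_conj_eq.1 (mem_normalizer_of_normal h)
  have hcap : (T' : Subgroup G) ⊓ BG = (T : Subgroup G) ⊓ BG := by
    rw [← hconj, Subgroup.map_inf _ _ _ (MulAut.conj h).injective, hBGh, hT']
  have hle : ∀ S : Sylow p G, Cfsg.baumannSubgroupOf p (S : Subgroup G) ≤ (S : Subgroup G) ⊓ BG := fun S =>
    le_inf inf_le_left (le_iSup (fun T : Sylow p G => Cfsg.baumannSubgroupOf p (T : Subgroup G)) S)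
  have hB := baumann_eq_of_le T' T ((hle T').trans (hcap.le.trans inf_le_left))
    ((hle T).trans (hcap.ge.trans inf_le_left))
  obtain ⟨b1, b2, b3, -, b5⟩ := hblock
  refine ⟨b1, hB ▸ b2, b3, commutator_center_ne_bot hG hE hEs T, ?_⟩
  rwa [hB] at b5

end CfsgLib.LocalEven.Baumann
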