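import Cfsg.Agent.Lib.LocalEven.Baumann.Autom

/-!
The Thompson subgroup of every Sylow subgroup normalizes each subnormal block.
-/

set_option autoImplicit false
set_option linter.unusedSectionVars false

namespace CfsgLib.LocalEven.Baumann

open Subgroup CfsgLib.LocalEven CfsgLib.PLocal
open scoped commutatorElement

variable {G : Type*} [Group G] [Finite G] {p : ℕ} [Fact p.Prime]

theorem two_mul_pow_ge {w n : ℕ} (hw : 4 ≤ w) (hn : 2 ≤ n) : n ≤ 2 * w ^ (n - 2) := by
  induction n, hn using Nat.le_induction with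
  | base => simp
  | succ n hn ih =>
    rw [show n + 1 - 2 = (n - 2) + 1 by omega, pow_succ]
    have : 1 ≤ w ^ (n - 2) := Nat.one_le_pow _ _ (by omega)
    nlinarith

theorem two_mul_card_le {A B : Subgroup G} (h : A ≤ B) (hne : A ≠ B) : 2 * Nat.card A ≤ Nat.card B := by
  have hlt : Nat.card A < Nat.card B :=
    Set.Finite.card_lt_card (Set.toFinite _) (SetLike.coe_ssubset_coe.2 (lt_of_le_of_ne h hne))
  obtain ⟨k, hk⟩ := Subgroup.card_dvd_of_le h
  rw [hk] at hlt ⊢
  rcases k with _ | _ | k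
  · simp at hlt
  · simp at hlt
  · rw [mul_comm]; exact Nat.mul_le_mul_left _ (by omega)

theorem eq_of_sup_le {W N M : Subgroup G} (h1 : W ≤ M) (h2 : N ≤ M) (h3 : M ≤ W ⊔ N) : W ⊔ N = M :=
  le_antisymm (sup_le h1 h2) h3

variable {T₀ : Sylow p G} {E : Subgroup G}
variable (hG : centralizer (Cfsg.pCore p G : Set G) ≤ Cfsg.pCore p G)
  (hE : Cfsg.IsBaumannBlock p (T₀ : Subgroup G) E) (hEs : E.IsSubnormal)
include hG hE hEs

/-- The conjugates of a subnormal block under a group commute pairwise. -/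
theorem conj_commute (g h : G) (hne : E.map (MulAut.conj g).toMonoidHom ≠ E.map (MulAut.conj h).toMonoidHom) :
    E.map (MulAut.conj g).toMonoidHom ≤ centralizer ((E.map (MulAut.conj h).toMonoidHom : Subgroup G) : Set G) := by
  obtain ⟨T₁, -, h1⟩ := exists_block_conj hE g
  obtain ⟨T₂, -, h2⟩ := exists_block_conj hE h
  rw [← commutator_eq_bot_iff_le_centralizer]
  exact (eq_or_commute hG h1 h2 (isSubnormal_map_conj hEs g) (isSubnormal_map_conj hEs h)).resolve_left hne

/-- Whatever centralizes `W_E` normalizes the block or moves it to a commuting one: so it normalizes it. -/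
theorem mem_normalizer_of_centralizes_we {g : G} (hg : g ∈ centralizer (WE p E : Set G)) :
    g ∈ normalizer (E : Set G) := by
  rw [mem_normalizer_iff_map_conj_eq]
  by_contra hne
  have h1 : E.map (MulAut.conj (1 : G)).toMonoidHom = E := by ext x; simp
  have hc := conj_commute hG hE hEs g 1 (fun h => hne (h.trans h1))
  rw [h1] at hc
  refine we_not_le_zz hG hE fun w hw => ⟨we_le_ww E hw, hc ⟨w, we_le_self E hw, ?_⟩⟩
  show g * w * g⁻¹ = w
  rw [← mem_centralizer_iff.1 hg w hw, mul_inv_cancel_right]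

/-- Every elementary abelian subgroup of largest order of a Sylow subgroup normalizes `E`. -/
theorem max_le_normalizer {T : Sylow p G} {A : Subgroup G} (hA : A ∈ maxEAOf p (T : Subgroup G)) :
    A ≤ normalizer (E : Set G) := by
  classical
  by_contra hcon
  obtain ⟨hAT, ⟨hAc, hAp⟩, hmax⟩ := id hA
  have hab : ∀ a ∈ A, ∀ b ∈ A, a * b = b * a := fun a ha b hb =>
    congrArg Subtype.val (hAc.is_comm.comm ⟨a, ha⟩ ⟨b, hb⟩)
  obtain ⟨w, hw4, hWcard, hbound⟩ := card_act_lt hG hE
  let conjE : G → Subgroup G := fun g => E.map (MulAut.conj g).toMonoidHom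
  let O : Finset (Subgroup G) := (Set.toFinite (conjE '' (A : Set G))).toFinset
  have hO : ∀ X, X ∈ O ↔ ∃ a ∈ A, conjE a = X := fun X => by simp [O]
  have h1E : conjE 1 = E := by show E.map _ = E; ext x; simp
  have hEO : E ∈ O := (hO E).2 ⟨1, one_mem _, h1E⟩
  set A₀ := A ⊓ normalizer (E : Set G) with hA₀
  -- the orbit has at least `|A : A₀|` members, and at least two
  have hn2 : 2 ≤ O.card := by
    obtain ⟨a, ha, haN⟩ := SetLike.not_le_iff_exists.1 hcon
    refine Finset.one_lt_card.2 ⟨E, hEO, conjE a, (hO _).2 ⟨a, ha, rfl⟩, fun h => haN ?_⟩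
    exact mem_normalizer_iff_map_conj_eq.2 h.symm
  have hidx : Nat.card A ≤ O.card * Nat.card A₀ := by
    have h1 := (A₀.subgroupOf A).card_mul_index
    rw [Nat.card_congr (subgroupOfEquivOfLe (inf_le_left : A₀ ≤ A)).toEquiv, index_eq_card] at h1
    rw [← h1, mul_comm]
    refine Nat.mul_le_mul_right _ ?_
    rw [← Nat.card_eq_finsetCard]
    refine Nat.card_le_card_of_injective (fun x => ⟨conjE (x.out : ↥A), (hO _).2 ⟨_, (x.out).2, rfl⟩⟩) fun x y e => ?_
    rw [← x.out_eq', ← y.out_eq', QuotientGroup.eq, mem_subgroupOf]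
    refine Subgroup.mem_inf.2 ⟨((x.out)⁻¹ * y.out : ↥A).2, mem_normalizer_iff_map_conj_eq.2 ?_⟩
    have e' : conjE (x.out : ↥A) = conjE (y.out : ↥A) := congrArg Subtype.val e
    have := congrArg (Subgroup.map (MulAut.conj ((x.out : ↥A) : G)⁻¹).toMonoidHom) e'
    simp only [conjE, Subgroup.map_map] at this
    refine (?_ : _ = _).trans (this.symm.trans ?_)
    · congr 1; ext z; simp [mul_assoc]
    · ext z; simp [mul_assoc]
  -- blocks of the orbit
  have hblock : ∀ X ∈ O, ∃ T' : Sylow p G, Cfsg.IsBaumannBlock p (T' : Subgroup G) X := fun X hX => by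
    obtain ⟨a, -, rfl⟩ := (hO X).1 hX
    obtain ⟨T', -, h⟩ := exists_block_conj hE a
    exact ⟨T', h⟩
  have hcomm : ∀ X ∈ O, ∀ Y ∈ O, X ≠ Y → WE p Y ≤ centralizer (X : Set G) := fun X hX Y hY hne => by
    obtain ⟨a, -, rfl⟩ := (hO X).1 hX
    obtain ⟨b, -, rfl⟩ := (hO Y).1 hY
    exact (we_le_self _).trans (conj_commute hG hE hEs b a hne.symm)
  set M := O.sup fun X => WE p X with hM
  have hWM : ∀ X ∈ O, WE p X ≤ M := fun X hX => Finset.le_sup (f := fun X => WE p X) hX
  have hMV : M ≤ VV p G := Finset.sup_le fun X hX => by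
    obtain ⟨T', h⟩ := hblock X hX
    exact we_le_vv hG h
  have hMab : ∀ x ∈ M, ∀ y ∈ M, x * y = y * x := fun x hx y hy => vv_commute (hMV hx) (omegaOneCenter_le _ (hMV hy))
  have hMe : Cfsg.IsElementaryAbelian p M :=
    ⟨⟨⟨fun a b => Subtype.ext (hMab a a.2 b b.2)⟩⟩, fun a ha => vv_pow (hMV ha)⟩
  have hMT : M ≤ (T : Subgroup G) :=
    hMV.trans ((omegaOneCenter_le _).trans (CfsgLib.Base.pCore_le_sylow T))
  have hnorm : ∀ {X Y : Subgroup G}, X ≤ M → Y ≤ M → X ≤ normalizer (Y : Set G) := fun hX hY =>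
    hX.trans (le_normalizer_of_abelian hMe.1 hY)
  have hconjW : ∀ a : G, WE p (conjE a) = (WE p E).map (MulAut.conj a).toMonoidHom := fun a => (map_WE _ E).symm
  -- `|M| = w |M ∩ C(X)|`
  have hone : ∀ X ∈ O, Nat.card M = w * Nat.card ↥(M ⊓ centralizer (X : Set G)) := by
    intro X hX
    obtain ⟨a, -, rfl⟩ := (hO X).1 hX
    have hsup : WE p (conjE a) ⊔ (M ⊓ centralizer (conjE a : Set G)) = M := by
      refine eq_of_sup_le (hWM _ hX) inf_le_left (Finset.sup_le fun Y hY => ?_)
      by_cases hYX : Y = conjE a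
      · rw [hYX]; exact le_sup_left
      · exact (le_inf (hWM Y hY) (hcomm _ hX Y hY (Ne.symm hYX))).trans le_sup_right
    have h := card_sup_mul_card_inf (WE p (conjE a)) (M ⊓ centralizer (conjE a : Set G))
      (hnorm (hWM _ hX) inf_le_left)
    have h2 : WE p (conjE a) ⊓ (M ⊓ centralizer (conjE a : Set G)) =
        (WE p E ⊓ ZZ p E).map (MulAut.conj a).toMonoidHom := by
      rw [Subgroup.map_inf _ _ _ (MulAut.conj a).injective, Subgroup.map_inf _ _ _ (MulAut.conj a).injective,
        map_centralizer', ← hconjW, ← inf_assoc (WE p (conjE a)) M, inf_eq_left.2 (hWM _ hX), ← inf_assoc]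
      congr 1
      exact (inf_eq_left.2 (by rw [hconjW]; exact map_mono (we_le_ww E))).symm
    rw [hsup, h2, card_map_of_injective (MulAut.conj a).injective, hconjW,
      card_map_of_injective (MulAut.conj a).injective, hWcard] at h
    refine Nat.eq_of_mul_eq_mul_right (Nat.card_pos (α := ↥(WE p E ⊓ ZZ p E))) ?_
    rw [h]; ring
  have hall : ∀ s ⊆ O, Nat.card ↥(M ⊓ s.inf fun X => centralizer (X : Set G)) * w ^ s.card = Nat.card M := by
    intro s hs
    induction s using Finset.induction_on with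
    | empty => simp
    | @insert X s hXs ih =>
      have hX : X ∈ O := hs (Finset.mem_insert_self _ _)
      have hsO : s ⊆ O := (Finset.subset_insert _ _).trans hs
      set Ns := M ⊓ s.inf fun Y => centralizer (Y : Set G) with hNs
      have hWN : WE p X ≤ Ns := le_inf (hWM X hX) (Finset.le_inf fun Y hY =>
        hcomm Y (hsO hY) X hX (fun e => hXs (e ▸ hY)))
      have hsup : Ns ⊔ (M ⊓ centralizer (X : Set G)) = M := by
        refine eq_of_sup_le inf_le_left inf_le_left (Finset.sup_le fun Y hY => ?_)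
        by_cases hYX : Y = X
        · rw [hYX]; exact hWN.trans le_sup_left
        · exact (le_inf (hWM Y hY) (hcomm _ hX Y hY (Ne.symm hYX))).trans le_sup_right
      have h := card_sup_mul_card_inf Ns (M ⊓ centralizer (X : Set G)) (hnorm inf_le_left inf_le_left)
      have h2 : Ns ⊓ (M ⊓ centralizer (X : Set G)) =
          M ⊓ (insert X s).inf fun Y => centralizer (Y : Set G) := by
        rw [hNs, Finset.inf_insert]
        ac_rfl
      rw [hsup, h2] at h
      have hpos := Nat.card_pos (α := ↥(M ⊓ centralizer (X : Set G)))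
      refine Nat.eq_of_mul_eq_mul_left hpos ?_
      rw [Finset.card_insert_of_notMem hXs, pow_succ]
      calc Nat.card ↥(M ⊓ centralizer (X : Set G)) *
            (Nat.card ↥(M ⊓ (insert X s).inf fun Y => centralizer (Y : Set G)) * (w ^ s.card * w))
          = (w * Nat.card ↥(M ⊓ centralizer (X : Set G))) *
              Nat.card ↥(M ⊓ (insert X s).inf fun Y => centralizer (Y : Set G)) * w ^ s.card := by ring
        _ = Nat.card Ns * Nat.card ↥(M ⊓ centralizer (X : Set G)) * w ^ s.card := by rw [← hone X hX, h]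
        _ = _ := by rw [← ih hsO]; ring
  set N := M ⊓ O.inf fun X => centralizer (X : Set G) with hN
  have hNcard := hall O (Finset.Subset.refl _)
  rw [← hN] at hNcard
  set N₁ := M ⊓ centralizer (E : Set G) with hN₁
  have hN₁card := hone E hEO
  rw [← hN₁] at hN₁card
  set C := M ⊓ centralizer (A : Set G) with hC
  have hCN : C ⊓ N₁ ≤ N := fun x hx => Subgroup.mem_inf.2 ⟨hx.1.1,
    (Finset.le_inf (s := O) (f := fun X : Subgroup G => centralizer (X : Set G)) fun X hX =>
      (?_ : C ⊓ N₁ ≤ centralizer (X : Set G))) hx⟩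
  swap
  · obtain ⟨a, ha, rfl⟩ := (hO X).1 hX
    intro x hx
    rw [mem_centralizer_iff]
    rintro _ ⟨e, he, rfl⟩
    have h1 := mem_centralizer_iff.1 hx.1.2 a ha
    have h2 := mem_centralizer_iff.1 hx.2.2 e he
    show a * e * a⁻¹ * x = x * (a * e * a⁻¹)
    have h1' : a⁻¹ * x = x * a⁻¹ := mem_centralizer_iff.1 hx.1.2 _ (inv_mem ha)
    calc a * e * a⁻¹ * x = a * (e * x) * a⁻¹ := by rw [mul_assoc _ a⁻¹ x, h1']; group
      _ = (a * x) * (e * a⁻¹) := by rw [h2]; group
      _ = _ := by rw [h1]; group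
  set K := A ⊓ centralizer (WE p E : Set G) with hK
  have hKM : M ≤ centralizer (K : Set G) := Finset.sup_le fun X hX => by
    obtain ⟨a, ha, rfl⟩ := (hO X).1 hX
    show WE p (conjE a) ≤ _
    rw [hconjW]
    rintro _ ⟨u, hu, rfl⟩
    rw [mem_centralizer_iff]
    intro k hk
    have h1 := hab k hk.1 a ha
    have h1' := hab k hk.1 _ (inv_mem ha)
    have h2 := mem_centralizer_iff.1 hk.2 u hu
    show k * (a * u * a⁻¹) = a * u * a⁻¹ * k
    calc k * (a * u * a⁻¹) = (k * a) * u * a⁻¹ := by group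
      _ = a * (k * u) * a⁻¹ := by rw [h1]; group
      _ = a * u * (k * a⁻¹) := by rw [← h2]; group
      _ = _ := by rw [h1']; group
  have hoff := (isBestOffenderOn_of_maxEAOf hMe hMT hA).1 K inf_le_left
  rw [inf_eq_left.2 hKM, ← hC] at hoff
  have hKA₀ : A₀ ⊓ centralizer (WE p E : Set G) = K :=
    le_antisymm (inf_le_inf_right _ inf_le_left)
      (fun k hk => ⟨⟨hk.1, mem_normalizer_of_centralizes_we hG hE hEs hk.2⟩, hk.2⟩)
  have hA₀ab : IsMulCommutative A₀ := ⟨⟨fun a b => Subtype.ext (hab a a.2.1 b b.2.1)⟩⟩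
  have hsC := card_sup_mul_card_inf C N₁ (hnorm inf_le_left inf_le_left)
  have hKpos := Nat.card_pos (α := K)
  have hNpos := Nat.card_pos (α := N)
  have hN₁pos := Nat.card_pos (α := N₁)
  have hle1 : Nat.card C * Nat.card N₁ ≤ Nat.card ↥(C ⊔ N₁) * Nat.card N := by
    rw [← hsC]; exact Nat.mul_le_mul_left _ (Subgroup.card_le_of_le hCN)
  obtain ⟨k, hk⟩ : ∃ k, O.card = k + 2 := ⟨O.card - 2, by omega⟩
  have hpw := two_mul_pow_ge hw4 hn2
  rw [hk] at hpw hNcard
  rw [show k + 2 - 2 = k from rfl] at hpw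
  have hwk : 1 ≤ w ^ k := Nat.one_le_pow _ _ (by omega)
  by_cases htriv : A₀ ≤ centralizer (WE p E : Set G)
  · -- `A₀` acts trivially
    have hA₀K : A₀ = K := (inf_eq_left.2 htriv).symm.trans hKA₀
    have h1 : Nat.card M ≤ O.card * Nat.card C := by
      refine Nat.le_of_mul_le_mul_left (hoff.trans ?_) hKpos
      rw [hA₀K] at hidx
      calc Nat.card A * Nat.card C ≤ O.card * Nat.card K * Nat.card C := Nat.mul_le_mul_right _ hidx
        _ = _ := by ring
    have h2 : Nat.card C ≤ w * Nat.card N := by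
      refine Nat.le_of_mul_le_mul_right (hle1.trans ?_) hN₁pos
      calc Nat.card ↥(C ⊔ N₁) * Nat.card N ≤ Nat.card M * Nat.card N :=
            Nat.mul_le_mul_right _ (Subgroup.card_le_of_le (sup_le inf_le_left inf_le_left))
        _ = _ := by rw [hN₁card]; ring
    have h3 : Nat.card N * (w ^ k * w) * w ≤ Nat.card N * (k + 2) * w := by
      calc Nat.card N * (w ^ k * w) * w = Nat.card M := by rw [← hNcard]; ring
        _ ≤ (k + 2) * (w * Nat.card N) := by rw [← hk]; exact h1.trans (Nat.mul_le_mul_left _ h2)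
        _ = _ := by ring
    have h4 := Nat.le_of_mul_le_mul_left (Nat.le_of_mul_le_mul_right h3 (by omega)) hNpos
    nlinarith
  · have h1 : Nat.card M < O.card * w * Nat.card C := by
      refine Nat.lt_of_mul_lt_mul_left (a := Nat.card K) (lt_of_le_of_lt hoff ?_)
      have hb := hbound A₀ inf_le_right hA₀ab fun a ha => hAp a ha.1
      rw [hKA₀] at hb
      calc Nat.card A * Nat.card C ≤ O.card * Nat.card A₀ * Nat.card C := Nat.mul_le_mul_right _ hidx
        _ < O.card * (Nat.card K * w) * Nat.card C := by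
            refine Nat.mul_lt_mul_of_pos_right (Nat.mul_lt_mul_of_pos_left hb (by omega)) Nat.card_pos
        _ = _ := by ring
    have hproper : C ⊔ N₁ ≠ M := by
      intro hfull
      refine htriv fun a ha => centralizes_we_of_trivial hG hE ha.2 fun u hu => ?_
      have hWE : ∀ v ∈ WE p E, a * v * a⁻¹ * v⁻¹ ∈ ZZ p E := fun v hv => by
        refine Subgroup.mem_inf.2 ⟨mul_mem ((mem_normalizer_iff.1 (mem_normalizer_WW ha.2) v).1 (we_le_ww E hv))
          (inv_mem (we_le_ww E hv)), ?_⟩
        have hv' := hWM E hEO hv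
        rw [← hfull, ← SetLike.mem_coe, coe_mul_of_left_le_normalizer_right C N₁
          (hnorm inf_le_left inf_le_left)] at hv'
        obtain ⟨c, hc, x, hx, rfl⟩ := Set.mem_mul.1 hv'
        have hax : a * x * a⁻¹ ∈ centralizer (E : Set G) :=
          (mem_normalizer_iff.1 (normalizer_le_normalizer_centralizer _ ha.2) x).1 hx.2
        have hca : a * c * a⁻¹ = c := by rw [mem_centralizer_iff.1 hc.2 a ha.1, mul_inv_cancel_right]
        rw [show a * (c * x) * a⁻¹ * (c * x)⁻¹ = (a * c * a⁻¹) * ((a * x * a⁻¹) * x⁻¹) * c⁻¹ by group, hca]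
        have hm : a * x * a⁻¹ * x⁻¹ ∈ centralizer (E : Set G) := mul_mem hax (inv_mem hx.2)
        -- `c` commutes with it
        have hmM : c * (a * x * a⁻¹ * x⁻¹) * c⁻¹ = a * x * a⁻¹ * x⁻¹ := by
          have hxV : x ∈ VV p G := hMV hx.1
          have haxV : a * x * a⁻¹ * x⁻¹ ∈ VV p G :=
            mul_mem ((vv_normal (G := G) (p := p)).conj_mem x hxV a) (inv_mem hxV)
          rw [vv_commute (hMV hc.1) (omegaOneCenter_le _ haxV), mul_inv_cancel_right]
        rw [hmM]; exact hm
      rw [ww_eq_sup hG hE, ← SetLike.mem_coe, coe_mul_of_left_le_normalizer_right (WE p E) (ZZ p E)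
        (fun x hx => mem_normalizer_ZZ (le_normalizer (we_le_self E hx)))] at hu
      obtain ⟨v, hv, z, hz, rfl⟩ := Set.mem_mul.1 hu
      have hz' : a * z * a⁻¹ * z⁻¹ ∈ ZZ p E :=
        mul_mem ((mem_normalizer_iff.1 (mem_normalizer_ZZ ha.2) z).1 hz) (inv_mem hz)
      have hcz : v * (a * z * a⁻¹ * z⁻¹) * v⁻¹ = a * z * a⁻¹ * z⁻¹ := by
        rw [← zz_commute hz' (we_le_self E hv), mul_inv_cancel_right]
      rw [show a * (v * z) * a⁻¹ * (v * z)⁻¹
        = (a * v * a⁻¹ * v⁻¹) * (v * (a * z * a⁻¹ * z⁻¹) * v⁻¹) by group, hcz]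
      exact mul_mem (hWE v hv) hz'
    have h2 : 2 * Nat.card C ≤ w * Nat.card N := by
      refine Nat.le_of_mul_le_mul_right ?_ hN₁pos
      calc 2 * Nat.card C * Nat.card N₁ ≤ 2 * (Nat.card ↥(C ⊔ N₁) * Nat.card N) := by
            rw [mul_assoc]; exact Nat.mul_le_mul_left _ hle1
        _ ≤ Nat.card M * Nat.card N := by
            rw [← mul_assoc]
            exact Nat.mul_le_mul_right _ (two_mul_card_le (sup_le inf_le_left inf_le_left) hproper)
        _ = _ := by rw [hN₁card]; ring
    have h3 : 2 * Nat.card M < (k + 2) * w * (w * Nat.card N) := by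
      calc 2 * Nat.card M < 2 * (O.card * w * Nat.card C) := Nat.mul_lt_mul_of_pos_left h1 (by norm_num)
        _ = (k + 2) * w * (2 * Nat.card C) := by rw [hk]; ring
        _ ≤ _ := Nat.mul_le_mul_left _ h2
    have h4 : Nat.card N * (w * w) * (2 * w ^ k) < Nat.card N * (w * w) * (k + 2) := by
      calc Nat.card N * (w * w) * (2 * w ^ k) = 2 * Nat.card M := by rw [← hNcard]; ring
        _ < _ := h3
        _ = _ := by ring
    exact absurd (Nat.lt_of_mul_lt_mul_left h4) (not_lt.2 hpw)

/-- The Thompson subgroup of every Sylow subgroup normalizes every subnormal block. -/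
theorem thompson_le_normalizer (T : Sylow p G) :
    Cfsg.thompsonSubgroupOf p (T : Subgroup G) ≤ normalizer (E : Set G) := by
  rw [thompsonSubgroupOf_eq_sSup]
  exact sSup_le fun A hA => max_le_normalizer hG hE hEs hA

end CfsgLib.LocalEven.Baumann
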