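import Cfsg.Agent.Lib.LocalEven.Baumann.Quot
import Cfsg.Agent.Lib.Coprime.Action2

/-!
Small tools: quadratic action from the generators, stabilizers of chains, elements of a coset of `-1`.
-/

set_option autoImplicit false
set_option linter.unusedSectionVars false

namespace CfsgLib.LocalEven.Baumann

open Subgroup CfsgLib.LocalEven
open scoped commutatorElement

variable {G : Type*} [Group G]

/-- Quadratic action modulo `Z` of a cyclic group, checked on the generator. -/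
theorem commutator_commutator_le_of_quad {Q Z : Subgroup G} {b : G} (hbQ : b ∈ normalizer (Q : Set G))
    (hbZ : b ∈ normalizer (Z : Set G)) (hQZ : Q ≤ normalizer (Z : Set G))
    (hab : ∀ x ∈ Q, ∀ y ∈ Q, x * y * x⁻¹ * y⁻¹ ∈ Z)
    (h : ∀ q ∈ Q, b * (b * q * b⁻¹ * q⁻¹) * b⁻¹ * (b * q * b⁻¹ * q⁻¹)⁻¹ ∈ Z) :
    ⁅⁅Q, zpowers b⁆, zpowers b⁆ ≤ Z := by
  have hbn : ∀ q ∈ Q, b * q * b⁻¹ ∈ Q := fun q hq => (mem_normalizer_iff.1 hbQ q).1 hq
  have hbn' : ∀ q ∈ Q, b⁻¹ * q * b ∈ Q := fun q hq => by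
    have := (mem_normalizer_iff.1 (inv_mem hbQ) q).1 hq; simpa using this
  have hbz : ∀ z ∈ Z, b * z * b⁻¹ ∈ Z := fun z hz => (mem_normalizer_iff.1 hbZ z).1 hz
  have hQc : ∀ q ∈ Q, ∀ z ∈ Z, q * z * q⁻¹ ∈ Z := fun q hq z hz => (mem_normalizer_iff.1 (hQZ hq) z).1 hz
  -- the elements of `Q` fixed modulo `Z`
  let Y : Subgroup G :=
    { carrier := {y | y ∈ Q ∧ b * y * b⁻¹ * y⁻¹ ∈ Z}
      one_mem' := ⟨one_mem _, by simp⟩
      mul_mem' := fun {x y} hx hy => ⟨mul_mem hx.1 hy.1, by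
        rw [show b * (x * y) * b⁻¹ * (x * y)⁻¹
          = (b * x * b⁻¹ * x⁻¹) * (x * (b * y * b⁻¹ * y⁻¹) * x⁻¹) by group]
        exact mul_mem hx.2 (hQc x hx.1 _ hy.2)⟩
      inv_mem' := fun {x} hx => ⟨inv_mem hx.1, by
        rw [show b * x⁻¹ * b⁻¹ * x⁻¹⁻¹ = x⁻¹ * (b * x * b⁻¹ * x⁻¹)⁻¹ * x⁻¹⁻¹ by group]
        exact hQc _ (inv_mem hx.1) _ (inv_mem hx.2)⟩ }
  have hbY : ∀ y ∈ Y, b * y * b⁻¹ ∈ Y := fun y hy => ⟨hbn y hy.1, by
    rw [show b * (b * y * b⁻¹) * b⁻¹ * (b * y * b⁻¹)⁻¹ = b * (b * y * b⁻¹ * y⁻¹) * b⁻¹ by group]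
    exact hbz _ hy.2⟩
  -- powers of `b` move `Q` inside `Y`
  have hc : ∀ q ∈ Q, ∀ y ∈ Y, q * y * q⁻¹ ∈ Y := fun q hq y hy => ⟨mul_mem (mul_mem hq hy.1) (inv_mem hq), by
    have e : q * y * q⁻¹ = (q * y * q⁻¹ * y⁻¹) * y := by group
    set z := q * y * q⁻¹ * y⁻¹ with hz
    rw [e, show b * (z * y) * b⁻¹ * (z * y)⁻¹ = (b * z * b⁻¹) * (b * y * b⁻¹ * y⁻¹) * z⁻¹ by group]
    exact mul_mem (mul_mem (hbz _ (hab q hq y hy.1)) hy.2) (inv_mem (hab q hq y hy.1))⟩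
  have hpow : ∀ n : ℕ, ∀ q ∈ Q, q * b ^ n * q⁻¹ * (b ^ n)⁻¹ ∈ Y := by
    intro n
    induction n with
    | zero => intro q hq; simp
    | succ n ih =>
      intro q hq
      have h1 : b * q * b⁻¹ * q⁻¹ ∈ Y := ⟨mul_mem (hbn q hq) (inv_mem hq), h q hq⟩
      rw [show q * b ^ (n + 1) * q⁻¹ * (b ^ (n + 1))⁻¹
        = (b * q * b⁻¹ * q⁻¹)⁻¹ * (b * (q * b ^ n * q⁻¹ * (b ^ n)⁻¹) * b⁻¹) by
          rw [pow_succ']; group]
      exact mul_mem (inv_mem h1) (hbY _ (ih q hq))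
  have hbinv : ∀ q ∈ Q, q * b⁻¹ * q⁻¹ * b ∈ Y := fun q hq => by
    have h1 : b * (b⁻¹ * q * b) * b⁻¹ * (b⁻¹ * q * b)⁻¹ ∈ Y :=
      ⟨mul_mem (hbn _ (hbn' q hq)) (inv_mem (hbn' q hq)), h _ (hbn' q hq)⟩
    convert h1 using 1
    group
  have hbYinv : ∀ y ∈ Y, b⁻¹ * y * b ∈ Y := fun y hy => ⟨hbn' y hy.1, by
    rw [show b * (b⁻¹ * y * b) * b⁻¹ * (b⁻¹ * y * b)⁻¹ = b⁻¹ * (b * y * b⁻¹ * y⁻¹) * b by group]
    have := (mem_normalizer_iff.1 (inv_mem hbZ) _).1 hy.2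
    simpa using this⟩
  have h1 : ⁅Q, zpowers b⁆ ≤ Y := by
    rw [commutator_le]
    intro q hq g hg
    obtain ⟨j, rfl⟩ := hg
    rw [commutatorElement_def]
    rcases j with n | n
    · simpa using hpow n q hq
    · show q * b ^ (Int.negSucc n) * q⁻¹ * (b ^ (Int.negSucc n))⁻¹ ∈ Y
      rw [zpow_negSucc, inv_inv]
      clear hpow
      induction n generalizing q with
      | zero => simpa using hbinv q hq
      | succ n ih =>
        rw [show q * (b ^ (n + 1 + 1))⁻¹ * q⁻¹ * b ^ (n + 1 + 1)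
          = (q * b⁻¹ * q⁻¹ * b) * (b⁻¹ * (q * (b ^ (n + 1))⁻¹ * q⁻¹ * b ^ (n + 1)) * b) by
            rw [pow_succ b (n + 1)]; group]
        exact mul_mem (hbinv q hq) (hbYinv _ (ih q hq))
  refine (commutator_mono h1 le_rfl).trans ?_
  rw [commutator_le]
  intro y hy g hg
  let P : Subgroup G :=
    { carrier := {g | (∀ z ∈ Z, g * z * g⁻¹ ∈ Z) ∧ (∀ z ∈ Z, g⁻¹ * z * g ∈ Z) ∧ g * y * g⁻¹ * y⁻¹ ∈ Z}
      one_mem' := ⟨by simp, by simp, by simp⟩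
      mul_mem' := fun {a c} ha hc => ⟨fun z hz => by
          rw [show a * c * z * (a * c)⁻¹ = a * (c * z * c⁻¹) * a⁻¹ by group]
          exact ha.1 _ (hc.1 z hz), fun z hz => by
          rw [show (a * c)⁻¹ * z * (a * c) = c⁻¹ * (a⁻¹ * z * a) * c by group]
          exact hc.2.1 _ (ha.2.1 z hz), by
          rw [show a * c * y * (a * c)⁻¹ * y⁻¹ = (a * (c * y * c⁻¹ * y⁻¹) * a⁻¹) * (a * y * a⁻¹ * y⁻¹) by group]
          exact mul_mem (ha.1 _ hc.2.2) ha.2.2⟩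
      inv_mem' := fun {a} ha => ⟨fun z hz => by simpa using ha.2.1 z hz, fun z hz => by simpa using ha.1 z hz, by
          rw [show a⁻¹ * y * a⁻¹⁻¹ * y⁻¹ = a⁻¹ * (a * y * a⁻¹ * y⁻¹)⁻¹ * a by group]
          exact ha.2.1 _ (inv_mem ha.2.2)⟩ }
  have hb : b ∈ P := ⟨hbz, fun z hz => by
    have := (mem_normalizer_iff.1 (inv_mem hbZ) z).1 hz; simpa using this, hy.2⟩
  have := inv_mem ((zpowers_le.2 hb hg).2.2)
  rw [show ⁅y, g⁆ = (g * y * g⁻¹ * y⁻¹)⁻¹ by rw [commutatorElement_def]; group]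
  exact this

variable [Finite G] {p : ℕ} [Fact p.Prime]

/-- An element stabilizing a chain in `O_p(G)` and of `r`-power order modulo `O_p(G)` lies in it. -/
theorem mem_oo_of_chain (hG : centralizer (Cfsg.pCore p G : Set G) ≤ Cfsg.pCore p G) {k : G}
    {r a : ℕ} (hr : r.Coprime p) (hk : k ^ r ^ a ∈ OO p G) (B : Subgroup G) (hB : IsPGroup p B)
    (hfix : ∃ i, k ^ p ^ i ∈ centralizer (B : Set G))
    (hmove : ∀ o ∈ OO p G, k * o * k⁻¹ * o⁻¹ ∈ B) (hBn : k ∈ normalizer (B : Set G)) : k ∈ OO p G := by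
  obtain ⟨i, hi⟩ := hfix
  have hm : ∀ n : ℕ, ∀ o ∈ OO p G, k ^ n * o * (k ^ n)⁻¹ * o⁻¹ ∈ B := fun n => by
    induction n with
    | zero => intro o ho; simp
    | succ n ih =>
      intro o ho
      rw [show k ^ (n + 1) * o * (k ^ (n + 1))⁻¹ * o⁻¹
        = (k * (k ^ n * o * (k ^ n)⁻¹ * o⁻¹) * k⁻¹) * (k * o * k⁻¹ * o⁻¹) by rw [pow_succ']; group]
      exact mul_mem ((mem_normalizer_iff.1 hBn _).1 (ih o ho)) (hmove o ho)
  obtain ⟨j, hj⟩ := exists_pow_mem_centralizer hB (A := (OO p G : Set G)) (hm _) hi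
  have h1 : k ^ (p ^ (i + j)) ∈ OO p G := hG (by rw [pow_add, pow_mul]; exact hj)
  have hcop : (r ^ a).Coprime (p ^ (i + j)) := hr.pow _ _
  obtain ⟨u, v, huv⟩ : ∃ u v : ℤ, (r ^ a : ℕ) * u + (p ^ (i + j) : ℕ) * v = 1 :=
    ⟨_, _, by rw [← Nat.gcd_eq_gcd_ab, hcop.gcd_eq_one]; rfl⟩
  have : k = (k ^ r ^ a) ^ u * (k ^ p ^ (i + j)) ^ v := by
    rw [← zpow_natCast, ← zpow_natCast, ← zpow_mul, ← zpow_mul, ← zpow_add, huv, zpow_one]
  rw [this]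
  exact mul_mem (zpow_mem hk _) (zpow_mem h1 _)

/-- `-1` is a square in the derived group of `SL₂(3)`. -/
theorem exists_sq_eq_neg_one {F : Type} [Field F] [Fintype F] (h : Nat.card F = 3) :
    ∃ r ∈ commutator (Matrix.SpecialLinearGroup (Fin 2) F), (r * r).1 = -1 := by
  have hprime : (Nat.card F).Prime := by rw [h]; norm_num
  haveI : Fact (Nat.Prime 3) := ⟨by norm_num⟩
  haveI : CharP F 3 := charP_of_card_eq_prime (by rw [Fintype.card_eq_nat_card, h])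
  obtain ⟨w, hw⟩ : ∃ w : Matrix.SpecialLinearGroup (Fin 2) F, w.1 = !![0, -1; 1, 0] :=
    ⟨⟨!![0, -1; 1, 0], by simp [Matrix.det_fin_two_of]⟩, rfl⟩
  refine ⟨w, mem_commutator_of_coprime (p := 3) ?_, ?_⟩
  · have h4 : orderOf w ∣ 4 := orderOf_dvd_of_pow_eq_one (by
      apply Subtype.ext
      rw [Matrix.SpecialLinearGroup.coe_pow, Matrix.SpecialLinearGroup.coe_one, hw]
      ext i j
      fin_cases i <;> fin_cases j <;> simp [pow_succ, Matrix.mul_apply, Fin.sum_univ_two])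
    exact Nat.Coprime.coprime_dvd_left h4 (by norm_num)
  · rw [Matrix.SpecialLinearGroup.coe_mul, hw]
    ext i j
    fin_cases i <;> fin_cases j <;> simp [Matrix.mul_apply, Fin.sum_univ_two]

/-- The square of a scalar over at most three elements is one. -/
theorem scalar_sq {F : Type} [Field F] [Fintype F] (h : Nat.card F ≤ 3) {c : F} (hc : c ≠ 0) : c * c = 1 := by
  have h1 := FiniteField.pow_card_sub_one_eq_one c hc
  rw [Fintype.card_eq_nat_card] at h1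
  have h2 := Finite.one_lt_card (α := F)
  interval_cases hq : Nat.card F
  · rw [show (2 : ℕ) - 1 = 1 from rfl, pow_one] at h1
    rw [h1, one_mul]
  · rwa [show (3 : ℕ) - 1 = 2 from rfl, sq] at h1

end CfsgLib.LocalEven.Baumann
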